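import Mathlib

/-!
# Offenders on `𝔽₂`-modules for groups with an abelian normal subgroup of odd order

The abstract setting: a finite group `Γ` acting faithfully (`φ : Γ →* MulAut V` injective) on a
finite elementary abelian `2`-group `V`.

* `transvection_data`: an involution `b` with `|V : C_V(b)| ≤ 2` inverting an element `y ≠ 1` of
  odd order forces `y ^ 3 = 1` and yields `w ≠ 1` in `V` fixed by `b` with `w · wʸ · w^(y²) = 1`
  (the natural `S₃`-module).
* `exists_transvection`: if an elementary abelian `2`-subgroup `A` acts faithfully on an abelian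
  subgroup `Kb` of odd order and is an offender on `V` (`|V| ≤ |A| |C_V(A)|`), then some
  involution `b ∈ A` is a transvection on `V` inverting a nontrivial element of `Kb`.
-/

set_option autoImplicit false

namespace Cfsg.Agent.Lib.Helper2.Offender

variable {Γ V : Type*} [Group Γ] [CommGroup V]

/-- fixed points of a subgroup -/
def fix (φ : Γ →* MulAut V) (B : Subgroup Γ) : Subgroup V where
  carrier := {v | ∀ b ∈ B, φ b v = v}
  mul_mem' := by
    intro v w hv hw b hb
    rw [map_mul, hv b hb, hw b hb]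
  one_mem' := fun b _ => map_one _
  inv_mem' := by
    intro v hv b hb
    rw [map_inv, hv b hb]

/-- fixed points of an element -/
def fixEl (φ : Γ →* MulAut V) (b : Γ) : Subgroup V where
  carrier := {v | φ b v = v}
  mul_mem' := by
    intro v w hv hw
    show φ b (v * w) = v * w
    rw [map_mul, hv, hw]
  one_mem' := map_one _
  inv_mem' := by
    intro v hv
    show φ b v⁻¹ = v⁻¹
    rw [map_inv, hv]

theorem mem_fix (φ : Γ →* MulAut V) (B : Subgroup Γ) (v : V) :
    v ∈ fix φ B ↔ ∀ b ∈ B, φ b v = v := Iff.rfl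

theorem mem_fixEl (φ : Γ →* MulAut V) (b : Γ) (v : V) : v ∈ fixEl φ b ↔ φ b v = v := Iff.rfl

theorem apply_mul (φ : Γ →* MulAut V) (a b : Γ) (v : V) : φ (a * b) v = φ a (φ b v) := by
  rw [map_mul, MulAut.mul_apply]

theorem apply_one (φ : Γ →* MulAut V) (v : V) : φ 1 v = v := by
  rw [map_one, MulAut.one_apply]

theorem apply_pow_fix (φ : Γ →* MulAut V) (a : Γ) (v : V) (h : φ a v = v) (n : ℕ) :
    φ (a ^ n) v = v := by
  induction n with
  | zero => rw [pow_zero, apply_one]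
  | succ n ih => rw [pow_succ, apply_mul, h, ih]

theorem eq_one_of_odd_of_pow {y : Γ} (hyodd : Odd (orderOf y)) (k : ℕ) (h : y ^ 2 ^ k = 1) :
    y = 1 := by
  have h1 : orderOf y ∣ 2 ^ k := orderOf_dvd_of_pow_eq_one h
  have h2 : (orderOf y).Coprime (2 ^ k) := Nat.Coprime.pow_right k (Nat.coprime_two_right.mpr hyodd)
  exact orderOf_eq_one_iff.mp (Nat.Coprime.eq_one_of_dvd h2 h1)

/-- an element of odd order is a power of its square -/
theorem exists_pow_sq {y : Γ} (hyodd : Odd (orderOf y)) : ∃ m : ℕ, (y * y) ^ m = y := by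
  obtain ⟨m, hm⟩ := hyodd
  refine ⟨m + 1, ?_⟩
  rw [← pow_two, ← pow_mul]
  have : 2 * (m + 1) = orderOf y + 1 := by omega
  rw [this, pow_succ, pow_orderOf_eq_one, one_mul]

theorem transvection_data [Finite V]
    (hV2 : ∀ v : V, v * v = 1) (φ : Γ →* MulAut V) (hφ : Function.Injective φ)
    (b y : Γ) (hb : b * b = 1) (hy : y ≠ 1) (hyodd : Odd (orderOf y)) (hby : b * y * b⁻¹ = y⁻¹)
    (htr : Nat.card V ≤ 2 * Nat.card (fixEl φ b)) :
    y ^ 3 = 1 ∧ ∃ w : V, w ≠ 1 ∧ φ b w = w ∧ w * φ y w * φ (y * y) w = 1 := by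
  classical
  have hV2' : ∀ v u : V, v * (v * u) = u := fun v u => by rw [← mul_assoc, hV2, one_mul]
  have hβ2 : ∀ v, φ b (φ b v) = v := fun v => by rw [← apply_mul, hb, apply_one]
  -- the commutator map
  let δ : V →* V :=
    { toFun := fun v => φ b v * v
      map_one' := by simp
      map_mul' := by
        intro v w
        simp only [map_mul]
        exact mul_mul_mul_comm _ _ _ _ }
  have hδ : ∀ v, δ v = φ b v * v := fun v => rfl
  have hker : δ.ker = fixEl φ b := by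
    ext v
    rw [MonoidHom.mem_ker, hδ, mem_fixEl]
    constructor
    · intro h
      have := congrArg (· * v) h
      simpa [mul_assoc, hV2] using this
    · intro h
      rw [h, hV2]
  have hrange : Nat.card δ.range ≤ 2 := by
    have h1 := Subgroup.card_eq_card_quotient_mul_card_subgroup δ.ker
    rw [Nat.card_congr (QuotientGroup.quotientKerEquivRange δ).toEquiv, hker] at h1
    have h2 : 0 < Nat.card (fixEl φ b) := Nat.card_pos
    rw [h1] at htr
    exact Nat.le_of_mul_le_mul_right htr h2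
  -- b ≠ 1
  have hb1 : b ≠ 1 := by
    rintro rfl
    apply hy
    have h1 : y * y = 1 := by
      have : y = y⁻¹ := by simpa using hby
      calc y * y = y * y⁻¹ := by rw [← this]
        _ = 1 := mul_inv_cancel y
    exact eq_one_of_odd_of_pow hyodd 1 (by rw [pow_one, pow_two, h1])
  obtain ⟨v₀, hv₀⟩ : ∃ v₀, φ b v₀ ≠ v₀ := by
    by_contra hcon
    push Not at hcon
    apply hb1
    apply hφ
    ext v
    rw [hcon v, map_one, MulAut.one_apply]
  obtain ⟨e, he⟩ : ∃ e, e = δ v₀ := ⟨_, rfl⟩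
  have he1 : e ≠ 1 := by
    intro h
    apply hv₀
    rw [he, hδ] at h
    have := congrArg (· * v₀) h
    simpa [mul_assoc, hV2] using this
  have hδe : ∀ v, δ v = 1 ∨ δ v = e := by
    intro v
    by_contra hcon
    push Not at hcon
    haveI : Fintype δ.range := Fintype.ofFinite _
    have h3 : 2 < Fintype.card δ.range := by
      rw [Fintype.two_lt_card_iff]
      refine ⟨⟨1, one_mem _⟩, ⟨e, he ▸ ⟨v₀, rfl⟩⟩, ⟨δ v, ⟨v, rfl⟩⟩, ?_, ?_, ?_⟩
      · intro h; exact he1 (congrArg Subtype.val h).symm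
      · intro h; exact hcon.1 (congrArg Subtype.val h).symm
      · intro h; exact hcon.2 (congrArg Subtype.val h).symm
    rw [← Nat.card_eq_fintype_card] at h3
    omega
  have hβ : ∀ v, φ b v = v ∨ φ b v = e * v := by
    intro v
    rcases hδe v with h | h
    · left
      rw [hδ] at h
      have := congrArg (· * v) h
      simpa [mul_assoc, hV2] using this
    · right
      rw [hδ] at h
      rw [← h, mul_assoc, hV2, mul_one]
  have hβe : φ b e = e := by
    rw [he, hδ, map_mul, hβ2, mul_comm]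
  -- the element y
  obtain ⟨e₁, he₁⟩ : ∃ e₁, e₁ = φ y e := ⟨_, rfl⟩
  have hyy : y * y = y * b * y⁻¹ * b := by
    have h1 : b * y⁻¹ * b⁻¹ = y := by
      have := congrArg (·⁻¹) hby
      simpa [mul_assoc] using this
    have h2 : b⁻¹ = b := inv_eq_of_mul_eq_one_left hb
    rw [h2] at h1
    calc y * y = y * (b * y⁻¹ * b) := by rw [h1]
      _ = y * b * y⁻¹ * b := by group
  have hy2 : ∀ v, φ (y * y) v = v ∨ φ (y * y) v = e * v ∨ φ (y * y) v = e₁ * v ∨
      φ (y * y) v = e₁ * (e * v) := by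
    intro v
    have h1 : φ (y * y) v = φ y (φ b (φ y⁻¹ (φ b v))) := by
      rw [hyy, apply_mul, apply_mul, apply_mul]
    have hyinv : ∀ u, φ y (φ y⁻¹ u) = u := fun u => by rw [← apply_mul, mul_inv_cancel, apply_one]
    rw [h1]
    rcases hβ (φ y⁻¹ (φ b v)) with h2 | h2
    · rw [h2, hyinv]
      rcases hβ v with h3 | h3
      · left; exact h3
      · right; left; exact h3
    · rw [h2, map_mul, hyinv, ← he₁]
      rcases hβ v with h3 | h3
      · right; right; left; rw [h3]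
      · right; right; right; rw [h3]
  have hfix : ∀ v, φ (y * y) v = v → φ y v = v := by
    intro v hv
    obtain ⟨m, hm⟩ := exists_pow_sq hyodd
    have := apply_pow_fix φ (y * y) v hv m
    rwa [hm] at this
  have hyyv : ∀ v, φ (y * y) v = φ y (φ y v) := fun v => apply_mul φ y y v
  -- the degenerate case `e₁ = e`
  have hdeg : e₁ ≠ e := by
    intro hee
    rw [hee] at hy2
    have hye : φ (y * y) e = e := by rw [hyyv, ← he₁, hee, ← he₁, hee]
    apply hy
    apply eq_one_of_odd_of_pow hyodd 2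
    apply hφ
    ext v
    have h4 : y ^ 2 ^ 2 = (y * y) * (y * y) := by
      show y ^ 4 = _
      simp only [pow_succ, pow_zero, one_mul, mul_assoc]
    rw [h4, apply_mul, map_one, MulAut.one_apply]
    rcases hy2 v with h | h | h | h
    · rw [h, h]
    · rw [h, map_mul, hye, h, hV2']
    · rw [h, map_mul, hye, h, hV2']
    · rw [hV2'] at h
      rw [h, h]
  have hmain : φ (y * y) e = e₁ * e := by
    rcases hy2 e with h | h | h | h
    · exfalso
      apply hdeg
      rw [he₁]; exact hfix e h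
    · exfalso
      rw [hV2] at h
      apply he1
      have h5 : φ (y * y) e = φ (y * y) 1 := by rw [h, map_one]
      exact (φ (y * y)).injective h5
    · exact h
    · exfalso
      rw [hV2, mul_one, hyyv, ← he₁] at h
      apply hdeg
      have : φ y e₁ = φ y e := by rw [h, he₁]
      exact (φ y).injective this
  refine ⟨?_, e, he1, hβe, ?_⟩
  · -- y ^ 3 = 1
    have hye₁ : φ y e₁ = e₁ * e := by rw [← hmain, hyyv, he₁]
    have a1 : φ (y * y) e₁ = e := by
      rw [hyyv, hye₁, map_mul, hye₁, ← he₁, mul_comm e₁ e, mul_assoc, hV2, mul_one]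
    have a2 : φ (y * y) (e₁ * e) = e₁ := by
      rw [map_mul (φ (y * y)) e₁ e, a1, hmain, mul_comm e₁ e, hV2']
    obtain ⟨z, hz⟩ : ∃ z, z = y * y * (y * y) * (y * y) := ⟨_, rfl⟩
    have hzv' : ∀ v, φ z v = φ (y * y) (φ (y * y) (φ (y * y) v)) := by
      intro v
      rw [hz, apply_mul, apply_mul]
    obtain ⟨W, hW⟩ : ∃ W : Subgroup V, W = Subgroup.closure {e, e₁} := ⟨_, rfl⟩
    have heW : e ∈ W := hW ▸ Subgroup.subset_closure (by simp)
    have he₁W : e₁ ∈ W := hW ▸ Subgroup.subset_closure (by simp)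
    have hstep : ∀ v, φ (y * y) v * v ∈ W := by
      intro v
      rcases hy2 v with h | h | h | h
      · rw [h, hV2]; exact one_mem _
      · rw [h, mul_assoc, hV2, mul_one]; exact heW
      · rw [h, mul_assoc, hV2, mul_one]; exact he₁W
      · rw [h, mul_assoc, mul_assoc, hV2, mul_one]; exact mul_mem he₁W heW
    have hzW : ∀ w ∈ W, φ z w = w := by
      intro w hw
      rw [hW] at hw
      induction hw using Subgroup.closure_induction with
      | mem x hx =>
        rcases hx with hx | hx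
        · rw [hx, hzv', hmain, a2, a1]
        · rw [Set.mem_singleton_iff] at hx
          rw [hx, hzv', a1, hmain, a2]
      | one => exact map_one _
      | mul x y _ _ hx hy => rw [map_mul, hx, hy]
      | inv x _ hx => rw [map_inv, hx]
    have hzv : ∀ v, φ z v * v ∈ W := by
      intro v
      have b1 := hstep v
      have b2 := hstep (φ (y * y) v)
      have b3 := hstep (φ (y * y) (φ (y * y) v))
      have : φ z v * v = (φ (y * y) (φ (y * y) (φ (y * y) v)) * φ (y * y) (φ (y * y) v)) *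
          ((φ (y * y) (φ (y * y) v) * φ (y * y) v) * (φ (y * y) v * v)) := by
        rw [hzv']
        generalize φ (y * y) v = a
        generalize φ (y * y) a = b'
        generalize φ (y * y) b' = c
        rw [mul_assoc c b', ← mul_assoc b' (b' * a), ← mul_assoc b' b' a, hV2, one_mul,
          ← mul_assoc a a v, hV2, one_mul]
      rw [this]
      exact mul_mem b3 (mul_mem b2 b1)
    have hzz : z * z = 1 := by
      apply hφ
      ext v
      rw [apply_mul, map_one, MulAut.one_apply]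
      have h1 := hzW _ (hzv v)
      rw [map_mul] at h1
      exact mul_right_cancel (h1.trans (mul_comm _ _))
    have h12 : y ^ 12 = 1 := by
      rw [← hzz, hz]
      simp only [pow_succ, pow_zero, one_mul, mul_assoc]
    have hd : orderOf y ∣ 4 * 3 := orderOf_dvd_of_pow_eq_one h12
    have hc : (orderOf y).Coprime (2 ^ 2) :=
      Nat.Coprime.pow_right 2 (Nat.coprime_two_right.mpr hyodd)
    have h3 : orderOf y ∣ 3 := Nat.Coprime.dvd_of_dvd_mul_left hc hd
    exact orderOf_dvd_iff_pow_eq_one.mp h3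
  · rw [← he₁, hmain, mul_assoc, hV2', hV2]

theorem card_eq_card_mul_relIndex₂ {B₀ B : Subgroup Γ} (h : B₀ ≤ B) :
    Nat.card B = Nat.card B₀ * B₀.relIndex B := by
  have := Subgroup.card_mul_index (B₀.subgroupOf B)
  rw [Nat.card_congr (Subgroup.subgroupOfEquivOfLe h).toEquiv] at this
  exact this.symm

theorem pow_odd_of_sq {v : V} (hv : v * v = 1) {n : ℕ} (hn : Odd n) : v ^ n = v := by
  obtain ⟨m, rfl⟩ := hn
  rw [pow_succ, pow_mul, pow_two, hv, one_pow, one_mul]

theorem exists_transvection [Finite Γ] [Finite V]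
    (hV2 : ∀ v : V, v * v = 1) (φ : Γ →* MulAut V) (hφ : Function.Injective φ)
    (Kb : Subgroup Γ) (hKodd : Odd (Nat.card Kb)) (hKab : ∀ x ∈ Kb, ∀ y ∈ Kb, x * y = y * x)
    (A : Subgroup Γ) (hAK : ∀ a ∈ A, ∀ y ∈ Kb, a * y * a⁻¹ ∈ Kb)
    (hAab : ∀ a ∈ A, ∀ b ∈ A, a * b = b * a) (hA2 : ∀ a ∈ A, a * a = 1) (hAne : A ≠ ⊥)
    (hfaith : ∀ a ∈ A, (∀ y ∈ Kb, a * y = y * a) → a = 1)
    (hoff : Nat.card V ≤ Nat.card A * Nat.card (fix φ A)) :
    ∃ b y : Γ, b ∈ A ∧ b * b = 1 ∧ y ≠ 1 ∧ y ∈ Kb ∧ b * y * b⁻¹ = y⁻¹ ∧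
      Nat.card V ≤ 2 * Nat.card (fixEl φ b) := by
  classical
  -- Step 1: a minimal offender `B`
  have hne1 : Nonempty {B : Subgroup Γ // B ≤ A ∧ B ≠ ⊥ ∧
      Nat.card V ≤ Nat.card B * Nat.card (fix φ B)} := ⟨⟨A, le_rfl, hAne, hoff⟩⟩
  obtain ⟨⟨B, hBA, hBne, hBoff⟩, hBmin⟩ := Finite.exists_min
    (fun B : {B : Subgroup Γ // B ≤ A ∧ B ≠ ⊥ ∧
      Nat.card V ≤ Nat.card B * Nat.card (fix φ B)} => Nat.card B.1)
  have hBmin' : ∀ B' : Subgroup Γ, B' ≤ A → B' ≠ ⊥ →
      Nat.card V ≤ Nat.card B' * Nat.card (fix φ B') → Nat.card B ≤ Nat.card B' :=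
    fun B' h1 h2 h3 => hBmin ⟨B', h1, h2, h3⟩
  -- Step 2: a minimal `B`-invariant subgroup `Y` of `Kb` not centralized by `B`
  have hne2 : Nonempty {Y : Subgroup Γ // Y ≤ Kb ∧ (∀ b ∈ B, ∀ y ∈ Y, b * y * b⁻¹ ∈ Y) ∧
      ∃ b ∈ B, ∃ y ∈ Y, b * y ≠ y * b} := by
    obtain ⟨b, hb1⟩ := (Subgroup.ne_bot_iff_exists_ne_one).mp hBne
    have hbB' : (b : Γ) ∈ B := b.2
    have h1 : ¬ ∀ y ∈ Kb, (b : Γ) * y = y * b := fun h =>
      hb1 (Subtype.ext (hfaith b (hBA hbB') h))
    push Not at h1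
    obtain ⟨y, hy, hne⟩ := h1
    exact ⟨⟨Kb, le_rfl, fun b hb y hy => hAK b (hBA hb) y hy, b, hbB', y, hy, hne⟩⟩
  obtain ⟨⟨Y, hYK, hYinv, hYnc⟩, hYmin⟩ := Finite.exists_min
    (fun Y : {Y : Subgroup Γ // Y ≤ Kb ∧ (∀ b ∈ B, ∀ y ∈ Y, b * y * b⁻¹ ∈ Y) ∧
      ∃ b ∈ B, ∃ y ∈ Y, b * y ≠ y * b} => Nat.card Y.1)
  have hYmin' : ∀ Y' : Subgroup Γ, Y' ≤ Y → Y' ≠ Y → (∀ b ∈ B, ∀ y ∈ Y', b * y * b⁻¹ ∈ Y') →
      ∀ b ∈ B, ∀ y ∈ Y', b * y = y * b := by
    intro Y' hle hne hinv
    by_contra hcon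
    push Not at hcon
    obtain ⟨b, hb, y, hy, hby⟩ := hcon
    have h1 : Nat.card Y ≤ Nat.card Y' := hYmin ⟨Y', hle.trans hYK, hinv, b, hb, y, hy, hby⟩
    exact hne (Subgroup.eq_of_le_of_card_ge hle h1)
  have hYab : ∀ x ∈ Y, ∀ y ∈ Y, x * y = y * x := fun x hx y hy => hKab x (hYK hx) y (hYK hy)
  have hYodd : Odd (Nat.card Y) := Odd.of_dvd_nat hKodd (Subgroup.card_dvd_of_le hYK)
  have hYpow : ∀ y ∈ Y, y ^ Nat.card Y = 1 := fun y hy =>
    orderOf_dvd_iff_pow_eq_one.mp (Subgroup.orderOf_dvd_natCard Y hy)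
  have hYsq : ∀ y ∈ Y, ∃ x ∈ Y, x * x = y := by
    intro y hy
    obtain ⟨m, hm⟩ := hYodd
    refine ⟨y ^ (m + 1), pow_mem hy _, ?_⟩
    rw [← pow_add]
    have h1 : m + 1 + (m + 1) = Nat.card Y + 1 := by omega
    rw [h1, pow_succ, hYpow y hy, one_mul]
  -- Step 3: every element of `B` centralizes or inverts `Y`
  have hdich : ∀ b ∈ B, (∀ y ∈ Y, b * y = y * b) ∨ (∀ y ∈ Y, b * y * b⁻¹ = y⁻¹) := by
    intro b hb
    have hbb : b * b = 1 := hA2 b (hBA hb)
    have hbinv : b⁻¹ = b := inv_eq_of_mul_eq_one_left hbb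
    let Yp : Subgroup Γ :=
      { carrier := {y | y ∈ Y ∧ b * y * b⁻¹ = y}
        mul_mem' := by
          rintro x y ⟨hx, hx'⟩ ⟨hy, hy'⟩
          refine ⟨mul_mem hx hy, ?_⟩
          calc b * (x * y) * b⁻¹ = (b * x * b⁻¹) * (b * y * b⁻¹) := by group
            _ = x * y := by rw [hx', hy']
        one_mem' := ⟨one_mem _, by group⟩
        inv_mem' := by
          rintro x ⟨hx, hx'⟩
          refine ⟨inv_mem hx, ?_⟩
          calc b * x⁻¹ * b⁻¹ = (b * x * b⁻¹)⁻¹ := by group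
            _ = x⁻¹ := by rw [hx'] }
    let Ym : Subgroup Γ :=
      { carrier := {y | y ∈ Y ∧ b * y * b⁻¹ = y⁻¹}
        mul_mem' := by
          rintro x y ⟨hx, hx'⟩ ⟨hy, hy'⟩
          refine ⟨mul_mem hx hy, ?_⟩
          calc b * (x * y) * b⁻¹ = (b * x * b⁻¹) * (b * y * b⁻¹) := by group
            _ = x⁻¹ * y⁻¹ := by rw [hx', hy']
            _ = (y * x)⁻¹ := by group
            _ = (x * y)⁻¹ := by rw [hYab x hx y hy]
        one_mem' := ⟨one_mem _, by group⟩
        inv_mem' := by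
          rintro x ⟨hx, hx'⟩
          refine ⟨inv_mem hx, ?_⟩
          calc b * x⁻¹ * b⁻¹ = (b * x * b⁻¹)⁻¹ := by group
            _ = x⁻¹⁻¹ := by rw [hx'] }
    have hYp_mem : ∀ y, y ∈ Yp ↔ y ∈ Y ∧ b * y * b⁻¹ = y := fun y => Iff.rfl
    have hYm_mem : ∀ y, y ∈ Ym ↔ y ∈ Y ∧ b * y * b⁻¹ = y⁻¹ := fun y => Iff.rfl
    have hYpinv : ∀ c ∈ B, ∀ y ∈ Yp, c * y * c⁻¹ ∈ Yp := by
      intro c hc y hy
      rw [hYp_mem] at hy ⊢
      refine ⟨hYinv c hc y hy.1, ?_⟩
      have hbc : b * c = c * b := hAab b (hBA hb) c (hBA hc)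
      calc b * (c * y * c⁻¹) * b⁻¹ = (b * c) * y * (b * c)⁻¹ := by group
        _ = (c * b) * y * (c * b)⁻¹ := by rw [hbc]
        _ = c * (b * y * b⁻¹) * c⁻¹ := by group
        _ = c * y * c⁻¹ := by rw [hy.2]
    have hYminv : ∀ c ∈ B, ∀ y ∈ Ym, c * y * c⁻¹ ∈ Ym := by
      intro c hc y hy
      rw [hYm_mem] at hy ⊢
      refine ⟨hYinv c hc y hy.1, ?_⟩
      have hbc : b * c = c * b := hAab b (hBA hb) c (hBA hc)
      calc b * (c * y * c⁻¹) * b⁻¹ = (b * c) * y * (b * c)⁻¹ := by group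
        _ = (c * b) * y * (c * b)⁻¹ := by rw [hbc]
        _ = c * (b * y * b⁻¹) * c⁻¹ := by group
        _ = c * y⁻¹ * c⁻¹ := by rw [hy.2]
        _ = (c * y * c⁻¹)⁻¹ := by group
    by_cases hp : Yp = Y
    · left
      intro y hy
      have h1 : y ∈ Yp := hp ▸ hy
      have h2 := h1.2
      calc b * y = (b * y * b⁻¹) * b := by group
        _ = y * b := by rw [h2]
    by_cases hm : Ym = Y
    · right
      intro y hy
      have h1 : y ∈ Ym := hm ▸ hy
      exact h1.2
    exfalso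
    have hcp := hYmin' Yp (fun y hy => hy.1) hp hYpinv
    have hcm := hYmin' Ym (fun y hy => hy.1) hm hYminv
    obtain ⟨c, hc, y, hy, hne⟩ := hYnc
    apply hne
    obtain ⟨x, hx, hxy⟩ := hYsq y hy
    have hbx : b * x * b⁻¹ ∈ Y := hYinv b hb x hx
    have hcomm : x * (b * x * b⁻¹) = (b * x * b⁻¹) * x := hYab x hx _ hbx
    have hu : x * (b * x * b⁻¹) ∈ Yp := by
      refine ⟨mul_mem hx hbx, ?_⟩
      calc b * (x * (b * x * b⁻¹)) * b⁻¹ = (b * x * b⁻¹) * ((b * b) * x * (b * b)⁻¹) := by group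
        _ = (b * x * b⁻¹) * x := by rw [hbb]; group
        _ = x * (b * x * b⁻¹) := hcomm.symm
    have hw : x * (b * x * b⁻¹)⁻¹ ∈ Ym := by
      refine ⟨mul_mem hx (inv_mem hbx), ?_⟩
      calc b * (x * (b * x * b⁻¹)⁻¹) * b⁻¹
          = (b * x * b⁻¹) * ((b * b) * x * (b * b)⁻¹)⁻¹ := by group
        _ = (b * x * b⁻¹) * x⁻¹ := by rw [hbb]; group
        _ = (x * (b * x * b⁻¹)⁻¹)⁻¹ := by group
    have hyeq : y = (x * (b * x * b⁻¹)) * (x * (b * x * b⁻¹)⁻¹) := by
      rw [← hxy]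
      calc x * x = x * (x * (b * x * b⁻¹)) * (b * x * b⁻¹)⁻¹ := by group
        _ = x * ((b * x * b⁻¹) * x) * (b * x * b⁻¹)⁻¹ := by rw [hcomm]
        _ = (x * (b * x * b⁻¹)) * (x * (b * x * b⁻¹)⁻¹) := by group
    have h1 := hcp c hc _ hu
    have h2 := hcm c hc _ hw
    rw [hyeq]
    generalize x * (b * x * b⁻¹) = u at h1 ⊢
    generalize x * (b * x * b⁻¹)⁻¹ = w at h2 ⊢
    calc c * (u * w) = (c * u) * w := by group
      _ = u * (c * w) := by rw [h1]; group
      _ = u * w * c := by rw [h2]; group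
  -- Step 4: the centralizer `B₀` of `Y` in `B` has index 2
  obtain ⟨B₀, hB₀⟩ : ∃ B₀ : Subgroup Γ, B₀ = B ⊓ Subgroup.centralizer (Y : Set Γ) := ⟨_, rfl⟩
  have hB₀mem : ∀ c, c ∈ B₀ ↔ c ∈ B ∧ ∀ y ∈ Y, c * y = y * c := by
    intro c
    rw [hB₀, Subgroup.mem_inf, Subgroup.mem_centralizer_iff]
    constructor
    · rintro ⟨h1, h2⟩
      exact ⟨h1, fun y hy => (h2 y hy).symm⟩
    · rintro ⟨h1, h2⟩
      exact ⟨h1, fun y hy => (h2 y hy).symm⟩
  have hB₀B : B₀ ≤ B := hB₀ ▸ inf_le_left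
  obtain ⟨a, haB, y₀, hy₀, hay₀⟩ := hYnc
  have haB₀ : a ∉ B₀ := fun h => hay₀ (((hB₀mem a).mp h).2 y₀ hy₀)
  have hinv_of : ∀ c ∈ B, c ∉ B₀ → ∀ y ∈ Y, c * y * c⁻¹ = y⁻¹ := by
    intro c hc hc0
    rcases hdich c hc with h | h
    · exact absurd ((hB₀mem c).mpr ⟨hc, h⟩) hc0
    · exact h
  have hainv := hinv_of a haB haB₀
  have hidx : B₀.relIndex B = 2 := by
    rw [Subgroup.relIndex_eq_two_iff]
    refine ⟨a, haB, fun c hc => ?_⟩
    by_cases hc0 : c ∈ B₀
    · right
      refine ⟨hc0, fun h => haB₀ ?_⟩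
      have : a = c⁻¹ * (c * a) := by group
      rw [this]
      exact mul_mem (inv_mem hc0) h
    · left
      refine ⟨?_, hc0⟩
      rw [hB₀mem]
      refine ⟨mul_mem hc haB, fun y hy => ?_⟩
      have h1 := hinv_of c hc hc0 _ (inv_mem hy)
      have h2 := hainv y hy
      calc c * a * y = c * (a * y * a⁻¹) * c⁻¹ * (c * a) := by group
        _ = c * y⁻¹ * c⁻¹ * (c * a) := by rw [h2]
        _ = y * (c * a) := by rw [h1, inv_inv]
  have hcardB : Nat.card B = Nat.card B₀ * 2 := by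
    rw [card_eq_card_mul_relIndex₂ hB₀B, hidx]
  -- Step 5: `B₀` is trivial
  have hB₀bot : B₀ = ⊥ := by
    by_contra hB₀ne
    -- (5a) the fixed points of `B₀` and `B` agree
    have hfixle : fix φ B ≤ fix φ B₀ := fun v hv c hc => hv c (hB₀B hc)
    have hfixeq : fix φ B = fix φ B₀ := by
      apply Subgroup.eq_of_le_of_card_ge hfixle
      have h1 : ¬ Nat.card V ≤ Nat.card B₀ * Nat.card (fix φ B₀) := by
        intro h
        have h2 := hBmin' B₀ (hB₀B.trans hBA) hB₀ne h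
        have h3 : 0 < Nat.card B₀ := Nat.card_pos
        omega
      obtain ⟨k, hk⟩ := Subgroup.card_dvd_of_le hfixle
      have h4 : 0 < Nat.card (fix φ B) := Nat.card_pos
      have h5 : 0 < Nat.card B₀ := Nat.card_pos
      rw [hcardB] at hBoff
      rw [hk] at h1 ⊢
      push Not at h1
      have h6 : Nat.card B₀ * (Nat.card (fix φ B) * k) < Nat.card B₀ * (2 * Nat.card (fix φ B)) := by
        calc Nat.card B₀ * (Nat.card (fix φ B) * k) < Nat.card V := h1
          _ ≤ Nat.card B₀ * 2 * Nat.card (fix φ B) := hBoff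
          _ = Nat.card B₀ * (2 * Nat.card (fix φ B)) := by ring
      have h7 : Nat.card (fix φ B) * k < 2 * Nat.card (fix φ B) := Nat.lt_of_mul_lt_mul_left h6
      have h8 : k < 2 := by
        by_contra hk2
        push Not at hk2
        have : 2 * Nat.card (fix φ B) ≤ Nat.card (fix φ B) * k := by
          calc 2 * Nat.card (fix φ B) = Nat.card (fix φ B) * 2 := by ring
            _ ≤ Nat.card (fix φ B) * k := Nat.mul_le_mul_left _ hk2
        omega
      have h9 : k ≤ 1 := by omega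
      calc Nat.card (fix φ B) * k ≤ Nat.card (fix φ B) * 1 := Nat.mul_le_mul_left _ h9
        _ = Nat.card (fix φ B) := mul_one _
    -- (5b) `Y` normalizes the fixed points
    have hYfix : ∀ y ∈ Y, ∀ v ∈ fix φ B, φ y v ∈ fix φ B := by
      intro y hy v hv
      rw [hfixeq] at hv ⊢
      intro c hc
      rw [← apply_mul, ((hB₀mem c).mp hc).2 y hy, apply_mul, hv c hc]
    -- (5c) `Y` centralizes the fixed points
    have hYcent : ∀ y ∈ Y, ∀ v ∈ fix φ B, φ y v = v := by
      intro y hy v hv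
      obtain ⟨x, hx, rfl⟩ := hYsq y hy
      have h1 : φ a (φ x v) = φ x v := hYfix x hx v hv a haB
      have h2 : a * x = x⁻¹ * a := by
        have := hainv x hx
        calc a * x = (a * x * a⁻¹) * a := by group
          _ = x⁻¹ * a := by rw [this]
      rw [← apply_mul, h2, apply_mul, hv a haB] at h1
      rw [apply_mul, ← h1, ← apply_mul, mul_inv_cancel, apply_one]
    -- (5d) the norm map
    haveI : Fintype ↥Y := Fintype.ofFinite _
    have hν_y : ∀ y₀ ∈ Y, ∀ v, ∏ y : ↥Y, φ (y : Γ) (φ y₀ v) = ∏ y : ↥Y, φ (y : Γ) v := by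
      intro y₀ hy₀ v
      have := Equiv.prod_comp (Equiv.mulRight (⟨y₀, hy₀⟩ : ↥Y)) (fun y : ↥Y => φ (y : Γ) v)
      rw [← this]
      refine Finset.prod_congr rfl (fun y _ => ?_)
      rw [← apply_mul]
      rfl
    have hν_b : ∀ c ∈ B, ∀ v, ∏ y : ↥Y, φ (y : Γ) (φ c v) = φ c (∏ y : ↥Y, φ (y : Γ) v) := by
      intro c hc v
      let e : ↥Y ≃ ↥Y :=
        { toFun := fun y => ⟨c⁻¹ * y * c, by
            have := hYinv c⁻¹ (inv_mem hc) y y.2
            simpa using this⟩
          invFun := fun y => ⟨c * y * c⁻¹, hYinv c hc y y.2⟩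
          left_inv := fun y => Subtype.ext (by simp [mul_assoc])
          right_inv := fun y => Subtype.ext (by simp [mul_assoc]) }
      have := Equiv.prod_comp e (fun y : ↥Y => φ (y : Γ) v)
      rw [← this, map_prod]
      refine Finset.prod_congr rfl (fun y _ => ?_)
      rw [← apply_mul, ← apply_mul]
      congr 2
      show (y : Γ) * c = c * (c⁻¹ * y * c)
      group
    let K₀ : Subgroup V :=
      { carrier := {v | ∏ y : ↥Y, φ (y : Γ) v = 1}
        mul_mem' := by
          intro v w hv hw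
          show ∏ y : ↥Y, φ (y : Γ) (v * w) = 1
          simp only [map_mul]
          rw [Finset.prod_mul_distrib]
          have hv' : ∏ y : ↥Y, φ (y : Γ) v = 1 := hv
          have hw' : ∏ y : ↥Y, φ (y : Γ) w = 1 := hw
          rw [hv', hw', one_mul]
        one_mem' := by
          show ∏ y : ↥Y, φ (y : Γ) 1 = 1
          simp
        inv_mem' := by
          intro v hv
          show ∏ y : ↥Y, φ (y : Γ) v⁻¹ = 1
          simp only [map_inv]
          have hv' : ∏ y : ↥Y, φ (y : Γ) v = 1 := hv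
          rw [Finset.prod_inv_distrib, hv', inv_one] }
    have hK₀mem : ∀ v, v ∈ K₀ ↔ ∏ y : ↥Y, φ (y : Γ) v = 1 := fun v => Iff.rfl
    have hK₀inv : ∀ c ∈ B, ∀ v ∈ K₀, φ c v ∈ K₀ := by
      intro c hc v hv
      rw [hK₀mem] at hv ⊢
      rw [hν_b c hc, hv, map_one]
    -- (5e) `K₀` is trivial
    have hK₀bot : K₀ = ⊥ := by
      by_contra hK₀ne
      letI : MulAction ↥B ↥K₀ :=
        { smul := fun c w => ⟨φ (c : Γ) w, hK₀inv c c.2 w w.2⟩
          one_smul := fun w => Subtype.ext (by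
            show φ ((1 : ↥B) : Γ) (w : V) = w
            rw [Subgroup.coe_one, apply_one])
          mul_smul := fun c d w => Subtype.ext (by
            show φ ((c * d : ↥B) : Γ) (w : V) = φ (c : Γ) (φ (d : Γ) (w : V))
            rw [Subgroup.coe_mul, apply_mul]) }
      have hB2 : IsPGroup 2 ↥B := by
        intro c
        refine ⟨1, Subtype.ext ?_⟩
        rw [pow_one, pow_two]
        exact hA2 c (hBA c.2)
      have hK2 : IsPGroup 2 ↥K₀ := by
        intro w
        refine ⟨1, Subtype.ext ?_⟩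
        rw [pow_one, pow_two]
        exact hV2 w
      have h2 : 2 ∣ Nat.card ↥K₀ := by
        obtain ⟨n, hn⟩ := IsPGroup.iff_card.mp hK2
        have h1 : 1 < Nat.card ↥K₀ := (Subgroup.one_lt_card_iff_ne_bot _).mpr hK₀ne
        have hn0 : n ≠ 0 := by
          rintro rfl
          rw [hn] at h1
          simp at h1
        rw [hn]
        exact dvd_pow_self 2 hn0
      haveI : Fact (Nat.Prime 2) := ⟨Nat.prime_two⟩
      obtain ⟨w, hwfix, hw1⟩ := hB2.exists_fixed_point_of_prime_dvd_card_of_fixed_point ↥K₀ h2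
        (a := (1 : ↥K₀)) (by
          intro c
          exact Subtype.ext (map_one (φ (c : Γ))))
      have hwB : (w : V) ∈ fix φ B := by
        intro c hc
        have := hwfix ⟨c, hc⟩
        exact congrArg Subtype.val this
      have hwY : ∀ y ∈ Y, φ y (w : V) = w := fun y hy => hYcent y hy _ hwB
      have hνw : ∏ y : ↥Y, φ (y : Γ) (w : V) = (w : V) := by
        have h1 : ∏ y : ↥Y, φ (y : Γ) (w : V) = ∏ _y : ↥Y, (w : V) :=
          Finset.prod_congr rfl (fun y _ => hwY y y.2)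
        rw [h1, Finset.prod_const, Finset.card_univ, ← Nat.card_eq_fintype_card]
        exact pow_odd_of_sq (hV2 _) hYodd
      have hw0 : ∏ y : ↥Y, φ (y : Γ) (w : V) = 1 := w.2
      apply hw1
      apply Subtype.ext
      rw [hνw] at hw0
      exact hw0.symm
    -- (5f) `Y` acts trivially
    have hYtriv : ∀ y ∈ Y, y = 1 := by
      intro y hy
      apply hφ
      ext v
      rw [map_one, MulAut.one_apply]
      have h1 : φ y v * v⁻¹ ∈ K₀ := by
        rw [hK₀mem]
        simp only [map_mul, map_inv]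
        rw [Finset.prod_mul_distrib, Finset.prod_inv_distrib, hν_y y hy, mul_inv_cancel]
      rw [hK₀bot, Subgroup.mem_bot] at h1
      exact mul_inv_eq_one.mp h1
    apply hay₀
    rw [hYtriv y₀ hy₀, mul_one, one_mul]
  -- Step 6: conclusion
  obtain ⟨y, hy, hy1⟩ : ∃ y ∈ Y, y ≠ 1 := by
    by_contra hcon
    push Not at hcon
    apply hay₀
    rw [hcon y₀ hy₀, mul_one, one_mul]
  refine ⟨a, y, hBA haB, hA2 a (hBA haB), hy1, hYK hy, hainv y hy, ?_⟩
  have h1 : Nat.card B = 2 := by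
    rw [hcardB, hB₀bot, Subgroup.card_bot]
  have h2 : fix φ B ≤ fixEl φ a := fun v hv => hv a haB
  calc Nat.card V ≤ Nat.card B * Nat.card (fix φ B) := hBoff
    _ = 2 * Nat.card (fix φ B) := by rw [h1]
    _ ≤ 2 * Nat.card (fixEl φ a) := Nat.mul_le_mul_left _ (Subgroup.card_le_of_le h2)

end Cfsg.Agent.Lib.Helper2.Offender
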