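import Mathlib
import Cfsg.Agent.S0803
import Cfsg.Agent.S5299
import Cfsg.Agent.Lib.Helper11.QuadStable

/-!
# Producing an `S₄` section

* `exists_S4_of_data`: elements `σ, τ, ω` of a group with `σ² = τ³ = ω² = 1`, `σ τ σ⁻¹ = τ⁻¹`,
  `σ ω = ω σ`, `(τ⁻¹ ω)³ = 1`, `ω ≠ 1` generate a copy of `S₄` (`= ⟨ω^⟨τ⟩⟩ ⋊ ⟨τ, σ⟩`).
* `involves_of_section_data`: the same relations modulo a subgroup `R` normalized by the three
  elements show that `S₄` is involved in the group.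
-/

set_option autoImplicit false

namespace Cfsg.Agent.Lib.Helper2.S4Sec

open Cfsg

theorem exists_S4_of_data {X : Type*} [Group X] (σ τ ω : X) (hσ : σ * σ = 1) (hτ : τ ^ 3 = 1)
    (hω : ω * ω = 1) (hστ : σ * τ * σ⁻¹ = τ⁻¹) (hσω : σ * ω = ω * σ)
    (hrel : (τ⁻¹ * ω) ^ 3 = 1) (hne : ω ≠ 1) :
    ∃ H : Subgroup X, Nonempty (H ≃* Equiv.Perm (Fin 4)) := by
  have hσinv : σ⁻¹ = σ := inv_eq_of_mul_eq_one_left hσ
  have e1 : σ * (σ * τ) = τ := by rw [← mul_assoc, hσ, one_mul]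
  have e2 : σ * (σ * ω) = ω := by rw [← mul_assoc, hσ, one_mul]
  have e3 : σ * τ * (σ * ω) = τ⁻¹ * ω := by
    calc σ * τ * (σ * ω) = (σ * τ * σ⁻¹) * (σ * σ) * ω := by group
      _ = τ⁻¹ * ω := by rw [hστ, hσ, mul_one]
  refine Cfsg.Agent.S0803.exists_S4 σ (σ * τ) (σ * ω) ?_ ?_ ?_ ?_ ?_ ?_ ?_
  · rw [pow_two, hσ]
  · rw [pow_two]
    calc σ * τ * (σ * τ) = (σ * τ * σ⁻¹) * (σ * σ) * τ := by group
      _ = 1 := by rw [hστ, hσ, mul_one, inv_mul_cancel]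
  · rw [pow_two]
    calc σ * ω * (σ * ω) = σ * (ω * σ) * ω := by group
      _ = σ * (σ * ω) * ω := by rw [hσω]
      _ = (σ * σ) * (ω * ω) := by group
      _ = 1 := by rw [hσ, hω, one_mul]
  · rw [e1, hτ]
  · rw [e3, hrel]
  · rw [e2, pow_two, hω]
  · rw [e2]; exact hne

theorem involves_of_section_data {G : Type*} [Group G] (R : Subgroup G) (s t w : G)
    (hs : s ∈ Subgroup.normalizer (R : Set G)) (ht : t ∈ Subgroup.normalizer (R : Set G))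
    (hw : w ∈ Subgroup.normalizer (R : Set G))
    (hss : s * s ∈ R) (ht3 : t ^ 3 ∈ R) (hww : w * w ∈ R) (hst : s * t * s⁻¹ * t ∈ R)
    (hsw : s * w * s⁻¹ * w⁻¹ ∈ R) (hrel : (t⁻¹ * w) ^ 3 ∈ R) (hne : w ∉ R) :
    Involves (Equiv.Perm (Fin 4)) G := by
  obtain ⟨N, hN⟩ : ∃ N : Subgroup G, N = Subgroup.normalizer (R : Set G) := ⟨_, rfl⟩
  have hRN : R ≤ N := hN ▸ Subgroup.le_normalizer
  haveI hnorm : (R.subgroupOf N).Normal := by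
    rw [hN]; exact Subgroup.normal_in_normalizer
  rw [← hN] at hs ht hw
  have key : ∀ x : ↥N, (QuotientGroup.mk x : ↥N ⧸ R.subgroupOf N) = 1 ↔ (x : G) ∈ R := by
    intro x
    rw [QuotientGroup.eq_one_iff, Subgroup.mem_subgroupOf]
  obtain ⟨σ, hσ⟩ : ∃ σ : ↥N ⧸ R.subgroupOf N, σ = QuotientGroup.mk ⟨s, hs⟩ := ⟨_, rfl⟩
  obtain ⟨τ, hτ⟩ : ∃ τ : ↥N ⧸ R.subgroupOf N, τ = QuotientGroup.mk ⟨t, ht⟩ := ⟨_, rfl⟩
  obtain ⟨ω, hω⟩ : ∃ ω : ↥N ⧸ R.subgroupOf N, ω = QuotientGroup.mk ⟨w, hw⟩ := ⟨_, rfl⟩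
  have h1 : σ * σ = 1 := by
    rw [hσ, ← QuotientGroup.mk_mul, key]; exact hss
  have h2 : τ ^ 3 = 1 := by
    rw [hτ, ← QuotientGroup.mk_pow, key]; exact ht3
  have h3 : ω * ω = 1 := by
    rw [hω, ← QuotientGroup.mk_mul, key]; exact hww
  have h4 : σ * τ * σ⁻¹ = τ⁻¹ := by
    rw [eq_inv_iff_mul_eq_one, hσ, hτ, ← QuotientGroup.mk_inv, ← QuotientGroup.mk_mul,
      ← QuotientGroup.mk_mul, ← QuotientGroup.mk_mul, key]
    exact hst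
  have h5 : σ * ω = ω * σ := by
    have : σ * ω * σ⁻¹ * ω⁻¹ = 1 := by
      rw [hσ, hω, ← QuotientGroup.mk_inv, ← QuotientGroup.mk_inv, ← QuotientGroup.mk_mul,
        ← QuotientGroup.mk_mul, ← QuotientGroup.mk_mul, key]
      exact hsw
    calc σ * ω = (σ * ω * σ⁻¹ * ω⁻¹) * (ω * σ) := by group
      _ = ω * σ := by rw [this, one_mul]
  have h6 : (τ⁻¹ * ω) ^ 3 = 1 := by
    rw [hτ, hω, ← QuotientGroup.mk_inv, ← QuotientGroup.mk_mul, ← QuotientGroup.mk_pow, key]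
    exact hrel
  have h7 : ω ≠ 1 := by
    rw [hω, Ne, key]; exact hne
  obtain ⟨H, ⟨e⟩⟩ := exists_S4_of_data σ τ ω h1 h2 h3 h4 h5 h6 h7
  have hX : Involves (Equiv.Perm (Fin 4)) (↥N ⧸ R.subgroupOf N) :=
    Cfsg.Agent.S5299.involves_of_inj_surj H.subtype H.subtype_injective e.toMonoidHom e.surjective
  exact Cfsg.Agent.Lib.Helper11.QuadStable.involves_subgroup N
    (Cfsg.Agent.Lib.Helper11.QuadStable.involves_quotient _ hX)

end Cfsg.Agent.Lib.Helper2.S4Sec
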