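import Mathlib
import Cfsg.Agent.Lib.Helper20.DihQuat
import Cfsg.Agent.Lib.Helper66.DihedralStem
import Cfsg.Agent.S0257

/-!
# Recognising `SL(2,3)`

`Model` is the semidirect product `Q₈ ⋊ C₃` for a fixed automorphism of order 3.

* `iso_model`: a group generated by a subgroup `Q ≃* QuaternionGroup 2` and an element `x` with
  `x ^ 3 = 1` normalising but not centralising `Q` is isomorphic to `Model`.
* `sl_model`: `Model ≃* SL(2, ZMod 3)`.
* `iso_sl23`: the two combined.
* `exists_section_sl23`: if an element `g` of odd order normalises but does not centralise a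
  subgroup `Q ≃* QuaternionGroup 2` of `G`, then `G` has a section isomorphic to `SL(2,3)`
  (namely `Q⟨g⟩ / ⟨g ^ 3⟩`).
* `aut_pow_twelve`: every automorphism of `QuaternionGroup 2` has order dividing `12`.
-/

set_option autoImplicit false

namespace Cfsg.Agent.Lib.Helper2.SL23

open QuaternionGroup
open Cfsg.Agent.Lib.Helper20.DihQuat Cfsg.Agent.Lib.Helper20.ZP


/-- evaluation of the word map determined by images of generators -/
def ev (u v : QuaternionGroup 2) : QuaternionGroup 2 → QuaternionGroup 2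
  | a i => u ^ i.val
  | xa i => v * u ^ i.val

set_option maxRecDepth 100000 in
theorem DM1 : ∀ u v : QuaternionGroup 2, (∀ q q', ev u v (q * q') = ev u v q * ev u v q') →
    (∀ q q', ev u v q = ev u v q' → q = q') → ∀ q, (ev u v)^[12] q = q := by
  decide +kernel

set_option maxRecDepth 100000 in
theorem DM2 : ∀ u v : QuaternionGroup 2, (∀ q q', ev u v (q * q') = ev u v q * ev u v q') →
    (∀ q, ev u v (ev u v (ev u v q)) = q) → (∃ q, ev u v q ≠ q) →
    ∃ s, s ^ 2 ≠ 1 ∧ ev u v (ev u v s) = ev u v s * s ∧ ev u v s * s * (ev u v s)⁻¹ = s⁻¹ ∧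
      ev u v s * ev u v s = s ^ 2 ∧ ∀ k < 4, ev u v s ≠ s ^ k := by
  decide +kernel

theorem pow_four : ∀ s : QuaternionGroup 2, s ^ 2 ^ (1 + 1) = 1 := by decide

theorem aut_eq_ev (α : MulAut (QuaternionGroup 2)) (q : QuaternionGroup 2) :
    α q = ev (α (a 1)) (α (xa 0)) q := by
  rcases q with i | i
  · show α (a i) = (α (a 1)) ^ i.val
    rw [← map_pow, a_one_pow]; congr 1
    rw [ZMod.natCast_zmod_val]
  · show α (xa i) = α (xa 0) * (α (a 1)) ^ i.val
    rw [← map_pow, ← map_mul, a_one_pow, xa_mul_a, ZMod.natCast_zmod_val, zero_add]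

/-- the standard automorphism of order 3 -/
def phi0 : MulAut (QuaternionGroup 2) where
  toFun := ev (xa 0) (xa 1)
  invFun := fun q => ev (xa 0) (xa 1) (ev (xa 0) (xa 1) q)
  left_inv := fun q => by revert q; decide
  right_inv := fun q => by revert q; decide
  map_mul' := by decide

theorem phi0_apply (q : QuaternionGroup 2) : phi0 q = ev (xa 0) (xa 1) q := rfl

theorem phi0_pow : phi0 ^ 3 = 1 := by
  ext q
  simp only [pow_succ, pow_zero, one_mul, MulAut.mul_apply, MulAut.one_apply, phi0_apply]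
  revert q; decide

/-- the homomorphism from the cyclic group of order 3 determined by an element of order dividing 3 -/
def cycHom {A : Type*} [Group A] (y : A) (hy : y ^ 3 = 1) : Multiplicative (ZMod 3) →* A where
  toFun i := y ^ (Multiplicative.toAdd i).val
  map_one' := by simp
  map_mul' i j := by
    rw [← pow_add, toAdd_mul, ZMod.val_add]
    exact (pow_eq_pow_mod _ hy).symm

theorem cycHom_apply {A : Type*} [Group A] (y : A) (hy : y ^ 3 = 1) (i : Multiplicative (ZMod 3)) :
    cycHom y hy i = y ^ (Multiplicative.toAdd i).val := rfl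

/-- the model group `Q₈ ⋊ C₃` -/
abbrev Model := QuaternionGroup 2 ⋊[cycHom phi0 phi0_pow] Multiplicative (ZMod 3)



theorem orderOf_eq_four (s : QuaternionGroup 2) (hs : s ^ 2 ≠ 1) : orderOf s = 2 * 2 := by
  have h := orderOf_eq_prime_pow (p := 2) (n := 1) (x := s) (by simpa using hs) (pow_four s)
  simpa using h

theorem iso_model {M : Type*} [Group M] (Q : Subgroup M) (e : Q ≃* QuaternionGroup 2) (x : M)
    (hx3 : x ^ 3 = 1) (hxN : x ∈ Subgroup.normalizer (Q : Set M))
    (hxC : ∃ q ∈ Q, x * q ≠ q * x) (hgen : Q ⊔ Subgroup.zpowers x = ⊤) :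
    Nonempty (Model ≃* M) := by
  classical
  -- the automorphism induced by `x`
  set σ : MulAut Q := Q.normalizerMonoidHom ⟨x, hxN⟩ with hσ
  have hσv : ∀ y : Q, ((σ y : Q) : M) = x * (y : M) * x⁻¹ := fun y => rfl
  set α : MulAut (QuaternionGroup 2) := MulAut.congr e σ with hα
  have hαv : ∀ q, α q = e (σ (e.symm q)) := fun q => rfl
  have hα3 : ∀ q, α (α (α q)) = q := by
    intro q
    simp only [hαv, MulEquiv.symm_apply_apply]
    have : σ (σ (σ (e.symm q))) = e.symm q := by
      apply Subtype.ext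
      rw [hσv, hσv, hσv]
      have h3 : x * x * x = 1 := by rw [← hx3]; simp [pow_succ]
      have h3' : x⁻¹ * x⁻¹ * x⁻¹ = 1 := by
        rw [← mul_inv_rev, ← mul_inv_rev, ← mul_assoc, h3, inv_one]
      calc x * (x * (x * ((e.symm q : Q) : M) * x⁻¹) * x⁻¹) * x⁻¹
          = (x * x * x) * ((e.symm q : Q) : M) * (x⁻¹ * x⁻¹ * x⁻¹) := by group
        _ = ((e.symm q : Q) : M) := by rw [h3, h3', one_mul, mul_one]
    rw [this, MulEquiv.apply_symm_apply]
  have hαne : ∃ q, α q ≠ q := by
    obtain ⟨q, hq, hne⟩ := hxC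
    refine ⟨e ⟨q, hq⟩, ?_⟩
    rw [hαv, MulEquiv.symm_apply_apply]
    intro h
    have h2 := e.injective h
    have h3 := congrArg (fun t : Q => (t : M)) h2
    simp only [hσv] at h3
    apply hne
    calc x * q = x * q * x⁻¹ * x := by group
      _ = q * x := by rw [h3]
  set u := α (a 1) with hu
  set v := α (xa 0) with hv
  have hev : ∀ q, ev u v q = α q := fun q => (aut_eq_ev α q).symm
  obtain ⟨s, hs2, hs1, hs3, hs4, hs5⟩ := DM2 u v (by intro q q'; simp only [hev, map_mul])
    (by intro q; simp only [hev]; exact hα3 q) (by obtain ⟨q, hq⟩ := hαne; exact ⟨q, by rwa [hev]⟩)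
  simp only [hev] at hs1 hs3 hs4 hs5
  have hos : orderOf s = 2 * 2 := orderOf_eq_four s hs2
  -- the endomorphism β : a 1 ↦ s, xa 0 ↦ α s
  set β : QuaternionGroup 2 →* QuaternionGroup 2 := quatHom hos hs4 hs3 with hβ
  have hβinj : Function.Injective β := by
    apply quatHom_injective
    intro i
    exact hs5 i.val (ZMod.val_lt i)
  have hβsurj : Function.Surjective β := Finite.surjective_of_injective hβinj
  have hβa : β (a 1) = s := by
    rw [hβ, quatHom_a]; exact zp_one hos
  have hβx : β (xa 0) = α s := by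
    rw [hβ, quatHom_xa, zp_zero, mul_one]
  have hβx1 : β (xa 1) = α s * s := by
    rw [hβ, quatHom_xa, zp_one hos]
  have hcomp : (α.toMonoidHom.comp β) = β.comp phi0.toMonoidHom := by
    apply MonoidHom.eq_of_eqOn_dense (Cfsg.Agent.Lib.Helper66.DihedralStem.quaternion_closure 2)
    intro q hq
    rcases hq with rfl | rfl
    · show α (β (a 1)) = β (phi0 (a 1))
      rw [hβa]
      have : phi0 (a 1) = xa 0 := by decide
      rw [this, hβx]
    · show α (β (xa 0)) = β (phi0 (xa 0))
      rw [hβx, hs1]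
      have : phi0 (xa 0) = xa 1 := by decide
      rw [this, hβx1]
  have hcomp' : ∀ q, α (β q) = β (phi0 q) := fun q => DFunLike.congr_fun hcomp q
  -- the maps
  set f₁ : QuaternionGroup 2 →* M := Q.subtype.comp (e.symm.toMonoidHom.comp β) with hf₁
  have hf₁v : ∀ q, f₁ q = ((e.symm (β q) : Q) : M) := fun q => rfl
  have hf₁inj : Function.Injective f₁ := by
    intro q q' h
    rw [hf₁v, hf₁v] at h
    exact hβinj (e.symm.injective (Subtype.ext h))
  set f₂ : Multiplicative (ZMod 3) →* M := cycHom x hx3 with hf₂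
  have hbase : ∀ q, f₁ (phi0 q) = x * f₁ q * x⁻¹ := by
    intro q
    rw [hf₁v, hf₁v, ← hcomp', hαv, MulEquiv.symm_apply_apply, hσv]
  have hpow : ∀ (k : ℕ) q, f₁ ((phi0 ^ k) q) = x ^ k * f₁ q * (x ^ k)⁻¹ := by
    intro k
    induction k with
    | zero => intro q; simp
    | succ k ih =>
      intro q
      rw [pow_succ, MulAut.mul_apply, ih, hbase, pow_succ]
      group
  have hcompat : ∀ g, f₁.comp ((cycHom phi0 phi0_pow) g).toMonoidHom =
      (MulAut.conj (f₂ g)).toMonoidHom.comp f₁ := by
    intro g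
    ext q
    show f₁ ((cycHom phi0 phi0_pow g) q) = f₂ g * f₁ q * (f₂ g)⁻¹
    rw [cycHom_apply, hf₂, cycHom_apply, hpow]
  set Θ : Model →* M := SemidirectProduct.lift f₁ f₂ hcompat with hΘ
  have hΘv : ∀ y : Model, Θ y = f₁ y.left * f₂ y.right := fun y => rfl
  have hx1 : x ≠ 1 := by
    rintro rfl
    obtain ⟨q, -, hne⟩ := hxC
    exact hne (by simp)
  have hox : orderOf x = 3 := orderOf_eq_prime hx3 hx1
  have hcardQ : Nat.card Q = 8 := by
    rw [Nat.card_congr e.toEquiv, Nat.card_eq_fintype_card, QuaternionGroup.card]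
  have hinj : Function.Injective Θ := by
    rw [injective_iff_map_eq_one]
    intro y hy
    rw [hΘv] at hy
    have h1 : f₁ y.left = (f₂ y.right)⁻¹ := eq_inv_of_mul_eq_one_left hy
    have h8 : (f₁ y.left) ^ 8 = 1 := by
      rw [hf₁v]
      have := pow_card_eq_one' (G := Q) (x := e.symm (β y.left))
      rw [hcardQ] at this
      have h' := congrArg (fun t : Q => (t : M)) this
      simpa using h'
    have h3 : (f₁ y.left) ^ 3 = 1 := by
      rw [h1, hf₂, cycHom_apply, inv_pow, ← pow_mul, mul_comm, pow_mul, hx3, one_pow, inv_one]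
    have h0 : f₁ y.left = 1 := by
      have : f₁ y.left = ((f₁ y.left) ^ 3) ^ 3 * ((f₁ y.left) ^ 8)⁻¹ := by
        rw [← pow_mul]; group
      rw [this, h3, h8]; simp
    have hl : y.left = 1 := hf₁inj (by rw [h0, map_one])
    have hr : f₂ y.right = 1 := by rw [h0] at h1; simpa using h1.symm
    rw [hf₂, cycHom_apply] at hr
    have hdvd : 3 ∣ (Multiplicative.toAdd y.right).val := by
      have hd := orderOf_dvd_of_pow_eq_one hr
      rwa [hox] at hd
    have hlt : (Multiplicative.toAdd y.right).val < 3 := ZMod.val_lt _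
    have hz : (Multiplicative.toAdd y.right).val = 0 := Nat.eq_zero_of_dvd_of_lt hdvd hlt
    have hr' : y.right = 1 := by
      have : Multiplicative.toAdd y.right = 0 := (ZMod.val_eq_zero _).mp hz
      exact this
    exact SemidirectProduct.ext hl hr'
  have hsurj : Function.Surjective Θ := by
    rw [← MonoidHom.range_eq_top, eq_top_iff, ← hgen, sup_le_iff]
    constructor
    · intro q hq
      obtain ⟨t, ht⟩ := hβsurj (e ⟨q, hq⟩)
      refine ⟨SemidirectProduct.inl t, ?_⟩
      rw [hΘ, SemidirectProduct.lift_inl, hf₁v, ht, MulEquiv.symm_apply_apply]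
    · rw [Subgroup.zpowers_le]
      refine ⟨SemidirectProduct.inr (Multiplicative.ofAdd 1), ?_⟩
      rw [hΘ, SemidirectProduct.lift_inr, hf₂, cycHom_apply]
      have : (Multiplicative.toAdd (Multiplicative.ofAdd (1 : ZMod 3))).val = 1 := by decide
      rw [this, pow_one]
  exact ⟨MulEquiv.ofBijective Θ ⟨hinj, hsurj⟩⟩



theorem sl_model : Nonempty (Model ≃* Matrix.SpecialLinearGroup (Fin 2) (ZMod 3)) := by
  classical
  haveI : Fact (Nat.Prime 3) := ⟨Nat.prime_three⟩
  obtain ⟨⟨Q, hQn, hQi, ⟨e⟩⟩, hZ⟩ := Cfsg.Agent.S0257.result (F := ZMod 3) (ZMod.card 3)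
  have hcardQ : Nat.card Q = 8 := by
    rw [Nat.card_congr e.toEquiv, Nat.card_eq_fintype_card, QuaternionGroup.card]
  have hcard : Nat.card (Matrix.SpecialLinearGroup (Fin 2) (ZMod 3)) = 24 := by
    rw [← Subgroup.card_mul_index Q, hcardQ, hQi]
  obtain ⟨x, hx⟩ := exists_prime_orderOf_dvd_card' (G := Matrix.SpecialLinearGroup (Fin 2) (ZMod 3)) 3
    (by rw [hcard]; decide)
  have hx3 : x ^ 3 = 1 := by
    have h := pow_orderOf_eq_one x
    rwa [hx] at h
  have hxQ : x ∉ Q := by
    intro hxQ
    have h1 : orderOf (⟨x, hxQ⟩ : Q) ∣ Nat.card Q := orderOf_dvd_natCard _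
    rw [Subgroup.orderOf_mk, hx, hcardQ] at h1
    revert h1; decide
  have hgen : Q ⊔ Subgroup.zpowers x = ⊤ := by
    have hle : Q ≤ Q ⊔ Subgroup.zpowers x := le_sup_left
    have h1 := Subgroup.relIndex_mul_index hle
    rw [hQi] at h1
    have h2 : (Q ⊔ Subgroup.zpowers x).index ∣ 3 := Dvd.intro_left _ h1
    rcases (Nat.dvd_prime Nat.prime_three).mp h2 with h3 | h3
    · exact Subgroup.index_eq_one.mp h3
    · exfalso
      rw [h3] at h1
      have h4 : Q.relIndex (Q ⊔ Subgroup.zpowers x) = 1 := by omega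
      have h5 := Subgroup.relIndex_eq_one.mp h4
      exact hxQ (h5 (le_sup_right (a := Q) (Subgroup.mem_zpowers x)))
  have hxC : ∃ q ∈ Q, x * q ≠ q * x := by
    by_contra hcon
    push Not at hcon
    have hxc : x ∈ Subgroup.center (Matrix.SpecialLinearGroup (Fin 2) (ZMod 3)) := by
      rw [Subgroup.mem_center_iff]
      have hle : Q ⊔ Subgroup.zpowers x ≤ Subgroup.centralizer {x} := by
        rw [sup_le_iff]
        constructor
        · intro q hq
          rw [Subgroup.mem_centralizer_iff]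
          intro y hy
          rw [Set.mem_singleton_iff] at hy
          subst hy
          exact hcon q hq
        · rw [Subgroup.zpowers_le, Subgroup.mem_centralizer_iff]
          intro y hy
          rw [Set.mem_singleton_iff] at hy
          subst hy
          rfl
      intro g
      have hg : g ∈ Subgroup.centralizer {x} := hle (by rw [hgen]; trivial)
      rw [Subgroup.mem_centralizer_iff] at hg
      exact (hg x rfl).symm
    have h1 := orderOf_dvd_natCard
      (⟨x, hxc⟩ : Subgroup.center (Matrix.SpecialLinearGroup (Fin 2) (ZMod 3)))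
    rw [hZ, Subgroup.orderOf_mk, hx] at h1
    revert h1; decide
  exact iso_model Q e x hx3 (by rw [Subgroup.normalizer_eq_top]; trivial) hxC hgen



theorem mem_centralizer_of_aut_eq_one {G : Type*} [Group G] (Q : Subgroup G)
    (z : ↥(Subgroup.normalizer (Q : Set G))) (h : Q.normalizerMonoidHom z = 1) :
    (z : G) ∈ Subgroup.centralizer (Q : Set G) := by
  have h1 : z ∈ Q.normalizerMonoidHom.ker := h
  rw [Subgroup.normalizerMonoidHom_ker, Subgroup.mem_subgroupOf] at h1
  exact h1

theorem aut_pow_apply {X : Type*} [Group X] (α : MulAut X) (k : ℕ) (q : X) :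
    (α ^ k) q = (⇑α)^[k] q := by
  induction k generalizing q with
  | zero => rfl
  | succ k ih => rw [pow_succ, MulAut.mul_apply, ih, Function.iterate_succ_apply]

theorem aut_pow_twelve (α : MulAut (QuaternionGroup 2)) : α ^ 12 = 1 := by
  ext q
  rw [aut_pow_apply, MulAut.one_apply]
  have hev : ∀ q, ev (α (a 1)) (α (xa 0)) q = α q := fun q => (aut_eq_ev α q).symm
  have h := DM1 (α (a 1)) (α (xa 0)) (by intro q q'; simp only [hev, map_mul])
    (by intro q q' hqq; simp only [hev] at hqq; exact α.injective hqq) q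
  have hfun : ev (α (a 1)) (α (xa 0)) = ⇑α := funext hev
  rwa [hfun] at h


/-- A group generated by a quaternion subgroup of order 8 and an element of order 3 normalising
but not centralising it is isomorphic to `SL(2,3)`. -/
theorem iso_sl23 {M : Type*} [Group M] (Q : Subgroup M) (e : Q ≃* QuaternionGroup 2) (x : M)
    (hx3 : x ^ 3 = 1) (hxN : x ∈ Subgroup.normalizer (Q : Set M))
    (hxC : ∃ q ∈ Q, x * q ≠ q * x) (hgen : Q ⊔ Subgroup.zpowers x = ⊤) :
    Nonempty (M ≃* Matrix.SpecialLinearGroup (Fin 2) (ZMod 3)) := by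
  obtain ⟨Θ⟩ := iso_model Q e x hx3 hxN hxC hgen
  obtain ⟨Θ'⟩ := sl_model
  exact ⟨Θ.symm.trans Θ'⟩

/-- If an element `g` of odd order normalises but does not centralise a subgroup
`Q ≃* QuaternionGroup 2`, then `Q⟨g⟩ / ⟨g ^ 3⟩` is a section isomorphic to `SL(2,3)`. -/
theorem exists_section_sl23 {G : Type*} [Group G] (Q : Subgroup G) (e2 : Q ≃* QuaternionGroup 2)
    (g : G) (hgN : g ∈ Subgroup.normalizer (Q : Set G)) (hgo : Nat.Coprime (orderOf g) 2)
    (hgC : g ∉ Subgroup.centralizer (Q : Set G)) :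
    ∃ (H K : Subgroup G) (hK : (K.subgroupOf H).Normal),
      Nonempty ((H ⧸ K.subgroupOf H) ≃* Matrix.SpecialLinearGroup (Fin 2) (ZMod 3)) := by
  classical
  set m := orderOf g with hm
  set gN : ↥(Subgroup.normalizer (Q : Set G)) := ⟨g, hgN⟩ with hgNdef
  set σ : MulAut Q := Q.normalizerMonoidHom gN with hσ
  have hσm : σ ^ m = 1 := by
    rw [hσ, ← map_pow]
    have : gN ^ m = 1 := Subtype.ext (by simp [hgNdef, hm, pow_orderOf_eq_one])
    rw [this, map_one]
  set α : MulAut (QuaternionGroup 2) := MulAut.congr e2 σ with hα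
  have hαm : α ^ m = 1 := by rw [hα, ← map_pow, hσm, map_one]
  have hα3 : α ^ 3 = 1 := by
    rw [← orderOf_dvd_iff_pow_eq_one]
    have h12 : orderOf α ∣ 3 * 4 := orderOf_dvd_of_pow_eq_one (aut_pow_twelve α)
    have hm' : orderOf α ∣ m := orderOf_dvd_of_pow_eq_one hαm
    have hcop : Nat.Coprime (orderOf α) 4 := by
      have : Nat.Coprime (orderOf α) (2 ^ 2) := (Nat.Coprime.coprime_dvd_left hm' hgo).pow_right 2
      simpa using this
    exact Nat.Coprime.dvd_of_dvd_mul_right hcop h12
  have hσ3 : σ ^ 3 = 1 := by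
    apply (MulAut.congr e2).injective
    rw [map_pow, map_one]; exact hα3
  have hg3 : g ^ 3 ∈ Subgroup.centralizer (Q : Set G) := by
    have h := mem_centralizer_of_aut_eq_one Q (gN ^ 3) (by rw [map_pow]; exact hσ3)
    simpa [hgNdef] using h
  have hcardQ : Nat.card Q = 8 := by
    rw [Nat.card_congr e2.toEquiv, Nat.card_eq_fintype_card, QuaternionGroup.card]
  -- the section
  set H : Subgroup G := Q ⊔ Subgroup.zpowers g with hH
  set K : Subgroup G := Subgroup.zpowers (g ^ 3) with hK
  have hQH : Q ≤ H := le_sup_left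
  have hgH : g ∈ H := le_sup_right (a := Q) (Subgroup.mem_zpowers g)
  have hHc : ∀ h ∈ H, h * g ^ 3 = g ^ 3 * h := by
    have hle : H ≤ Subgroup.centralizer {g ^ 3} := by
      rw [hH, sup_le_iff]
      constructor
      · intro q hq
        rw [Subgroup.mem_centralizer_iff]
        intro y hy
        rw [Set.mem_singleton_iff] at hy
        subst hy
        rw [Subgroup.mem_centralizer_iff] at hg3
        exact (hg3 q hq).symm
      · rw [Subgroup.zpowers_le, Subgroup.mem_centralizer_iff]
        intro y hy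
        rw [Set.mem_singleton_iff] at hy
        subst hy
        rw [← pow_succ, ← pow_succ']
    intro h hh
    have := hle hh
    rw [Subgroup.mem_centralizer_iff] at this
    exact (this (g ^ 3) rfl).symm
  have hKc : ∀ h ∈ H, ∀ z ∈ K, h * z = z * h := by
    intro h hh z hz
    rw [hK, Subgroup.mem_zpowers_iff] at hz
    obtain ⟨i, rfl⟩ := hz
    have hc : Commute h (g ^ 3) := hHc h hh
    exact hc.zpow_right i
  haveI hKn : (K.subgroupOf H).Normal := by
    constructor
    intro z hz h
    rw [Subgroup.mem_subgroupOf] at hz ⊢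
    have : ((h * z * h⁻¹ : H) : G) = (z : G) := by
      push_cast
      rw [hKc h h.2 z hz]; group
    rw [this]; exact hz
  have hQK : ∀ z ∈ Q, z ∈ K → z = 1 := by
    intro z hzQ hzK
    have h1 : orderOf z ∣ m := by
      have hz' : z ∈ Subgroup.zpowers g := by
        rw [hK, Subgroup.mem_zpowers_iff] at hzK
        obtain ⟨i, rfl⟩ := hzK
        rw [← zpow_natCast, ← zpow_mul]
        exact Subgroup.zpow_mem _ (Subgroup.mem_zpowers g) _
      exact orderOf_dvd_of_mem_zpowers hz'
    have h2 : orderOf z ∣ 2 ^ 3 := by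
      apply orderOf_dvd_of_pow_eq_one
      have h8 := pow_card_eq_one' (G := Q) (x := (⟨z, hzQ⟩ : Q))
      rw [hcardQ] at h8
      have := congrArg (fun t : Q => (t : G)) h8
      simpa using this
    have h3 : Nat.Coprime (orderOf z) (2 ^ 3) := (Nat.Coprime.coprime_dvd_left h1 hgo).pow_right 3
    exact orderOf_eq_one_iff.mp (Nat.Coprime.eq_one_of_dvd h3 h2)
  set π : H →* H ⧸ K.subgroupOf H := QuotientGroup.mk' (K.subgroupOf H) with hπ
  set gH : H := ⟨g, hgH⟩ with hgHdef
  set Q' : Subgroup H := Q.subgroupOf H with hQ'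
  have hx3 : (π gH) ^ 3 = 1 := by
    rw [← map_pow, hπ, QuotientGroup.mk'_apply, QuotientGroup.eq_one_iff, Subgroup.mem_subgroupOf]
    show g ^ 3 ∈ K
    exact Subgroup.mem_zpowers _
  -- the isomorphism of the image of `Q` with the quaternion group
  set ψ : Q' →* H ⧸ K.subgroupOf H := π.comp Q'.subtype with hψ
  have hψinj : Function.Injective ψ := by
    rw [injective_iff_map_eq_one]
    intro y hy
    have h1 : ((y : H)) ∈ K.subgroupOf H := by
      rw [← QuotientGroup.eq_one_iff]; exact hy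
    rw [Subgroup.mem_subgroupOf] at h1
    have h2 : ((y : H) : G) ∈ Q := Subgroup.mem_subgroupOf.mp y.2
    have h3 := hQK _ h2 h1
    exact Subtype.ext (Subtype.ext h3)
  have hrange : ψ.range = Q'.map π := by
    rw [hψ, MonoidHom.range_comp, Subgroup.range_subtype]
  have ebar : (Q'.map π : Subgroup (H ⧸ K.subgroupOf H)) ≃* QuaternionGroup 2 :=
    (MulEquiv.subgroupCongr hrange).symm.trans
      ((MonoidHom.ofInjective hψinj).symm.trans ((Subgroup.subgroupOfEquivOfLe hQH).trans e2))
  have hxN : π gH ∈ Subgroup.normalizer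
      ((Q'.map π : Subgroup (H ⧸ K.subgroupOf H)) : Set (H ⧸ K.subgroupOf H)) := by
    apply Subgroup.le_normalizer_map π
    refine ⟨gH, ?_, rfl⟩
    rw [SetLike.mem_coe, Subgroup.mem_normalizer_iff]
    intro h
    rw [hQ', Subgroup.mem_subgroupOf, Subgroup.mem_subgroupOf]
    have := (Subgroup.mem_normalizer_iff.mp hgN) (h : G)
    simpa [hgHdef] using this
  have hxC : ∃ q ∈ (Q'.map π : Subgroup (H ⧸ K.subgroupOf H)), π gH * q ≠ q * π gH := by
    have hgC' : ¬ ∀ h ∈ Q, h * g = g * h := by
      intro h; apply hgC; rw [Subgroup.mem_centralizer_iff]; exact h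
    push Not at hgC'
    obtain ⟨q, hq, hne⟩ := hgC'
    set qH : H := ⟨q, hQH hq⟩ with hqH
    refine ⟨π qH, ⟨qH, Subgroup.mem_subgroupOf.mpr hq, rfl⟩, ?_⟩
    intro heq
    rw [← map_mul, ← map_mul, hπ, QuotientGroup.mk'_apply, QuotientGroup.mk'_apply, QuotientGroup.eq,
      Subgroup.mem_subgroupOf] at heq
    have hc : ((gH * qH)⁻¹ * (qH * gH) : H) = (1 : H) := by
      apply Subtype.ext
      apply hQK _ _ heq
      have h1 : g⁻¹ * q * g ∈ Q := by
        have := (Subgroup.mem_normalizer_iff.mp hgN) (g⁻¹ * q * g)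
        rw [this]
        simpa [mul_assoc] using hq
      have h2 : (((gH * qH)⁻¹ * (qH * gH) : H) : G) = q⁻¹ * (g⁻¹ * q * g) := by
        simp [hgHdef, hqH]; group
      rw [h2]
      exact mul_mem (inv_mem hq) h1
    apply hne
    have h3 := congrArg (fun t : H => (t : G)) hc
    simp [hgHdef, hqH] at h3
    have : g * q = q * g := by
      calc g * q = (g * q) * ((g * q)⁻¹ * (q * g)) := by rw [mul_inv_rev]; simp [h3]
        _ = q * g := by group
    exact this.symm
  have hgen : (Q'.map π : Subgroup (H ⧸ K.subgroupOf H)) ⊔ Subgroup.zpowers (π gH) = ⊤ := by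
    have h1 : Q' ⊔ Subgroup.zpowers gH = ⊤ := by
      have h2 : (Subgroup.zpowers g).subgroupOf H ≤ Subgroup.zpowers gH := by
        intro y hy
        rw [Subgroup.mem_subgroupOf, Subgroup.mem_zpowers_iff] at hy
        obtain ⟨i, hi⟩ := hy
        rw [Subgroup.mem_zpowers_iff]
        exact ⟨i, Subtype.ext (by simpa [hgHdef] using hi)⟩
      have h3 : (Q ⊔ Subgroup.zpowers g).subgroupOf H = ⊤ := by
        rw [← hH]; exact Subgroup.subgroupOf_self H
      rw [Subgroup.subgroupOf_sup hQH (by rw [hH]; exact le_sup_right)] at h3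
      rw [eq_top_iff, ← h3]
      exact sup_le_sup le_rfl h2
    rw [← MonoidHom.map_zpowers, ← Subgroup.map_sup, h1, ← MonoidHom.range_eq_map,
      MonoidHom.range_eq_top]
    exact QuotientGroup.mk'_surjective _
  exact ⟨H, K, hKn, iso_sl23 (Q'.map π) ebar (π gH) hx3 hxN hxC hgen⟩

end Cfsg.Agent.Lib.Helper2.SL23
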