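import Mathlib
import Cfsg.Agent.S0001
import Cfsg.Agent.Lib.Helper2.FusCtl

/-!
# Internal Schur–Zassenhaus and a splitting criterion

* `exists_compl`: internal Schur–Zassenhaus existence (`Q ≤ M`, `M` normalizes `Q`, coprime).
* `conj_compl`: internal Schur–Zassenhaus conjugacy (complements of `Q` in `M` are `Q`-conjugate).
* `exists_compl_of_fixedPointFree`: if `Q ≤ M` are normal in `X`, `Q` abelian `p`-group,
  `M/Q` a `p'`-group, `X/M` a `p`-group and `C_Q(M) = 1`, then `X` splits over `M`.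
-/

set_option autoImplicit false

namespace Cfsg.Agent.Lib.Helper2.Split

open scoped Pointwise

universe u

theorem exists_compl {X : Type*} [Group X] [Finite X] (Q M : Subgroup X) (hQM : Q ≤ M)
    (hMQ : M ≤ Subgroup.normalizer (Q : Set X)) (hcop : (Nat.card Q).Coprime (Q.relIndex M)) :
    ∃ H : Subgroup X, H ≤ M ∧ Q ⊓ H = ⊥ ∧ Q ⊔ H = M ∧ Nat.card Q * Nat.card H = Nat.card M := by
  classical
  haveI : (Q.subgroupOf M).Normal := (Subgroup.normal_subgroupOf_iff_le_normalizer hQM).mpr hMQ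
  have hcard : Nat.card (Q.subgroupOf M) = Nat.card Q := Cfsg.Agent.S0001.card_subgroupOf_of_le hQM
  have hcop' : (Nat.card (Q.subgroupOf M)).Coprime (Q.subgroupOf M).index := by
    rw [hcard]; exact hcop
  obtain ⟨H', hH'⟩ := Subgroup.exists_right_complement'_of_coprime hcop'
  refine ⟨H'.map M.subtype, Subgroup.map_subtype_le _, ?_, ?_, ?_⟩
  · rw [eq_bot_iff]
    intro y hy
    obtain ⟨hyQ, hyH⟩ := Subgroup.mem_inf.mp hy
    obtain ⟨h, hh, rfl⟩ := Subgroup.mem_map.mp hyH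
    have h1 : h ∈ Q.subgroupOf M ⊓ H' := Subgroup.mem_inf.mpr ⟨Subgroup.mem_subgroupOf.mpr hyQ, hh⟩
    rw [hH'.disjoint.eq_bot, Subgroup.mem_bot] at h1
    rw [Subgroup.mem_bot, h1]; rfl
  · apply le_antisymm (sup_le hQM (Subgroup.map_subtype_le _))
    intro m hm
    have h1 : (⟨m, hm⟩ : M) ∈ Q.subgroupOf M ⊔ H' := by rw [hH'.sup_eq_top]; exact Subgroup.mem_top _
    obtain ⟨q, hq, h, hh, hqh⟩ := Subgroup.mem_sup_of_normal_left.mp h1
    have h2 : m = (q : X) * (h : X) := by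
      have := congrArg Subtype.val hqh
      simpa using this.symm
    rw [h2]
    exact Subgroup.mul_mem _ (Subgroup.mem_sup_left (Subgroup.mem_subgroupOf.mp hq))
      (Subgroup.mem_sup_right (Subgroup.mem_map_of_mem _ hh))
  · rw [Subgroup.card_map_of_injective M.subtype_injective, ← hcard]
    exact hH'.card_mul_card

theorem conj_compl {X : Type u} [Group X] [Finite X] (Q M H₁ H₂ : Subgroup X) (hQM : Q ≤ M)
    (hMQ : M ≤ Subgroup.normalizer (Q : Set X)) (hsolv : Group.IsSolvable Q)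
    (h₁ : H₁ ≤ M) (h₂ : H₂ ≤ M) (hd₁ : Q ⊓ H₁ = ⊥) (hd₂ : Q ⊓ H₂ = ⊥)
    (hc₁ : Nat.card Q * Nat.card H₁ = Nat.card M) (hc₂ : Nat.card Q * Nat.card H₂ = Nat.card M)
    (hcop : (Nat.card Q).Coprime (Nat.card H₁)) :
    ∃ m ∈ Q, MulAut.conj m • H₁ = H₂ := by
  classical
  haveI : (Q.subgroupOf M).Normal := (Subgroup.normal_subgroupOf_iff_le_normalizer hQM).mpr hMQ
  have hdisj : ∀ H : Subgroup X, Q ⊓ H = ⊥ → Disjoint (Q.subgroupOf M) (H.subgroupOf M) := by
    intro H hd
    rw [disjoint_iff, eq_bot_iff]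
    intro x hx
    obtain ⟨hx1, hx2⟩ := Subgroup.mem_inf.mp hx
    have : (x : X) ∈ Q ⊓ H :=
      Subgroup.mem_inf.mpr ⟨Subgroup.mem_subgroupOf.mp hx1, Subgroup.mem_subgroupOf.mp hx2⟩
    rw [hd, Subgroup.mem_bot] at this
    rw [Subgroup.mem_bot]
    exact Subtype.ext this
  have e1 : Subgroup.IsComplement' (Q.subgroupOf M) (H₁.subgroupOf M) := by
    apply Subgroup.isComplement'_of_card_mul_and_disjoint
    · rw [Cfsg.Agent.S0001.card_subgroupOf_of_le hQM, Cfsg.Agent.S0001.card_subgroupOf_of_le h₁, hc₁]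
    · exact hdisj H₁ hd₁
  have e2 : Subgroup.IsComplement' (Q.subgroupOf M) (H₂.subgroupOf M) := by
    apply Subgroup.isComplement'_of_card_mul_and_disjoint
    · rw [Cfsg.Agent.S0001.card_subgroupOf_of_le hQM, Cfsg.Agent.S0001.card_subgroupOf_of_le h₂, hc₂]
    · exact hdisj H₂ hd₂
  haveI := hsolv
  haveI : Group.IsSolvable (Q.subgroupOf M) := Cfsg.Agent.S0001.solv_subgroupOf Q M
  obtain ⟨n, hn, hconj⟩ := Cfsg.Agent.S0001.sz_conj_mem (Q.subgroupOf M) (H₁.subgroupOf M)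
    (H₂.subgroupOf M) e1 e2
    (by rw [Cfsg.Agent.S0001.card_subgroupOf_of_le hQM, Cfsg.Agent.S0001.card_subgroupOf_of_le h₁]
        exact hcop) (Or.inl inferInstance)
  exact ⟨(n : X), Subgroup.mem_subgroupOf.mp hn, Cfsg.Agent.S0001.conj_of_subgroupOf n h₁ h₂ hconj⟩

theorem mem_normalizer_of_conj_smul_eq {X : Type*} [Group X] (H : Subgroup X) (g : X)
    (h : MulAut.conj g • H = H) : g ∈ Subgroup.normalizer (H : Set X) := by
  rw [Subgroup.mem_normalizer_iff]
  intro x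
  constructor
  · intro hx
    have := Subgroup.smul_mem_pointwise_smul x (MulAut.conj g) H hx
    rw [h] at this
    simpa [MulAut.smul_def] using this
  · intro hx
    rw [← h] at hx
    obtain ⟨s, hs, hsx⟩ := (Subgroup.mem_smul_pointwise_iff_exists _ _ _).mp hx
    have : s = x := by
      have h1 : g * s * g⁻¹ = g * x * g⁻¹ := by simpa [MulAut.smul_def] using hsx
      have h2 : g⁻¹ * (g * s * g⁻¹) * g = g⁻¹ * (g * x * g⁻¹) * g := by rw [h1]
      have e1 : g⁻¹ * (g * s * g⁻¹) * g = s := by group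
      have e2 : g⁻¹ * (g * x * g⁻¹) * g = x := by group
      rw [e1, e2] at h2
      exact h2
    rw [← this]; exact hs

/-- Splitting criterion: `Q ≤ M` normal in `X`, `Q` an abelian `p`-group, `p ∤ |M : Q|`,
`|X : M|` a power of `p`, and no nontrivial element of `Q` is centralized by `M`.
Then `M` has a complement in `X`. -/
theorem exists_compl_of_fixedPointFree {X : Type u} [Group X] [Finite X] {p : ℕ} [Fact p.Prime]
    (Q M : Subgroup X) [Q.Normal] [M.Normal] (hQM : Q ≤ M)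
    (hQab : ∀ a ∈ Q, ∀ b ∈ Q, a * b = b * a)
    (hQp : IsPGroup p Q) (hMQ : ¬ p ∣ Q.relIndex M) (hXM : ∃ k, M.index = p ^ k)
    (hfix : ∀ z ∈ Q, (∀ m ∈ M, m * z = z * m) → z = 1) :
    ∃ K : Subgroup X, K ⊓ M = ⊥ ∧ K ⊔ M = ⊤ := by
  classical
  have hp : p.Prime := Fact.out
  obtain ⟨a, ha⟩ := hQp.exists_card_eq
  have hcop1 : (Nat.card Q).Coprime (Q.relIndex M) := by
    rw [ha]
    exact Nat.Coprime.pow_left _ ((Nat.Prime.coprime_iff_not_dvd hp).mpr hMQ)
  have hQn : M ≤ Subgroup.normalizer (Q : Set X) := by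
    rw [Subgroup.normalizer_eq_top]; exact le_top
  obtain ⟨H, hHM, hd, hsup, hcard⟩ := exists_compl Q M hQM hQn hcop1
  have hHcard : Nat.card H = Q.relIndex M := by
    have h1 := Cfsg.Agent.Lib.Helper2.FusCtl.card_mul_relIndex hQM
    rw [← hcard] at h1
    exact (Nat.eq_of_mul_eq_mul_left Nat.card_pos h1).symm
  have hcop2 : (Nat.card Q).Coprime (Nat.card H) := by rw [hHcard]; exact hcop1
  have hsolv : Group.IsSolvable Q :=
    Group.isSolvable_of_comm (fun x y => Subtype.ext (hQab x x.2 y y.2))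
  set R := Subgroup.normalizer (H : Set X) with hR
  have hHR : H ≤ R := Subgroup.le_normalizer
  -- Frattini argument
  have hQR : ∀ x : X, ∃ q ∈ Q, q⁻¹ * x ∈ R := by
    intro x
    have h₂ : MulAut.conj x • H ≤ M := by
      intro y hy
      obtain ⟨s, hs, rfl⟩ := (Subgroup.mem_smul_pointwise_iff_exists _ _ _).mp hy
      have : MulAut.conj x • s = x * s * x⁻¹ := by simp [MulAut.smul_def]
      rw [this]
      exact Subgroup.Normal.conj_mem inferInstance s (hHM hs) x
    have hd₂ : Q ⊓ MulAut.conj x • H = ⊥ := by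
      rw [eq_bot_iff]
      intro y hy
      obtain ⟨hyQ, hyH⟩ := Subgroup.mem_inf.mp hy
      obtain ⟨s, hs, rfl⟩ := (Subgroup.mem_smul_pointwise_iff_exists _ _ _).mp hyH
      have e : MulAut.conj x • s = x * s * x⁻¹ := by simp [MulAut.smul_def]
      rw [e] at hyQ ⊢
      have hsQ : s ∈ Q := by
        have := Subgroup.Normal.conj_mem inferInstance _ hyQ x⁻¹
        have e2 : x⁻¹ * (x * s * x⁻¹) * x⁻¹⁻¹ = s := by group
        rwa [e2] at this
      have : s ∈ Q ⊓ H := Subgroup.mem_inf.mpr ⟨hsQ, hs⟩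
      rw [hd, Subgroup.mem_bot] at this
      rw [Subgroup.mem_bot, this]; group
    have hc₂ : Nat.card Q * Nat.card (MulAut.conj x • H : Subgroup X) = Nat.card M := by
      rw [Cfsg.Agent.S0001.card_conj]; exact hcard
    obtain ⟨m, hmQ, hm⟩ := conj_compl Q M H (MulAut.conj x • H) hQM hQn hsolv hHM h₂ hd hd₂
      hcard hc₂ hcop2
    refine ⟨m, hmQ, ?_⟩
    apply mem_normalizer_of_conj_smul_eq
    rw [map_mul, mul_smul, ← hm, ← mul_smul, ← map_mul, inv_mul_cancel, map_one, one_smul]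
  -- R ∩ Q = 1
  have hRQ : ∀ z ∈ R, z ∈ Q → z = 1 := by
    intro z hzR hzQ
    apply hfix z hzQ
    have hzH : ∀ h ∈ H, z * h = h * z := by
      intro h hh
      have h1 : z * h * z⁻¹ ∈ H := (Subgroup.mem_normalizer_iff.mp hzR h).mp hh
      have h2 : z * h * z⁻¹ * h⁻¹ ∈ H := Subgroup.mul_mem _ h1 (Subgroup.inv_mem _ hh)
      have h3 : z * h * z⁻¹ * h⁻¹ ∈ Q := by
        have := Subgroup.Normal.conj_mem inferInstance _ (Subgroup.inv_mem _ hzQ) h
        have h4 := Subgroup.mul_mem _ hzQ this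
        have e : z * (h * z⁻¹ * h⁻¹) = z * h * z⁻¹ * h⁻¹ := by group
        rwa [e] at h4
      have h5 : z * h * z⁻¹ * h⁻¹ ∈ Q ⊓ H := Subgroup.mem_inf.mpr ⟨h3, h2⟩
      rw [hd, Subgroup.mem_bot] at h5
      have e : z * h = (z * h * z⁻¹ * h⁻¹) * (h * z) := by group
      rw [e, h5, one_mul]
    have hle : Q ⊔ H ≤ Subgroup.centralizer {z} := by
      apply sup_le
      · intro q hq
        rw [Subgroup.mem_centralizer_singleton_iff]
        exact hQab q hq z hzQ
      · intro h hh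
        rw [Subgroup.mem_centralizer_singleton_iff]
        exact (hzH h hh).symm
    rw [hsup] at hle
    intro m hm
    exact Subgroup.mem_centralizer_singleton_iff.mp (hle hm)
  -- R ∩ M = H
  have hRM : R ⊓ M = H := by
    apply le_antisymm
    · intro m hm
      obtain ⟨hmR, hmM⟩ := Subgroup.mem_inf.mp hm
      rw [← hsup] at hmM
      obtain ⟨q, hq, h, hh, hqh⟩ := Subgroup.mem_sup_of_normal_left.mp hmM
      have hqR : q ∈ R := by
        have : q = m * h⁻¹ := by rw [← hqh]; group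
        rw [this]
        exact Subgroup.mul_mem _ hmR (Subgroup.inv_mem _ (hHR hh))
      have := hRQ q hqR hq
      rw [← hqh, this, one_mul]; exact hh
    · exact le_inf hHR hHM
  have hRQtop : R ⊔ Q = ⊤ := by
    rw [eq_top_iff]
    intro x _
    obtain ⟨q, hq, hqx⟩ := hQR x
    have : x = q * (q⁻¹ * x) := by group
    rw [this]
    exact Subgroup.mul_mem _ (Subgroup.mem_sup_right hq) (Subgroup.mem_sup_left hqx)
  have hRMtop : R ⊔ M = ⊤ := by
    rw [eq_top_iff, ← hRQtop]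
    exact sup_le_sup_left hQM R
  -- |R : H| = |X : M|
  obtain ⟨k, hk⟩ := hXM
  have hrel : H.relIndex R = p ^ k := by
    rw [← hk, ← Subgroup.relIndex_top_right, ← hRMtop, Subgroup.relIndex_sup_right, ← hRM,
      inf_comm, Subgroup.inf_relIndex_right]
  have hcop3 : (Nat.card H).Coprime (H.relIndex R) := by
    rw [hrel, hHcard]
    exact Nat.Coprime.pow_right _ ((Nat.Prime.coprime_iff_not_dvd hp).mpr hMQ).symm
  obtain ⟨K, hKR, hdK, hsupK, _⟩ := exists_compl H R hHR le_rfl hcop3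
  refine ⟨K, ?_, ?_⟩
  · rw [eq_bot_iff]
    intro y hy
    obtain ⟨hyK, hyM⟩ := Subgroup.mem_inf.mp hy
    have hyH : y ∈ H := by rw [← hRM]; exact Subgroup.mem_inf.mpr ⟨hKR hyK, hyM⟩
    have : y ∈ H ⊓ K := Subgroup.mem_inf.mpr ⟨hyH, hyK⟩
    rw [hdK] at this
    exact this
  · rw [eq_top_iff, ← hRMtop]
    apply sup_le _ le_sup_right
    rw [← hsupK]
    exact sup_le (hHM.trans le_sup_right) le_sup_left

end Cfsg.Agent.Lib.Helper2.Split
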