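import Cfsg.Agent.Lib.Helper18.R59Stmt2

set_option autoImplicit false

namespace Cfsg.Agent.Lib.Helper2.R59AR1

theorem q_mod8 (m : ℕ) : 3 ^ (2 * m + 1) % 8 = 3 := by
  rw [pow_succ, pow_mul]
  simp [Nat.mul_mod, Nat.pow_mod]

theorem dvd_two {p : ℕ} (hp : p.Prime) (h : p ∣ 2) : p = 2 :=
  (Nat.prime_dvd_prime_iff_eq hp Nat.prime_two).mp h

/-- generic form, `q = n + 3` with `q % 4 = 3`. -/
theorem ar1_gen (n p : ℕ) (hq4 : (n + 3) % 4 = 3) (hp : p.Prime) (hd : p ∣ (n + 3 - 1) / 2) :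
    p ≠ 2 ∧ (n + 3 - 1).factorization p =
      ((n + 3) ^ 3 * (n + 3 - 1) * ((n + 3) ^ 3 + 1)).factorization p := by
  have hp2 : p ≠ 2 := by
    rintro rfl
    obtain ⟨c, hc⟩ := hd
    omega
  refine ⟨hp2, ?_⟩
  have e1 : n + 3 - 1 = n + 2 := rfl
  rw [e1] at hd ⊢
  have hdvd : p ∣ n + 2 := by
    obtain ⟨c, hc⟩ := hd
    refine ⟨2 * c, ?_⟩
    have : n + 2 = 2 * ((n + 2) / 2) := by omega
    rw [this, hc]; ring
  have hnq : ¬ p ∣ n + 3 := by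
    intro h
    have h1 : p ∣ (n + 3) - (n + 2) := Nat.dvd_sub h hdvd
    have e : (n + 3) - (n + 2) = 1 := by omega
    rw [e] at h1
    exact hp.one_lt.ne' (Nat.dvd_one.mp h1)
  have hnq3 : ¬ p ∣ (n + 3) ^ 3 := fun h => hnq (hp.dvd_of_dvd_pow h)
  have e3 : (n + 3) ^ 3 + 1 = (n + 2) * (n ^ 2 + 7 * n + 13) + 2 := by ring
  have hnc : ¬ p ∣ (n + 3) ^ 3 + 1 := by
    intro h
    rw [e3] at h
    have h1 : p ∣ 2 := (Nat.dvd_add_right (Dvd.dvd.mul_right hdvd _)).mp h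
    exact hp2 (dvd_two hp h1)
  rw [Nat.factorization_mul (by positivity) (by positivity),
    Nat.factorization_mul (by positivity) (by positivity)]
  simp only [Finsupp.add_apply]
  rw [Nat.factorization_eq_zero_of_not_dvd hnq3, Nat.factorization_eq_zero_of_not_dvd hnc]
  omega

theorem main : Cfsg.Agent.Lib.Helper18.R59Stmt2.AR1 := by
  intro m p hp hd
  have h8 := q_mod8 m
  generalize 3 ^ (2 * m + 1) = q at h8 hd ⊢
  obtain ⟨n, rfl⟩ : ∃ n, q = n + 3 := ⟨q - 3, by omega⟩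
  exact ar1_gen n p (by omega) hp hd

end Cfsg.Agent.Lib.Helper2.R59AR1
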