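import Cfsg.Agent.Lib.Helper18.R59Stmt

set_option autoImplicit false

namespace Cfsg.Agent.Lib.Helper2.R59SLI

universe u

open Matrix

/-- In `SL₂(K)`, `2 ≠ 0`: an element of square one is `±1` as a matrix. -/
theorem sq_one {K : Type u} [Field K] (h2 : (2 : K) ≠ 0)
    (y : SpecialLinearGroup (Fin 2) K) (hy : y * y = 1) :
    (y : Matrix (Fin 2) (Fin 2) K) = 1 ∨ (y : Matrix (Fin 2) (Fin 2) K) = -1 := by
  have hdet : (y : Matrix (Fin 2) (Fin 2) K).det = 1 := y.2
  have hm : (y : Matrix (Fin 2) (Fin 2) K) * (y : Matrix (Fin 2) (Fin 2) K) = 1 := by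
    have := congrArg (fun z : SpecialLinearGroup (Fin 2) K => (z : Matrix (Fin 2) (Fin 2) K)) hy
    simpa using this
  set M : Matrix (Fin 2) (Fin 2) K := (y : Matrix (Fin 2) (Fin 2) K) with hM
  have e00 := congrFun (congrFun hm 0) 0
  have e01 := congrFun (congrFun hm 0) 1
  have e10 := congrFun (congrFun hm 1) 0
  have e11 := congrFun (congrFun hm 1) 1
  simp [Matrix.mul_apply, Fin.sum_univ_two] at e00 e01 e10 e11
  rw [Matrix.det_fin_two] at hdet
  -- a := M 0 0, b := M 0 1, c := M 1 0, d := M 1 1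
  -- a^2 + b c = 1, b (a + d) = 0, c (a + d) = 0, d^2 + b c = 1, a d - b c = 1
  have had : (M 0 0 + M 1 1) ^ 2 = 4 := by linear_combination e00 + e11 + 2 * hdet
  have h4 : ((M 0 0 + M 1 1) - 2) * ((M 0 0 + M 1 1) + 2) = 0 := by linear_combination had
  have hb : M 0 1 * (M 0 0 + M 1 1) = 0 := by linear_combination e01
  have hc : M 1 0 * (M 0 0 + M 1 1) = 0 := by linear_combination e10
  have htr : M 0 0 + M 1 1 ≠ 0 := by
    intro h0
    rw [h0] at had
    have : (4 : K) = 2 * 2 := by norm_num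
    rw [this] at had
    have := mul_ne_zero h2 h2
    exact this (by rw [← had]; ring)
  have hb0 : M 0 1 = 0 := by
    rcases mul_eq_zero.mp hb with h | h
    · exact h
    · exact absurd h htr
  have hc0 : M 1 0 = 0 := by
    rcases mul_eq_zero.mp hc with h | h
    · exact h
    · exact absurd h htr
  have hadm : (M 0 0 - M 1 1) * (M 0 0 + M 1 1) = 0 := by linear_combination e00 - e11
  have hadeq : M 0 0 = M 1 1 := by
    rcases mul_eq_zero.mp hadm with h | h
    · exact sub_eq_zero.mp h
    · exact absurd h htr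
  rcases mul_eq_zero.mp h4 with h | h
  · left
    have ha : M 0 0 = 1 := by
      have : 2 * (M 0 0 - 1) = 0 := by linear_combination h + hadeq
      rcases mul_eq_zero.mp this with h' | h'
      · exact absurd h' h2
      · exact sub_eq_zero.mp h'
    ext i j
    fin_cases i <;> fin_cases j <;> simp [ha, hb0, hc0, ← hadeq]
  · right
    have ha : M 0 0 = -1 := by
      have : 2 * (M 0 0 + 1) = 0 := by linear_combination h + hadeq
      rcases mul_eq_zero.mp this with h' | h'
      · exact absurd h' h2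
      · exact eq_neg_of_add_eq_zero_left h'
    ext i j
    fin_cases i <;> fin_cases j <;> simp [ha, hb0, hc0, ← hadeq]

/-- A central element of `SL₂(K)` is `±1` as a matrix. -/
theorem center_pm {K : Type u} [Field K]
    (z : SpecialLinearGroup (Fin 2) K) (hz : z ∈ Subgroup.center (SpecialLinearGroup (Fin 2) K)) :
    (z : Matrix (Fin 2) (Fin 2) K) = 1 ∨ (z : Matrix (Fin 2) (Fin 2) K) = -1 := by
  rw [Matrix.SpecialLinearGroup.mem_center_iff] at hz
  obtain ⟨r, hr, hrz⟩ := hz
  have hr2 : r ^ 2 = 1 := by simpa using hr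
  have h' : (r - 1) * (r + 1) = 0 := by linear_combination hr2
  rcases mul_eq_zero.mp h' with h | h
  · left
    rw [← hrz, sub_eq_zero.mp h]
    simp
  · right
    rw [← hrz, eq_neg_of_add_eq_zero_left h]
    ext i j
    fin_cases i <;> fin_cases j <;> simp

/-- An element of `SL₂(K)` equal to `-1` as a matrix is central. -/
theorem neg_one_center {K : Type u} [Field K]
    (z : SpecialLinearGroup (Fin 2) K) (hz : (z : Matrix (Fin 2) (Fin 2) K) = -1) :
    z ∈ Subgroup.center (SpecialLinearGroup (Fin 2) K) := by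
  rw [Matrix.SpecialLinearGroup.mem_center_iff]
  refine ⟨-1, by simp, ?_⟩
  rw [hz]
  ext i j
  fin_cases i <;> fin_cases j <;> simp

theorem four_dvd (m : ℕ) : 2 ^ 2 ∣ 3 ^ (2 * m + 1) + 1 := by
  have : (3 ^ (2 * m + 1) + 1) % 4 = 0 := by
    rw [pow_succ, pow_mul]
    simp [Nat.add_mod, Nat.mul_mod, Nat.pow_mod]
  exact Nat.dvd_of_mod_eq_zero this

theorem main : Cfsg.Agent.Lib.Helper18.R59Stmt.SLI.{u} := by
  intro hSLC K _ _ m hK x p hp hp2 hp3 hpq hx
  obtain ⟨hcomm, hcard⟩ := hSLC K m hK x p hp hp2 hp3 hpq hx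
  -- characteristic facts
  have h3 : (3 : K) = 0 := by
    have h := Nat.cast_card_eq_zero K
    rw [hK] at h
    push_cast at h
    exact pow_eq_zero_iff (by omega) |>.mp h
  have h2 : (2 : K) ≠ 0 := by
    intro h
    have : (1 : K) = 0 := by linear_combination h3 - h
    exact one_ne_zero this
  have hneg : (-1 : Matrix (Fin 2) (Fin 2) K) ≠ 1 := by
    intro h
    have := congrFun (congrFun h 0) 0
    simp at this
    apply h2
    linear_combination (-1 : K) * this
  -- the centraliser as a subgroup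
  let C : Subgroup (SpecialLinearGroup (Fin 2) K) := Subgroup.centralizer {x}
  have hmemC : ∀ y : SpecialLinearGroup (Fin 2) K, y ∈ C ↔ y * x = x * y := by
    intro y
    simp only [C, Subgroup.mem_centralizer_iff, Set.mem_singleton_iff, forall_eq]
    exact eq_comm
  have hcardC : Nat.card C = 3 ^ (2 * m + 1) + 1 := by
    rw [← hcard]
    exact Nat.card_congr (Equiv.subtypeEquivRight hmemC)
  have : Fact (Nat.Prime 2) := ⟨Nat.prime_two⟩
  obtain ⟨P, hP⟩ := Sylow.exists_subgroup_card_pow_prime (G := C) 2 (n := 2)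
    (by rw [hcardC]; exact four_dvd m)
  -- an element of `P` which is not `±1`
  have hex : ∃ g : P, ((g : C) : Matrix (Fin 2) (Fin 2) K) ≠ 1 ∧
      ((g : C) : Matrix (Fin 2) (Fin 2) K) ≠ -1 := by
    by_contra hcon
    push Not at hcon
    classical
    let f : P → Bool := fun g => decide (((g : C) : Matrix (Fin 2) (Fin 2) K) = 1)
    have hf : Function.Injective f := by
      intro g h hgh
      simp only [f, decide_eq_decide] at hgh
      apply Subtype.ext
      apply Subtype.ext
      apply Subtype.ext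
      by_cases hg : ((g : C) : Matrix (Fin 2) (Fin 2) K) = 1
      · rw [hg, hgh.mp hg]
      · have hh : ¬ ((h : C) : Matrix (Fin 2) (Fin 2) K) = 1 := fun hh => hg (hgh.mpr hh)
        have e1 := hcon g
        have e2 := hcon h
        by_cases hg1 : ((g : C) : Matrix (Fin 2) (Fin 2) K) = 1
        · exact absurd hg1 hg
        · by_cases hh1 : ((h : C) : Matrix (Fin 2) (Fin 2) K) = 1
          · exact absurd hh1 hh
          · rw [e1 hg1, e2 hh1]
    have hle := Nat.card_le_card_of_injective f hf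
    rw [hP] at hle
    simp at hle
  obtain ⟨g, hg1, hg2⟩ := hex
  let i₀ : SpecialLinearGroup (Fin 2) K := ((g : C) : SpecialLinearGroup (Fin 2) K)
  have hi₀C : i₀ * x = x * i₀ := (hmemC i₀).mp (g : C).2
  have hi4 : i₀ ^ 4 = 1 := by
    have h := pow_card_eq_one' (G := P) (x := g)
    rw [hP] at h
    have h' := congrArg (fun z : P => ((z : C) : SpecialLinearGroup (Fin 2) K)) h
    simpa using h'
  have hsq : (i₀ * i₀) * (i₀ * i₀) = 1 := by
    rw [← hi4]; simp [pow_succ, mul_assoc]
  have hi2 : ((i₀ * i₀ : SpecialLinearGroup (Fin 2) K) : Matrix (Fin 2) (Fin 2) K) = -1 := by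
    rcases sq_one h2 (i₀ * i₀) hsq with h | h
    · exfalso
      have h1 : i₀ * i₀ = 1 := by
        apply Subtype.ext
        rw [h]; rfl
      rcases sq_one h2 i₀ h1 with h' | h'
      · exact hg1 h'
      · exact hg2 h'
    · exact h
  have hi2ne : i₀ * i₀ ≠ 1 := by
    intro h
    have := congrArg (fun z : SpecialLinearGroup (Fin 2) K => (z : Matrix (Fin 2) (Fin 2) K)) h
    rw [hi2] at this
    exact hneg (by simpa using this)
  refine ⟨i₀, hi₀C, hi2ne, neg_one_center _ hi2, ?_⟩
  intro y hy hyc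
  rcases center_pm (y * y) hyc with h | h
  · have h1 : y * y = 1 := by
      apply Subtype.ext
      rw [h]; rfl
    rcases sq_one h2 y h1 with h' | h'
    · left
      apply Subtype.ext
      rw [h']; rfl
    · right; right; left
      apply Subtype.ext
      rw [h', hi2]
  · have hyy : y * y = i₀ * i₀ := by
      apply Subtype.ext
      rw [h, hi2]
    have hcm : y * i₀⁻¹ = i₀⁻¹ * y := by
      have := hcomm y i₀ hy hi₀C
      calc y * i₀⁻¹ = i₀⁻¹ * (i₀ * y) * i₀⁻¹ := by group
        _ = i₀⁻¹ * (y * i₀) * i₀⁻¹ := by rw [this]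
        _ = i₀⁻¹ * y := by group
    have hw : (y * i₀⁻¹) * (y * i₀⁻¹) = 1 := by
      calc (y * i₀⁻¹) * (y * i₀⁻¹) = y * (i₀⁻¹ * y) * i₀⁻¹ := by group
        _ = y * (y * i₀⁻¹) * i₀⁻¹ := by rw [hcm]
        _ = (y * y) * i₀⁻¹ * i₀⁻¹ := by group
        _ = (i₀ * i₀) * i₀⁻¹ * i₀⁻¹ := by rw [hyy]
        _ = 1 := by group
    rcases sq_one h2 (y * i₀⁻¹) hw with h' | h'
    · right; left
      have : y * i₀⁻¹ = 1 := by
        apply Subtype.ext
        rw [h']; rfl
      calc y = (y * i₀⁻¹) * i₀ := by group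
        _ = i₀ := by rw [this, one_mul]
    · right; right; right
      have : y * i₀⁻¹ = i₀ * i₀ := by
        apply Subtype.ext
        rw [h', hi2]
      calc y = (y * i₀⁻¹) * i₀ := by group
        _ = i₀ * i₀ * i₀ := by rw [this]

end Cfsg.Agent.Lib.Helper2.R59SLI
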