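import Mathlib
import Cfsg.Agent.Lib.Helper44.BCStmt
import Cfsg.Agent.S2904

/-!
# S2362, piece ZSIG: a primitive prime divisor of `q ^ (2m) - 1`
-/

set_option autoImplicit false

namespace Cfsg.Agent.Lib.Helper2.BCZSIG

universe u

theorem cast_pow_eq_one_iff (r q k : ℕ) (hq : 0 < q) :
    ((q : ℕ) : ZMod r) ^ k = 1 ↔ r ∣ q ^ k - 1 := by
  have h1 : 1 ≤ q ^ k := Nat.one_le_pow _ _ hq
  rw [← ZMod.natCast_eq_zero_iff, Nat.cast_sub h1, Nat.cast_pow, Nat.cast_one, sub_eq_zero]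

theorem main : Cfsg.Agent.Lib.Helper44.BCStmt.Zsig.{u} := by
  intro F _ _ p _ _ hp2 m hm
  have hp : p.Prime := Fact.out
  obtain ⟨n, -, hq⟩ := FiniteField.card F p
  obtain ⟨q, hqdef⟩ : ∃ q : ℕ, q = Fintype.card F := ⟨_, rfl⟩
  rw [← hqdef] at hq ⊢
  have hpq : p ∣ q := by
    rw [hq]; exact dvd_pow_self p n.pos.ne'
  have hpodd : Odd p := hp.odd_of_ne_two hp2
  have hqodd : Odd q := by rw [hq]; exact hpodd.pow
  have hq1 : 1 < q := by rw [hqdef]; exact Fintype.one_lt_card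
  have hq0 : 0 < q := by omega
  have hq2 : q ≠ 2 := by
    rintro rfl
    exact absurd hqodd (by decide)
  obtain ⟨r, hr, hrd, hrmin⟩ := Cfsg.Agent.S2904.result q (2 * m) hq1 (by omega)
    (fun h => hq2 h.1) (fun h => by omega)
  refine ⟨r, hr, ?_, ?_, ?_, ?_⟩
  · -- `r ≠ 2`
    rintro rfl
    apply hrmin 1 (by omega) (by omega)
    rw [pow_one]
    obtain ⟨t, ht⟩ := hqodd
    exact ⟨t, by omega⟩
  · -- `r ≠ p`
    rintro rfl
    have h1 : r ∣ q ^ (2 * m) := dvd_pow hpq (by omega)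
    have h2 : 1 ≤ q ^ (2 * m) := Nat.one_le_pow _ _ hq0
    have h3 : r ∣ 1 := by
      have := (Nat.dvd_sub h1 hrd)
      rwa [Nat.sub_sub_self h2] at this
    exact hr.one_lt.ne' (Nat.dvd_one.1 h3)
  · -- `r ∣ q ^ m + 1`
    have h1 : q ^ (2 * m) - 1 = (q ^ m - 1) * (q ^ m + 1) := by
      have h2 : 1 ≤ q ^ m := Nat.one_le_pow _ _ hq0
      obtain ⟨t, ht⟩ : ∃ t, q ^ m = t + 1 := ⟨q ^ m - 1, by omega⟩
      rw [two_mul, pow_add, ht]
      simp only [Nat.add_sub_cancel]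
      have : (t + 1) * (t + 1) = t * (t + 1 + 1) + 1 := by ring
      rw [this, Nat.add_sub_cancel]
    rw [h1] at hrd
    rcases (Nat.Prime.dvd_mul hr).1 hrd with h | h
    · exact absurd h (hrmin m (by omega) (by omega))
    · exact h
  · -- the order
    rw [orderOf_eq_iff (by omega)]
    refine ⟨(cast_pow_eq_one_iff r q (2 * m) hq0).2 hrd, ?_⟩
    intro k hk hk0 h
    exact hrmin k hk0 hk ((cast_pow_eq_one_iff r q k hq0).1 h)

end Cfsg.Agent.Lib.Helper2.BCZSIG
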