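import Mathlib
import Cfsg.Agent.Lib.Helper64.C2MStmt
import Cfsg.Agent.Lib.Helper44.NegPairs

set_option autoImplicit false

/-! S5990C (helper64 sub-call) piece SINGPAIRM (helper2): a nonzero nondegenerate plus-type
subspace of the minus space contains a hyperbolic pair.  Minus-form port of
`Helper53.C2SINGPAIR`. -/

namespace Cfsg.Agent.Lib.Helper2.C2MSINGPAIRM

universe u

open Cfsg.Agent.Lib.Helper64.C2MStmt
open Cfsg.Agent.Lib.Helper45.OMiStmt (M NDegM StabM)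
open Cfsg.Agent.Lib.Helper41.TMTwoStmt (PlusM TSubM)
open Cfsg.Agent.Lib.Helper44.NegPairs (minusQ coe_minusQ)

theorem q_add (d : ℕ) (F : Type u) [Field F] (a₀ b₀ : F) (u v : M d → F) :
    Cfsg.quadFormMinus (d - 1) F a₀ b₀ (u + v) =
      Cfsg.quadFormMinus (d - 1) F a₀ b₀ u + Cfsg.quadFormMinus (d - 1) F a₀ b₀ v +
      QuadraticMap.polar (Cfsg.quadFormMinus (d - 1) F a₀ b₀) u v := by
  unfold QuadraticMap.polar; ring

theorem q_smul (d : ℕ) (F : Type u) [Field F] (a₀ b₀ : F) (c : F) (u : M d → F) :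
    Cfsg.quadFormMinus (d - 1) F a₀ b₀ (c • u) = c * c * Cfsg.quadFormMinus (d - 1) F a₀ b₀ u := by
  have h := QuadraticMap.map_smul (minusQ (d - 1) F a₀ b₀) c u
  rw [coe_minusQ] at h
  simpa using h

theorem polar_smul_r (d : ℕ) (F : Type u) [Field F] (a₀ b₀ : F) (c : F) (u v : M d → F) :
    QuadraticMap.polar (Cfsg.quadFormMinus (d - 1) F a₀ b₀) u (c • v) =
      c * QuadraticMap.polar (Cfsg.quadFormMinus (d - 1) F a₀ b₀) u v := by
  have h := QuadraticMap.polar_smul_right (minusQ (d - 1) F a₀ b₀) c u v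
  rw [coe_minusQ] at h
  simpa using h

theorem polar_add_r (d : ℕ) (F : Type u) [Field F] (a₀ b₀ : F) (u v w : M d → F) :
    QuadraticMap.polar (Cfsg.quadFormMinus (d - 1) F a₀ b₀) u (v + w) =
      QuadraticMap.polar (Cfsg.quadFormMinus (d - 1) F a₀ b₀) u v +
        QuadraticMap.polar (Cfsg.quadFormMinus (d - 1) F a₀ b₀) u w := by
  have h := QuadraticMap.polar_add_right (minusQ (d - 1) F a₀ b₀) u v w
  rw [coe_minusQ] at h
  exact h

theorem polar_self_r (d : ℕ) (F : Type u) [Field F] (a₀ b₀ : F) (u : M d → F) :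
    QuadraticMap.polar (Cfsg.quadFormMinus (d - 1) F a₀ b₀) u u =
      2 * Cfsg.quadFormMinus (d - 1) F a₀ b₀ u := by
  have h := QuadraticMap.polar_self (minusQ (d - 1) F a₀ b₀) u
  rw [coe_minusQ] at h
  simpa using h

theorem main : SingPairM.{u} := by
  intro F _ _ a₀ b₀ d A hND hPlus hA
  obtain ⟨U, hUA, hTS, hfr⟩ := hPlus
  have hU : U ≠ ⊥ := by
    rintro rfl
    rw [finrank_bot, mul_zero] at hfr
    exact hA (Submodule.finrank_eq_zero.mp hfr.symm)
  obtain ⟨e, heU, he0⟩ := Submodule.exists_mem_ne_zero_of_ne_bot hU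
  have heA : e ∈ A := hUA heU
  have hQe : Cfsg.quadFormMinus (d - 1) F a₀ b₀ e = 0 := hTS e heU
  obtain ⟨f₀, hf₀A, hne⟩ := (hND e heA he0).2
  have hfe : QuadraticMap.polar (Cfsg.quadFormMinus (d - 1) F a₀ b₀) f₀ e =
      QuadraticMap.polar (Cfsg.quadFormMinus (d - 1) F a₀ b₀) e f₀ :=
    QuadraticMap.polar_comm _ _ _
  refine ⟨e, heA, f₀ + (-(Cfsg.quadFormMinus (d - 1) F a₀ b₀ f₀ /
    QuadraticMap.polar (Cfsg.quadFormMinus (d - 1) F a₀ b₀) e f₀)) • e,
    A.add_mem hf₀A (A.smul_mem _ heA), hQe, ?_, ?_⟩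
  · rw [q_add, q_smul, polar_smul_r, hQe, hfe]
    field_simp
    ring
  · rw [polar_add_r, polar_smul_r, polar_self_r, hQe]
    simpa using hne

end Cfsg.Agent.Lib.Helper2.C2MSINGPAIRM
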