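import Mathlib
import Cfsg.Agent.Lib.Helper57.FTStmt

set_option autoImplicit false

/-! S3999 piece NILSYL. -/

namespace Cfsg.Agent.Lib.Helper2.FTNILSYL

open Cfsg.Agent.Lib.Helper57.FTStmt

universe u

theorem main : NilSyl.{u} := by
  intro X _ _ K C hKn hKnil hcompl hcop p _ hp
  haveI := hKn
  haveI := hKnil
  obtain ⟨Q⟩ : Nonempty (Sylow p K) := inferInstance
  have hQn : (Q : Subgroup K).Normal := by
    have h3 := ((Group.isNilpotent_of_finite_tfae (G := K)).out 0 3).1 hKnil
    exact h3 p inferInstance Q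
  haveI := hQn
  haveI : (Q : Subgroup K).Characteristic := Sylow.characteristic_of_normal Q hQn
  have hP₀n : ((Q : Subgroup K).map K.subtype).Normal :=
    ConjAct.normal_of_characteristic_of_normal
  have hcardQ : Nat.card ((Q : Subgroup K).map K.subtype) = p ^ (Nat.card X).factorization p := by
    rw [Subgroup.card_map_of_injective K.subtype_injective, Sylow.card_eq_multiplicity]
    congr 1
    have hX : Nat.card K * Nat.card C = Nat.card X := hcompl.card_mul_card
    rw [← hX, Nat.factorization_mul Nat.card_pos.ne' Nat.card_pos.ne']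
    have hpC : ¬ p ∣ Nat.card C := by
      intro h
      have h1 := Nat.dvd_gcd hp h
      rw [Nat.Coprime] at hcop
      rw [hcop] at h1
      exact (Fact.out : p.Prime).one_lt.ne' (Nat.dvd_one.1 h1)
    simp [Nat.factorization_eq_zero_of_not_dvd hpC]
  refine ⟨Sylow.ofCard _ hcardQ, ?_⟩
  rw [Sylow.coe_ofCard]
  exact hP₀n

end Cfsg.Agent.Lib.Helper2.FTNILSYL
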