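import Mathlib
import Cfsg.Agent.Lib.Helper91.SubCount
import Cfsg.Agent.S4003

set_option autoImplicit false

namespace Cfsg.Agent.Lib.Helper2.Kul

open Subgroup

/-- The dual `Hom(P, Z_p)`. -/
abbrev Dl (p : ℕ) (P : Type*) [Group P] := P →* Multiplicative (ZMod p)

theorem card_A (p : ℕ) [Fact p.Prime] : Nat.card (Multiplicative (ZMod p)) = p := by
  rw [Nat.card_eq_fintype_card, Fintype.card_multiplicative, ZMod.card]

theorem pow_p_A (p : ℕ) [Fact p.Prime] (y : Multiplicative (ZMod p)) : y ^ p = 1 := by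
  have h := pow_card_eq_one' (G := Multiplicative (ZMod p)) (x := y)
  rwa [card_A] at h

theorem pow_p_Dl (p : ℕ) [Fact p.Prime] {P : Type*} [Group P] (f : Dl p P) : f ^ p = 1 := by
  ext x
  simp [pow_p_A]

instance (p : ℕ) [Fact p.Prime] {P : Type*} [Group P] [Finite P] : Finite (Dl p P) :=
  Finite.of_injective (fun f : Dl p P => (f : P → Multiplicative (ZMod p))) DFunLike.coe_injective

theorem isPGroup_Dl (p : ℕ) [Fact p.Prime] {P : Type*} [Group P] : IsPGroup p (Dl p P) :=
  fun f => ⟨1, by rw [pow_one]; exact pow_p_Dl p f⟩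

theorem ker_index (p : ℕ) [hp : Fact p.Prime] {P : Type*} [Group P] (f : Dl p P) :
    f.ker.index = 1 ∨ f.ker.index = p := by
  rw [Subgroup.index_ker]
  have h := Subgroup.card_subgroup_dvd_card f.range
  rw [card_A] at h
  exact (Nat.dvd_prime hp.out).mp h

theorem ker_eq_top_iff (p : ℕ) {P : Type*} [Group P] (f : Dl p P) : f.ker = ⊤ ↔ f = 1 := by
  constructor
  · intro h
    ext x
    have : x ∈ f.ker := by rw [h]; trivial
    simpa using (MonoidHom.mem_ker.mp this)
  · rintro rfl
    ext x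
    simp

/-- Maximality of index-`p` subgroups. -/
theorem eq_top_of_index_prime {p : ℕ} [hp : Fact p.Prime] {P : Type*} [Group P] {M K : Subgroup P}
    (hM : M.index = p) (hMK : M ≤ K) {x : P} (hx : x ∈ K) (hxM : x ∉ M) : K = ⊤ := by
  have h1 : K.index ∣ M.index := Subgroup.index_dvd_of_le hMK
  rw [hM] at h1
  rcases (Nat.dvd_prime hp.out).mp h1 with h | h
  · exact Subgroup.index_eq_one.mp h
  · exfalso
    have h2 := Subgroup.relIndex_mul_index hMK
    rw [hM, h] at h2
    have h3 : M.relIndex K = 1 := by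
      have hp0 : 0 < p := hp.out.pos
      exact Nat.eq_of_mul_eq_mul_right hp0 (by rw [h2, one_mul])
    exact hxM (Subgroup.relIndex_eq_one.mp h3 hx)

theorem eq_of_index_prime {p : ℕ} [hp : Fact p.Prime] {P : Type*} [Group P] {M K : Subgroup P}
    (hM : M.index = p) (hMK : M ≤ K) (hK : K ≠ ⊤) : K = M := by
  refine le_antisymm ?_ hMK
  intro x hx
  by_contra hxM
  exact hK (eq_top_of_index_prime hM hMK hx hxM)

theorem normal_of_index_p {p : ℕ} [hp : Fact p.Prime] {P : Type*} [Group P] [Finite P]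
    (hP : IsPGroup p P) {M : Subgroup P} (hM : M.index = p) : M.Normal := by
  apply Subgroup.normal_of_index_eq_minFac_card
  obtain ⟨n, hn⟩ := IsPGroup.iff_card.mp hP
  have hn0 : n ≠ 0 := by
    rintro rfl
    have h1 : M.index ∣ Nat.card P := Subgroup.index_dvd_card M
    rw [hn, hM, pow_zero] at h1
    exact hp.out.one_lt.ne' (Nat.dvd_one.mp h1)
  rw [hM, hn, Nat.Prime.pow_minFac hp.out hn0]

theorem exists_hom_of_index {p : ℕ} [hp : Fact p.Prime] {P : Type*} [Group P] [Finite P]
    (hP : IsPGroup p P) {M : Subgroup P} (hM : M.index = p) : ∃ f : Dl p P, f.ker = M := by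
  haveI : M.Normal := normal_of_index_p hP hM
  have h1 : Nat.card (P ⧸ M) = p := by rw [← Subgroup.index_eq_card, hM]
  let e : P ⧸ M ≃* Multiplicative (ZMod p) := mulEquivOfPrimeCardEq h1 (card_A p)
  refine ⟨e.toMonoidHom.comp (QuotientGroup.mk' M), ?_⟩
  ext x
  simp

/-- The homomorphisms with a given kernel of index `p` are the nontrivial powers of one of them. -/
theorem fiber_eq {p : ℕ} [hp : Fact p.Prime] {P : Type*} [Group P]
    {M : Subgroup P} (hM : M.index = p) (f₀ : Dl p P) (hf₀ : f₀.ker = M) :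
    {f : Dl p P | f.ker = M} = (Subgroup.zpowers f₀ : Set (Dl p P)) \ {1} := by
  have hMtop : M ≠ ⊤ := by
    intro h
    rw [h, Subgroup.index_top] at hM
    exact hp.out.one_lt.ne hM
  ext f
  simp only [Set.mem_ofPred_eq, Set.mem_sdiff, SetLike.mem_coe, Set.mem_singleton_iff]
  constructor
  · intro hf
    have hf1 : f ≠ 1 := by
      intro h
      rw [← ker_eq_top_iff] at h
      rw [h] at hf
      exact hMtop hf.symm
    refine ⟨?_, hf1⟩
    obtain ⟨x, hx⟩ : ∃ x : P, x ∉ M := by
      by_contra h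
      exact hMtop (eq_top_iff.mpr fun x _ => by_contra fun hx => h ⟨x, hx⟩)
    have hf₀x : f₀ x ≠ 1 := by
      intro h
      exact hx (hf₀ ▸ MonoidHom.mem_ker.mpr h)
    have hz : Subgroup.zpowers (f₀ x) = ⊤ := zpowers_eq_top_of_prime_card (card_A p) hf₀x
    have hmem : f x ∈ Subgroup.zpowers (f₀ x) := by rw [hz]; trivial
    obtain ⟨k, hk⟩ := Subgroup.mem_zpowers_iff.mp hmem
    refine Subgroup.mem_zpowers_iff.mpr ⟨k, ?_⟩
    -- the equalizer of `f₀ ^ k` and `f` contains `M` and `x`
    have hle : M ≤ (f₀ ^ k).eqLocus f := by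
      intro y hy
      have h1 : f₀ y = 1 := MonoidHom.mem_ker.mp (hf₀ ▸ hy)
      have h2 : f y = 1 := MonoidHom.mem_ker.mp (hf ▸ hy)
      show (f₀ ^ k) y = f y
      rw [h2]
      simp [h1]
    have hxl : x ∈ (f₀ ^ k).eqLocus f := by
      show (f₀ ^ k) x = f x
      rw [← hk]
      simp
    have htop := eq_top_of_index_prime hM hle hxl hx
    ext y
    have : y ∈ (f₀ ^ k).eqLocus f := by rw [htop]; trivial
    exact this
  · rintro ⟨hfz, hf1⟩
    obtain ⟨k, rfl⟩ := Subgroup.mem_zpowers_iff.mp hfz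
    have hle : M ≤ (f₀ ^ k).ker := by
      intro y hy
      have h1 : f₀ y = 1 := MonoidHom.mem_ker.mp (hf₀ ▸ hy)
      rw [MonoidHom.mem_ker]
      simp [h1]
    exact eq_of_index_prime hM hle (fun h => hf1 ((ker_eq_top_iff p _).mp h))

theorem fiber_card {p : ℕ} [hp : Fact p.Prime] {P : Type*} [Group P] [Finite P]
    (hP : IsPGroup p P) {M : Subgroup P} (hM : M.index = p) :
    Nat.card {f : Dl p P // f.ker = M} = p - 1 := by
  obtain ⟨f₀, hf₀⟩ := exists_hom_of_index hP hM
  have hMtop : M ≠ ⊤ := by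
    intro h
    rw [h, Subgroup.index_top] at hM
    exact hp.out.one_lt.ne hM
  have hf1 : f₀ ≠ 1 := by
    intro h
    rw [← ker_eq_top_iff] at h
    rw [h] at hf₀
    exact hMtop hf₀.symm
  have hord : orderOf f₀ = p := orderOf_eq_prime (pow_p_Dl p f₀) hf1
  have h1 : Nat.card {f : Dl p P // f.ker = M} = ({f : Dl p P | f.ker = M}).ncard := by
    rw [← Nat.card_coe_set_eq]; rfl
  rw [h1, fiber_eq hM f₀ hf₀, Set.ncard_sdiff_singleton_of_mem (Subgroup.one_mem _)]
  have h2 : (Subgroup.zpowers f₀ : Set (Dl p P)).ncard = p := by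
    rw [← Nat.card_coe_set_eq]
    show Nat.card (Subgroup.zpowers f₀) = p
    rw [Nat.card_zpowers, hord]
  rw [h2]

/-- The annihilator of `H` in the dual. -/
def DH (p : ℕ) {P : Type*} [Group P] (H : Subgroup P) : Subgroup (Dl p P) where
  carrier := {f | H ≤ f.ker}
  one_mem' := by
    intro x _
    simp [MonoidHom.mem_ker]
  mul_mem' := by
    intro f g hf hg x hx
    have h1 := MonoidHom.mem_ker.mp (hf hx)
    have h2 := MonoidHom.mem_ker.mp (hg hx)
    rw [MonoidHom.mem_ker]
    simp [h1, h2]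
  inv_mem' := by
    intro f hf x hx
    have h1 := MonoidHom.mem_ker.mp (hf hx)
    rw [MonoidHom.mem_ker]
    simp [h1]

theorem mem_DH {p : ℕ} {P : Type*} [Group P] {H : Subgroup P} {f : Dl p P} :
    f ∈ DH p H ↔ H ≤ f.ker := Iff.rfl

/-- Number of index-`p` subgroups containing `H`, times `p - 1`, is `|DH H| - 1`. -/
theorem mu_one {p : ℕ} [hp : Fact p.Prime] {P : Type*} [Group P] [Finite P]
    (hP : IsPGroup p P) (H : Subgroup P) :
    Nat.card {M : Subgroup P // M.index = p ∧ H ≤ M} * (p - 1) = Nat.card (DH p H) - 1 := by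
  classical
  haveI := Fintype.ofFinite (Dl p P)
  haveI := Fintype.ofFinite (Subgroup P)
  set s : Finset (Dl p P) := Finset.univ.filter (fun f => f ∈ DH p H ∧ f ≠ 1) with hs
  set t : Finset (Subgroup P) := Finset.univ.filter (fun M => M.index = p ∧ H ≤ M) with ht
  have hmaps : ∀ f ∈ s, f.ker ∈ t := by
    intro f hf
    simp only [hs, Finset.mem_filter, Finset.mem_univ, true_and] at hf
    simp only [ht, Finset.mem_filter, Finset.mem_univ, true_and]
    refine ⟨?_, hf.1⟩
    rcases ker_index p f with h | h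
    · exact absurd ((ker_eq_top_iff p f).mp (Subgroup.index_eq_one.mp h)) hf.2
    · exact h
  have h1 := Finset.card_eq_sum_card_fiberwise (f := fun f : Dl p P => f.ker) hmaps
  have h2 : ∀ M ∈ t, (s.filter (fun f => f.ker = M)).card = p - 1 := by
    intro M hM
    simp only [ht, Finset.mem_filter, Finset.mem_univ, true_and] at hM
    rw [← fiber_card hP hM.1, Nat.card_eq_fintype_card, Fintype.card_subtype]
    congr 1
    ext f
    simp only [hs, Finset.mem_filter, Finset.mem_univ, true_and]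
    constructor
    · rintro ⟨-, h⟩; exact h
    · intro h
      refine ⟨⟨?_, ?_⟩, h⟩
      · rw [mem_DH, h]; exact hM.2
      · intro h1
        rw [← ker_eq_top_iff] at h1
        rw [h1] at h
        rw [← h, Subgroup.index_top] at hM
        exact hp.out.one_lt.ne hM.1
  rw [Finset.sum_congr rfl h2, Finset.sum_const, smul_eq_mul] at h1
  have h3 : Nat.card {M : Subgroup P // M.index = p ∧ H ≤ M} = t.card := by
    rw [Nat.card_eq_fintype_card, Fintype.card_subtype]
  have h4 : Nat.card (DH p H) = s.card + 1 := by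
    have e1 : Nat.card (DH p H) = (Finset.univ.filter (fun f : Dl p P => f ∈ DH p H)).card := by
      rw [Nat.card_eq_fintype_card, Fintype.card_subtype]
    have e2 : s = (Finset.univ.filter (fun f => f ∈ DH p H)).erase 1 := by
      ext f
      simp only [hs, Finset.mem_filter, Finset.mem_univ, true_and, Finset.mem_erase]
      tauto
    have hpos : 0 < (Finset.univ.filter (fun f : Dl p P => f ∈ DH p H)).card :=
      Finset.card_pos.mpr ⟨1, by simp [Subgroup.one_mem]⟩
    rw [e1, e2, Finset.card_erase_of_mem (by simp [Subgroup.one_mem])]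
    omega
  rw [h3, h4, ← h1]
  simp

/-! ### Subgroups of a subgroup -/

theorem card_le_equiv {G : Type*} [Group G] (K : Subgroup G) (n : ℕ) :
    Nat.card {E : Subgroup K // Nat.card E = n} =
      Nat.card {E : Subgroup G // Nat.card E = n ∧ E ≤ K} := by
  refine Nat.card_congr
    { toFun := fun E => ⟨E.1.map K.subtype, ?_, ?_⟩
      invFun := fun E => ⟨E.1.subgroupOf K, ?_⟩
      left_inv := ?_
      right_inv := ?_ }
  · rw [Subgroup.card_map_of_injective (Subgroup.subtype_injective K)]; exact E.2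
  · exact Subgroup.map_subtype_le E.1
  · rw [Cfsg.Agent.Lib.Helper91.Hall.card_subgroupOf_of_le _ _ E.2.2]; exact E.2.1
  · intro E
    apply Subtype.ext
    exact Subgroup.comap_map_eq_self_of_injective (Subgroup.subtype_injective K) E.1
  · intro E
    apply Subtype.ext
    exact Subgroup.map_subgroupOf_eq_of_le E.2.2

/-- Relative Frobenius count. -/
theorem card_le_modEq_one {G : Type*} [Group G] [Finite G] (p β : ℕ) (hp : p.Prime)
    (K : Subgroup G) (hdiv : p ^ β ∣ Nat.card K) :
    Nat.card {E : Subgroup G // Nat.card E = p ^ β ∧ E ≤ K} ≡ 1 [MOD p] := by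
  rw [← card_le_equiv]
  exact Cfsg.Agent.Lib.Helper91.SubCount.card_subgroups_modEq_one K p β hp hdiv

/-! ### The common kernel of a subgroup of the dual -/

def KE {p : ℕ} {P : Type*} [Group P] (E : Subgroup (Dl p P)) : Subgroup P where
  carrier := {x | ∀ f ∈ E, f x = 1}
  one_mem' := by intro f _; simp
  mul_mem' := by
    intro x y hx hy f hf
    rw [map_mul, hx f hf, hy f hf, one_mul]
  inv_mem' := by
    intro x hx f hf
    rw [map_inv, hx f hf, inv_one]

theorem le_DH_iff {p : ℕ} {P : Type*} [Group P] (E : Subgroup (Dl p P)) (H : Subgroup P) :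
    E ≤ DH p H ↔ H ≤ KE E := by
  constructor
  · intro h x hx f hf
    exact MonoidHom.mem_ker.mp (h hf hx)
  · intro h f hf x hx
    exact MonoidHom.mem_ker.mpr (h hx f hf)

theorem KE_index_le {p : ℕ} [hp : Fact p.Prime] {P : Type*} [Group P] [Finite P]
    (E : Subgroup (Dl p P)) (hE : Nat.card E = p ^ 2) : (KE E).index ≤ p ^ 2 := by
  have hp1 : 1 < p := hp.out.one_lt
  -- first generator
  have hEbot : E ≠ ⊥ := by
    rintro rfl
    rw [Subgroup.card_bot] at hE
    have : 1 < p ^ 2 := Nat.one_lt_pow (by norm_num) hp1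
    omega
  obtain ⟨⟨f₁, hf₁E⟩, hf₁'⟩ := (Subgroup.ne_bot_iff_exists_ne_one (H := E)).mp hEbot
  have hf₁ : f₁ ≠ 1 := fun h => hf₁' (Subtype.ext h)
  have hord : orderOf f₁ = p := orderOf_eq_prime (pow_p_Dl p f₁) hf₁
  have hz1 : Nat.card (Subgroup.zpowers f₁) = p := by rw [Nat.card_zpowers, hord]
  have hz1E : Subgroup.zpowers f₁ ≤ E := (Subgroup.zpowers_le).mpr hf₁E
  -- second generator
  obtain ⟨f₂, hf₂E, hf₂⟩ : ∃ f₂ ∈ E, f₂ ∉ Subgroup.zpowers f₁ := by
    by_contra h
    have hle : E ≤ Subgroup.zpowers f₁ := fun f hf => by_contra fun hn => h ⟨f, hf, hn⟩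
    have := Subgroup.card_dvd_of_le hle
    rw [hE, hz1] at this
    have h2 : p ^ 2 ≤ p := Nat.le_of_dvd hp.out.pos this
    nlinarith
  set E' : Subgroup (Dl p P) := Subgroup.zpowers f₁ ⊔ Subgroup.zpowers f₂ with hE'
  have hE'E : E' ≤ E := sup_le hz1E ((Subgroup.zpowers_le).mpr hf₂E)
  have hE'eq : E' = E := by
    have hd : Nat.card E' ∣ p ^ 2 := hE ▸ Subgroup.card_dvd_of_le hE'E
    obtain ⟨k, hk, hkc⟩ := (Nat.dvd_prime_pow hp.out).mp hd
    have hpd : p ∣ Nat.card E' := by
      have := Subgroup.card_dvd_of_le (le_sup_left : Subgroup.zpowers f₁ ≤ E')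
      rwa [hz1] at this
    have hk2 : k = 2 := by
      have hk0 : k ≠ 0 := by
        rintro rfl
        rw [hkc, pow_zero] at hpd
        exact hp.out.one_lt.ne' (Nat.dvd_one.mp hpd)
      have hk1 : k ≠ 1 := by
        rintro rfl
        rw [pow_one] at hkc
        have heq : Subgroup.zpowers f₁ = E' :=
          Subgroup.eq_of_le_of_card_ge le_sup_left (by rw [hkc, hz1])
        apply hf₂
        rw [heq]
        exact (le_sup_right : Subgroup.zpowers f₂ ≤ E') (Subgroup.mem_zpowers f₂)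
      omega
    exact Subgroup.eq_of_le_of_card_ge hE'E (by rw [hkc, hk2, hE])
  have hKE : KE E = f₁.ker ⊓ f₂.ker := by
    apply le_antisymm
    · intro x hx
      exact ⟨MonoidHom.mem_ker.mpr (hx f₁ hf₁E), MonoidHom.mem_ker.mpr (hx f₂ hf₂E)⟩
    · intro x hx f hf
      have h1 : f₁ ∈ DH p (Subgroup.zpowers x) :=
        mem_DH.mpr ((Subgroup.zpowers_le).mpr hx.1)
      have h2 : f₂ ∈ DH p (Subgroup.zpowers x) :=
        mem_DH.mpr ((Subgroup.zpowers_le).mpr hx.2)
      have h3 : E' ≤ DH p (Subgroup.zpowers x) :=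
        sup_le ((Subgroup.zpowers_le).mpr h1) ((Subgroup.zpowers_le).mpr h2)
      rw [hE'eq] at h3
      exact MonoidHom.mem_ker.mp (mem_DH.mp (h3 hf) (Subgroup.mem_zpowers x))
  rw [hKE]
  refine le_trans Subgroup.index_inf_le ?_
  have hk1 : f₁.ker.index ≤ p := by
    rcases ker_index p f₁ with h | h <;> omega
  have hk2 : f₂.ker.index ≤ p := by
    rcases ker_index p f₂ with h | h <;> omega
  calc f₁.ker.index * f₂.ker.index ≤ p * p := Nat.mul_le_mul hk1 hk2
    _ = p ^ 2 := by ring

theorem pow_dvd_card_KE {p : ℕ} [hp : Fact p.Prime] {P : Type*} [Group P] [Finite P]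
    (hP : IsPGroup p P) {m a : ℕ} (hm : Nat.card P = p ^ m) (ha : a + 2 ≤ m)
    (E : Subgroup (Dl p P)) (hE : Nat.card E = p ^ 2) : p ^ a ∣ Nat.card (KE E) := by
  obtain ⟨j, hj⟩ := IsPGroup.iff_card.mp (hP.to_subgroup (KE E))
  have h1 := Subgroup.card_mul_index (KE E)
  have h2 := KE_index_le E hE
  rw [hj, hm] at h1
  rw [hj]
  apply pow_dvd_pow
  by_contra hlt
  push Not at hlt
  -- j < a, so index = p^(m-j) ≥ p^3
  have hjm : j ≤ m := by omega
  have h3 : (KE E).index = p ^ (m - j) := by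
    have : p ^ j * (KE E).index = p ^ j * p ^ (m - j) := by
      rw [h1, ← pow_add]; congr 1; omega
    exact Nat.eq_of_mul_eq_mul_left (pow_pos hp.out.pos j) this
  rw [h3] at h2
  have h4 : m - j ≤ 2 := (Nat.pow_le_pow_iff_right hp.out.one_lt).mp h2
  omega

/-! ### Arithmetic -/

theorem arith1 {p : ℕ} (hp : p.Prime) (N c : ℕ) (h : N * (p - 1) = p ^ c - 1) (hc : 2 ≤ c) :
    N ≡ 1 + p [MOD p ^ 2] := by
  have hp1 : 1 ≤ p := hp.one_lt.le
  have hpc : 1 ≤ p ^ c := Nat.one_le_pow _ _ hp.pos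
  have e1 : N * (p - 1) + 1 = p ^ c := by omega
  have e2 : (1 + p) * (p - 1) + 1 = p ^ 2 := by
    obtain ⟨q, rfl⟩ : ∃ q, p = q + 1 := ⟨p - 1, by omega⟩
    simp only [Nat.add_sub_cancel]
    ring
  have h1 : N * (p - 1) + 1 ≡ (1 + p) * (p - 1) + 1 [MOD p ^ 2] := by
    rw [e1, e2]
    have : p ^ 2 ∣ p ^ c := pow_dvd_pow p hc
    exact ((Nat.modEq_zero_iff_dvd).mpr this).trans (Nat.modEq_zero_iff_dvd.mpr dvd_rfl).symm
  have h2 : N * (p - 1) ≡ (1 + p) * (p - 1) [MOD p ^ 2] := Nat.ModEq.add_right_cancel' 1 h1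
  refine Nat.ModEq.cancel_right_of_coprime ?_ h2
  have : Nat.Coprime p (p - 1) := (Nat.coprime_self_sub_right hp1).mpr (Nat.coprime_one_right p)
  exact Nat.Coprime.pow_left 2 this

/-! ### Index-`p` subgroups -/

theorem index_of_card {p : ℕ} [hp : Fact p.Prime] {P : Type*} [Group P] [Finite P] {m : ℕ}
    (hm : Nat.card P = p ^ m) (hm1 : 1 ≤ m) {M : Subgroup P} (hM : Nat.card M = p ^ (m - 1)) :
    M.index = p := by
  have h1 := Subgroup.card_mul_index M
  rw [hM, hm] at h1
  have : p ^ (m - 1) * M.index = p ^ (m - 1) * p := by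
    rw [h1, ← pow_succ]; congr 1; omega
  exact Nat.eq_of_mul_eq_mul_left (pow_pos hp.out.pos _) this

theorem card_of_index {p : ℕ} [hp : Fact p.Prime] {P : Type*} [Group P] [Finite P] {m : ℕ}
    (hm : Nat.card P = p ^ m) {M : Subgroup P} (hM : M.index = p) :
    1 ≤ m ∧ Nat.card M = p ^ (m - 1) := by
  have h1 := Subgroup.card_mul_index M
  rw [hM, hm] at h1
  have hm1 : 1 ≤ m := by
    by_contra h
    have : m = 0 := by omega
    subst this
    rw [pow_zero] at h1
    have : p ∣ 1 := ⟨Nat.card M, by rw [mul_comm]; exact h1.symm⟩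
    exact hp.out.one_lt.ne' (Nat.dvd_one.mp this)
  refine ⟨hm1, ?_⟩
  have : Nat.card M * p = p ^ (m - 1) * p := by
    rw [h1, ← pow_succ]; congr 1; omega
  exact Nat.eq_of_mul_eq_mul_right hp.out.pos this

theorem exists_max_ge {p : ℕ} [hp : Fact p.Prime] {P : Type*} [Group P] [Finite P] {m a : ℕ}
    (hm : Nat.card P = p ^ m) (ha : a + 1 ≤ m) (H : Subgroup P) (hH : Nat.card H = p ^ a) :
    ∃ M : Subgroup P, M.index = p ∧ H ≤ M := by
  have hdvd : p ^ (m - 1) ∣ Nat.card P := by rw [hm]; exact pow_dvd_pow p (by omega)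
  obtain ⟨M, hM, hHM⟩ := Sylow.exists_subgroup_card_pow_prime_le p hdvd H hH (by omega)
  exact ⟨M, index_of_card hm (by omega) hM, hHM⟩

theorem two_max {p : ℕ} [hp : Fact p.Prime] {P : Type*} [Group P] [Finite P]
    (hP : IsPGroup p P) (hnc : ¬ IsCyclic P) :
    ∃ M₁ M₂ : Subgroup P, M₁.index = p ∧ M₂.index = p ∧ M₁ ≠ M₂ := by
  obtain ⟨m, hm⟩ := IsPGroup.iff_card.mp hP
  have hm1 : 1 ≤ m := by
    by_contra h
    have : m = 0 := by omega
    subst this
    rw [pow_zero] at hm
    haveI : Subsingleton P := (Nat.card_eq_one_iff_unique.mp hm).1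
    exact hnc inferInstance
  obtain ⟨M₁, hM₁⟩ := exists_max_ge (a := 0) hm (by omega) ⊥ (by simp)
  have hM₁top : M₁ ≠ ⊤ := by
    intro h
    rw [h, Subgroup.index_top] at hM₁
    exact hp.out.one_lt.ne hM₁.1
  obtain ⟨x, hx⟩ : ∃ x : P, x ∉ M₁ := by
    by_contra h
    exact hM₁top (eq_top_iff.mpr fun x _ => by_contra fun hx => h ⟨x, hx⟩)
  obtain ⟨j, hj⟩ := IsPGroup.iff_card.mp (hP.to_subgroup (Subgroup.zpowers x))
  have hjm : j + 1 ≤ m := by
    by_contra h
    have h1 : Nat.card (Subgroup.zpowers x) ∣ Nat.card P := Subgroup.card_subgroup_dvd_card _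
    rw [hj, hm] at h1
    have h2 : j ≤ m := (Nat.pow_dvd_pow_iff_le_right hp.out.one_lt).mp h1
    have h3 : j = m := by omega
    have h4 : Subgroup.zpowers x = ⊤ := by
      apply Subgroup.eq_top_of_card_eq
      rw [hj, hm, h3]
    exact hnc (isCyclic_iff_exists_zpowers_eq_top.mpr ⟨x, h4⟩)
  obtain ⟨M₂, hM₂, hxM₂⟩ := exists_max_ge hm hjm (Subgroup.zpowers x) hj
  refine ⟨M₁, M₂, hM₁.1, hM₂, ?_⟩
  rintro rfl
  exact hx (hxM₂ (Subgroup.mem_zpowers x))

/-- Number of index-`p` subgroups over `H`, modulo `p²`. -/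
theorem mu_modEq {p : ℕ} [hp : Fact p.Prime] {P : Type*} [Group P] [Finite P]
    (hP : IsPGroup p P) {m a : ℕ} (hm : Nat.card P = p ^ m) (ha : a + 1 ≤ m)
    (H : Subgroup P) (hH : Nat.card H = p ^ a) :
    Nat.card {M : Subgroup P // M.index = p ∧ H ≤ M} ≡
      1 + p * (if p ^ 2 ∣ Nat.card (DH p H) then 1 else 0) [MOD p ^ 2] := by
  have hmu := mu_one hP H
  obtain ⟨c, hc⟩ := IsPGroup.iff_card.mp ((isPGroup_Dl p).to_subgroup (DH p H))
  rw [hc] at hmu ⊢
  have hp1 : 1 < p := hp.out.one_lt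
  have hN : 1 ≤ Nat.card {M : Subgroup P // M.index = p ∧ H ≤ M} := by
    obtain ⟨M, hM⟩ := exists_max_ge hm ha H hH
    haveI : Nonempty {M : Subgroup P // M.index = p ∧ H ≤ M} := ⟨⟨M, hM⟩⟩
    exact Nat.one_le_iff_ne_zero.mpr Nat.card_pos.ne'
  have hc1 : 1 ≤ c := by
    by_contra h
    have : c = 0 := by omega
    subst this
    rw [pow_zero] at hmu
    have h2 : 1 ≤ p - 1 := by omega
    have := Nat.mul_le_mul hN h2
    omega
  by_cases hc2 : 2 ≤ c
  · rw [if_pos (pow_dvd_pow p hc2), mul_one]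
    exact arith1 hp.out _ c hmu hc2
  · have hc' : c = 1 := by omega
    subst hc'
    have hnd : ¬ p ^ 2 ∣ p ^ 1 := by
      intro h
      have := (Nat.pow_dvd_pow_iff_le_right hp1).mp h
      omega
    rw [if_neg hnd, mul_zero, add_zero]
    rw [pow_one] at hmu
    have : Nat.card {M : Subgroup P // M.index = p ∧ H ≤ M} = 1 := by
      have h2 : 0 < p - 1 := by omega
      exact Nat.eq_of_mul_eq_mul_right h2 (by rw [hmu, one_mul])
    rw [this]

theorem sq_dvd_card_DH_bot {p : ℕ} [hp : Fact p.Prime] {P : Type*} [Group P] [Finite P]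
    (hP : IsPGroup p P) (hnc : ¬ IsCyclic P) : p ^ 2 ∣ Nat.card (DH p (⊥ : Subgroup P)) := by
  have hmu := mu_one hP (⊥ : Subgroup P)
  obtain ⟨c, hc⟩ := IsPGroup.iff_card.mp ((isPGroup_Dl p).to_subgroup (DH p (⊥ : Subgroup P)))
  rw [hc] at hmu ⊢
  apply pow_dvd_pow
  by_contra hlt
  have hp1 : 1 < p := hp.out.one_lt
  obtain ⟨M₁, M₂, h1, h2, hne⟩ := two_max hP hnc
  have hN : 2 ≤ Nat.card {M : Subgroup P // M.index = p ∧ (⊥ : Subgroup P) ≤ M} := by
    have hinj : Function.Injective (fun b : Bool =>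
        (if b then (⟨M₁, h1, bot_le⟩ : {M : Subgroup P // M.index = p ∧ (⊥ : Subgroup P) ≤ M})
          else ⟨M₂, h2, bot_le⟩)) := by
      intro b b' hbb
      cases b <;> cases b' <;> simp at hbb <;> first | rfl | exact absurd hbb hne | exact absurd hbb.symm hne
    have := Nat.card_le_card_of_injective _ hinj
    simpa using this
  have hpc : p ^ c ≤ p ^ 1 := Nat.pow_le_pow_right hp.out.pos (by omega)
  rw [pow_one] at hpc
  have h3 : 2 * (p - 1) ≤ Nat.card {M : Subgroup P // M.index = p ∧ (⊥ : Subgroup P) ≤ M} * (p - 1) :=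
    Nat.mul_le_mul_right _ hN
  omega

theorem max_card_modEq {p : ℕ} [hp : Fact p.Prime] {P : Type*} [Group P] [Finite P]
    (hP : IsPGroup p P) (hnc : ¬ IsCyclic P) :
    Nat.card {M : Subgroup P // M.index = p} ≡ 1 + p [MOD p ^ 2] := by
  obtain ⟨m, hm⟩ := IsPGroup.iff_card.mp hP
  obtain ⟨M₁, M₂, h1, h2, hne⟩ := two_max hP hnc
  have hm1 := (card_of_index hm h1).1
  have h := mu_modEq hP hm (a := 0) (by omega) ⊥ (by simp)
  rw [if_pos (sq_dvd_card_DH_bot hP hnc), mul_one] at h
  have e : Nat.card {M : Subgroup P // M.index = p ∧ (⊥ : Subgroup P) ≤ M} =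
      Nat.card {M : Subgroup P // M.index = p} :=
    Nat.card_congr (Equiv.subtypeEquivRight fun M => by simp)
  rwa [e] at h

/-- In a cyclic group there is exactly one subgroup of each admissible prime-power order. -/
theorem cyclic_count {p : ℕ} [hp : Fact p.Prime] {P : Type*} [Group P] [Finite P]
    (hc : IsCyclic P) (a : ℕ) (hdvd : p ^ a ∣ Nat.card P) :
    Nat.card {H : Subgroup P // Nat.card H = p ^ a} = 1 := by
  classical
  have h1 := Cfsg.Agent.Lib.Helper91.SubCount.card_subgroups_modEq_one P p a hp.out hdvd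
  haveI := Fintype.ofFinite P
  have hsub : Subsingleton {H : Subgroup P // Nat.card H = p ^ a} := by
    refine ⟨fun H K => ?_⟩
    have hn0 : 0 < p ^ a := pow_pos hp.out.pos a
    have hle := IsCyclic.card_pow_eq_one_le (α := P) hn0
    have key : ∀ L : Subgroup P, Nat.card L = p ^ a →
        (L : Set P) = {x : P | x ^ (p ^ a) = 1} := by
      intro L hL
      have hsub : (L : Set P).toFinset ⊆ Finset.univ.filter (fun x : P => x ^ (p ^ a) = 1) := by
        intro x hx
        simp only [Set.mem_toFinset, SetLike.mem_coe] at hx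
        simp only [Finset.mem_filter, Finset.mem_univ, true_and]
        have := pow_card_eq_one' (G := L) (x := ⟨x, hx⟩)
        rw [hL] at this
        have h' : (((⟨x, hx⟩ : L) ^ (p ^ a) : L) : P) = ((1 : L) : P) := congrArg Subtype.val this
        simpa using h'
      have hcard : (L : Set P).toFinset.card = p ^ a := by
        rw [Set.toFinset_card, ← Nat.card_eq_fintype_card]; exact hL
      have heq := Finset.eq_of_subset_of_card_le hsub (by rw [hcard]; exact hle)
      ext x
      have := congrArg (fun s => x ∈ s) heq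
      simpa using this
    apply Subtype.ext
    apply SetLike.coe_injective
    rw [key H.1 H.2, key K.1 K.2]
  have hle : Nat.card {H : Subgroup P // Nat.card H = p ^ a} ≤ 1 :=
    Finite.card_le_one_iff_subsingleton.mpr hsub
  have hpos : Nat.card {H : Subgroup P // Nat.card H = p ^ a} ≠ 0 := by
    intro h0
    rw [h0] at h1
    have := (Nat.modEq_iff_dvd' (Nat.zero_le 1)).mp h1
    simp at this
    exact hp.out.one_lt.ne' this
  omega

theorem card_filter_eq {α : Type*} [Fintype α] (q : α → Prop) [DecidablePred q] :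
    (Finset.univ.filter q).card = Nat.card {x // q x} := by
  rw [Nat.card_eq_fintype_card, Fintype.card_subtype]

/-- The number of cyclic subgroups of index `p` of a noncyclic `p`-group of order `≥ p³`,
`p` odd, is divisible by `p` (from Miller's count). -/
theorem cyc_max_dvd {p : ℕ} [hp : Fact p.Prime] (hp2 : p ≠ 2) {P : Type*} [Group P] [Finite P]
    (hP : IsPGroup p P) (hnc : ¬ IsCyclic P) {m : ℕ} (hm : Nat.card P = p ^ m) (hm3 : 3 ≤ m) :
    p ∣ Nat.card {M : Subgroup P // M.index = p ∧ IsCyclic M} := by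
  classical
  haveI := Fintype.ofFinite P
  haveI := Fintype.ofFinite (Subgroup P)
  have hmil := Cfsg.Agent.S4003.miller hp2 hP hnc (m - 1) (by omega)
  set s : Finset P := Finset.univ.filter (fun x => orderOf x = p ^ (m - 1)) with hs
  set t : Finset (Subgroup P) := Finset.univ.filter (fun M => M.index = p ∧ IsCyclic M) with ht
  have hmaps : ∀ x ∈ s, Subgroup.zpowers x ∈ t := by
    intro x hx
    simp only [hs, Finset.mem_filter, Finset.mem_univ, true_and] at hx
    simp only [ht, Finset.mem_filter, Finset.mem_univ, true_and]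
    refine ⟨index_of_card hm (by omega) ?_, inferInstance⟩
    rw [Nat.card_zpowers, hx]
  have h1 := Finset.card_eq_sum_card_fiberwise (f := fun x : P => Subgroup.zpowers x) hmaps
  have h2 : ∀ M ∈ t, (s.filter (fun x => Subgroup.zpowers x = M)).card =
      p ^ (m - 2) * (p - 1) := by
    intro M hM
    simp only [ht, Finset.mem_filter, Finset.mem_univ, true_and] at hM
    have hcM := (card_of_index hm hM.1).2
    have hg := Cfsg.Agent.S4003.card_gen M hM.2
    rw [hcM, Nat.totient_prime_pow hp.out (by omega)] at hg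
    have e : m - 1 - 1 = m - 2 := by omega
    rw [e] at hg
    rw [← hg, ← card_filter_eq]
    congr 1
    ext x
    simp only [hs, Finset.mem_filter, Finset.mem_univ, true_and]
    constructor
    · rintro ⟨-, h⟩; exact h
    · intro h
      refine ⟨?_, h⟩
      rw [← Nat.card_zpowers, h, hcM]
  rw [Finset.sum_congr rfl h2, Finset.sum_const, smul_eq_mul] at h1
  have h3 : Nat.card {x : P // orderOf x = p ^ (m - 1)} = s.card := (card_filter_eq _).symm
  have h4 : Nat.card {M : Subgroup P // M.index = p ∧ IsCyclic M} = t.card :=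
    (card_filter_eq _).symm
  rw [h3, h1] at hmil
  rw [h4]
  have e : p ^ (m - 1) = p ^ (m - 2) * p := by rw [← pow_succ]; congr 1; omega
  rw [e, ← mul_assoc, mul_comm t.card, mul_assoc] at hmil
  have h5 : p ∣ t.card * (p - 1) := Nat.dvd_of_mul_dvd_mul_left (pow_pos hp.out.pos _) hmil
  have hcop : Nat.Coprime p (p - 1) :=
    (Nat.coprime_self_sub_right hp.out.one_lt.le).mpr (Nat.coprime_one_right p)
  exact hcop.dvd_of_dvd_mul_right h5

universe u

/-- **Kulakoff's theorem**: in a noncyclic `p`-group of order `p^m`, `p` odd, the number of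
subgroups of order `p^a`, `1 ≤ a < m`, is `≡ 1 + p (mod p²)`. -/
theorem kulakoff {p : ℕ} [hp : Fact p.Prime] (hp2 : p ≠ 2) :
    ∀ (n : ℕ) (P : Type u) [Group P] [Finite P], Nat.card P = n → IsPGroup p P → ¬ IsCyclic P →
      ∀ a : ℕ, 1 ≤ a → p ^ (a + 1) ∣ Nat.card P →
        Nat.card {H : Subgroup P // Nat.card H = p ^ a} ≡ 1 + p [MOD p ^ 2] := by
  intro n
  induction n using Nat.strong_induction_on with
  | _ n ih =>
  intro P _ _ hn hP hnc a ha hdvd
  obtain ⟨m, hm⟩ := IsPGroup.iff_card.mp hP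
  have hp1 : 1 < p := hp.out.one_lt
  have ham : a + 1 ≤ m := by
    rw [hm] at hdvd
    exact (Nat.pow_dvd_pow_iff_le_right hp1).mp hdvd
  by_cases hcase : a + 1 = m
  · -- subgroups of index p
    have e : Nat.card {H : Subgroup P // Nat.card H = p ^ a} =
        Nat.card {M : Subgroup P // M.index = p} := by
      refine Nat.card_congr (Equiv.subtypeEquivRight fun M => ?_)
      constructor
      · intro h
        exact index_of_card hm (by omega) (by rw [h]; congr 1; omega)
      · intro h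
        rw [(card_of_index hm h).2]; congr 1; omega
    rw [e]
    exact max_card_modEq hP hnc
  · have ham2 : a + 2 ≤ m := by omega
    classical
    haveI := Fintype.ofFinite (Subgroup P)
    haveI := Fintype.ofFinite (Subgroup (Dl p P))
    set Γ : Finset (Subgroup P) := Finset.univ.filter (fun M => M.index = p) with hΓ
    set 𝒮 : Finset (Subgroup P) := Finset.univ.filter (fun H => Nat.card H = p ^ a) with h𝒮
    set 𝔈 : Finset (Subgroup (Dl p P)) := Finset.univ.filter (fun E => Nat.card E = p ^ 2)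
      with h𝔈
    have h𝒮card : 𝒮.card = Nat.card {H : Subgroup P // Nat.card H = p ^ a} := card_filter_eq _
    have hΓcard : Γ.card = Nat.card {M : Subgroup P // M.index = p} := card_filter_eq _
    let ε : Subgroup P → ℕ := fun H => if p ^ 2 ∣ Nat.card (DH p H) then 1 else 0
    let δ : Subgroup P → ℕ := fun M => if IsCyclic M then 0 else 1
    -- Step 1: double counting
    have hdc : ∑ M ∈ Γ, (𝒮.filter (fun H => H ≤ M)).card =
        ∑ H ∈ 𝒮, (Γ.filter (fun M => H ≤ M)).card :=
      Finset.sum_card_bipartiteAbove_eq_sum_card_bipartiteBelow (fun M H => H ≤ M)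
    -- Step 2
    have hstep2 : ∑ H ∈ 𝒮, (Γ.filter (fun M => H ≤ M)).card ≡
        ∑ H ∈ 𝒮, (1 + p * ε H) [MOD p ^ 2] := by
      apply Nat.ModEq.sum
      intro H hH
      simp only [h𝒮, Finset.mem_filter, Finset.mem_univ, true_and] at hH
      have h := mu_modEq hP hm ham H hH
      have e : (Γ.filter (fun M => H ≤ M)).card =
          Nat.card {M : Subgroup P // M.index = p ∧ H ≤ M} := by
        rw [hΓ, Finset.filter_filter]; exact card_filter_eq _
      rw [e]
      exact h
    -- Step 3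
    have hstep3 : ∑ H ∈ 𝒮, ε H ≡ 1 [MOD p] := by
      have hdc2 : ∑ H ∈ 𝒮, (𝔈.filter (fun E => E ≤ DH p H)).card =
          ∑ E ∈ 𝔈, (𝒮.filter (fun H => E ≤ DH p H)).card :=
        Finset.sum_card_bipartiteAbove_eq_sum_card_bipartiteBelow (fun H E => E ≤ DH p H)
      have hl : ∑ H ∈ 𝒮, (𝔈.filter (fun E => E ≤ DH p H)).card ≡ ∑ H ∈ 𝒮, ε H [MOD p] := by
        apply Nat.ModEq.sum
        intro H hH
        have e : (𝔈.filter (fun E => E ≤ DH p H)).card =
            Nat.card {E : Subgroup (Dl p P) // Nat.card E = p ^ 2 ∧ E ≤ DH p H} := by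
          rw [h𝔈, Finset.filter_filter]; exact card_filter_eq _
        rw [e]
        by_cases hd : p ^ 2 ∣ Nat.card (DH p H)
        · have : ε H = 1 := if_pos hd
          rw [this]
          exact card_le_modEq_one p 2 hp.out (DH p H) hd
        · have : ε H = 0 := if_neg hd
          rw [this]
          have hempty : IsEmpty {E : Subgroup (Dl p P) // Nat.card E = p ^ 2 ∧ E ≤ DH p H} := by
            refine ⟨fun E => hd ?_⟩
            rw [← E.2.1]
            exact Subgroup.card_dvd_of_le E.2.2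
          rw [Nat.card_of_isEmpty]
      have hr : ∑ E ∈ 𝔈, (𝒮.filter (fun H => E ≤ DH p H)).card ≡ ∑ E ∈ 𝔈, 1 [MOD p] := by
        apply Nat.ModEq.sum
        intro E hE
        simp only [h𝔈, Finset.mem_filter, Finset.mem_univ, true_and] at hE
        have e : (𝒮.filter (fun H => E ≤ DH p H)).card =
            Nat.card {H : Subgroup P // Nat.card H = p ^ a ∧ H ≤ KE E} := by
          rw [h𝒮, Finset.filter_filter, card_filter_eq]
          refine Nat.card_congr (Equiv.subtypeEquivRight fun H => ?_)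
          rw [le_DH_iff]
        rw [e]
        exact card_le_modEq_one p a hp.out (KE E) (pow_dvd_card_KE hP hm ham2 E hE)
      have h𝔈card : 𝔈.card ≡ 1 [MOD p] := by
        rw [h𝔈, card_filter_eq]
        apply Cfsg.Agent.Lib.Helper91.SubCount.card_subgroups_modEq_one (Dl p P) p 2 hp.out
        have h1 := sq_dvd_card_DH_bot hP hnc
        exact h1.trans (Subgroup.card_subgroup_dvd_card _)
      have hr' : ∑ E ∈ 𝔈, (1 : ℕ) = 𝔈.card := by simp
      rw [hr'] at hr
      exact (hl.symm.trans (hdc2 ▸ hr)).trans h𝔈card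
    -- Step 4
    have hstep4 : ∑ M ∈ Γ, (𝒮.filter (fun H => H ≤ M)).card ≡
        ∑ M ∈ Γ, (1 + p * δ M) [MOD p ^ 2] := by
      apply Nat.ModEq.sum
      intro M hM
      simp only [hΓ, Finset.mem_filter, Finset.mem_univ, true_and] at hM
      have hcM := (card_of_index hm hM).2
      have e : (𝒮.filter (fun H => H ≤ M)).card =
          Nat.card {H : Subgroup M // Nat.card H = p ^ a} := by
        rw [h𝒮, Finset.filter_filter, card_filter_eq, card_le_equiv]
      rw [e]
      by_cases hc : IsCyclic M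
      · have : δ M = 0 := if_pos hc
        rw [this, mul_zero, add_zero]
        rw [cyclic_count hc a (by rw [hcM]; exact pow_dvd_pow p (by omega))]
      · have : δ M = 1 := if_neg hc
        rw [this, mul_one]
        have hlt : Nat.card M < n := by
          rw [hcM, ← hn, hm]
          exact Nat.pow_lt_pow_right hp1 (by omega)
        exact ih (Nat.card M) hlt M rfl (hP.to_subgroup M) hc a ha
          (by rw [hcM]; exact pow_dvd_pow p (by omega))
    -- count of noncyclic maximal subgroups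
    have hΓmod : Γ.card ≡ 1 + p [MOD p ^ 2] := by
      rw [hΓcard]; exact max_card_modEq hP hnc
    have hδ : ∑ M ∈ Γ, δ M ≡ 1 [MOD p] := by
      have hcyc := cyc_max_dvd hp2 hP hnc hm (by omega)
      have hsplit : ∑ M ∈ Γ, δ M + (Γ.filter (fun M : Subgroup P => IsCyclic M)).card = Γ.card := by
        have h1 : ∑ M ∈ Γ, δ M = (Γ.filter (fun M : Subgroup P => ¬ IsCyclic M)).card := by
          rw [Finset.card_filter]
          apply Finset.sum_congr rfl
          intro M _
          show (if IsCyclic M then 0 else 1) = if ¬ IsCyclic M then 1 else 0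
          by_cases h : IsCyclic M <;> simp [h]
        rw [h1, add_comm]
        exact Finset.card_filter_add_card_filter_not _
      have hcyc' : p ∣ (Γ.filter (fun M : Subgroup P => IsCyclic M)).card := by
        have e : (Γ.filter (fun M : Subgroup P => IsCyclic M)).card =
            Nat.card {M : Subgroup P // M.index = p ∧ IsCyclic M} := by
          rw [hΓ, Finset.filter_filter]; exact card_filter_eq _
        rw [e]; exact hcyc
      have hΓp : Γ.card ≡ 1 [MOD p] := by
        have h1 : Γ.card ≡ 1 + p [MOD p] := hΓmod.of_dvd (Dvd.intro_left (p ^ 1) (by ring))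
        have h2 : 1 + p ≡ 1 [MOD p] := by
          have : 1 + p ≡ 1 + 0 [MOD p] := Nat.ModEq.add_left 1 ((Nat.modEq_zero_iff_dvd).mpr dvd_rfl)
          simpa using this
        exact h1.trans h2
      have h3 : ∑ M ∈ Γ, δ M + (Γ.filter (fun M : Subgroup P => IsCyclic M)).card ≡ ∑ M ∈ Γ, δ M + 0 [MOD p] :=
        Nat.ModEq.add_left _ ((Nat.modEq_zero_iff_dvd).mpr hcyc')
      rw [hsplit, add_zero] at h3
      exact h3.symm.trans hΓp
    -- assemble
    have hsum1 : ∑ H ∈ 𝒮, (1 + p * ε H) = 𝒮.card + p * ∑ H ∈ 𝒮, ε H := by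
      rw [Finset.sum_add_distrib, Finset.mul_sum]; simp
    have hsum2 : ∑ M ∈ Γ, (1 + p * δ M) = Γ.card + p * ∑ M ∈ Γ, δ M := by
      rw [Finset.sum_add_distrib, Finset.mul_sum]; simp
    have hpp : p ^ 2 = p * p := by ring
    have hA : p * ∑ H ∈ 𝒮, ε H ≡ p * 1 [MOD p ^ 2] := by
      rw [hpp]; exact Nat.ModEq.mul_left' p hstep3
    have hB : p * ∑ M ∈ Γ, δ M ≡ p * 1 [MOD p ^ 2] := by
      rw [hpp]; exact Nat.ModEq.mul_left' p hδ
    have hL : 𝒮.card + p * 1 ≡ (1 + p) + p * 1 [MOD p ^ 2] := by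
      calc 𝒮.card + p * 1 ≡ 𝒮.card + p * ∑ H ∈ 𝒮, ε H [MOD p ^ 2] := Nat.ModEq.add_left _ hA.symm
        _ = ∑ H ∈ 𝒮, (1 + p * ε H) := hsum1.symm
        _ ≡ ∑ H ∈ 𝒮, (Γ.filter (fun M => H ≤ M)).card [MOD p ^ 2] := hstep2.symm
        _ = ∑ M ∈ Γ, (𝒮.filter (fun H => H ≤ M)).card := hdc.symm
        _ ≡ ∑ M ∈ Γ, (1 + p * δ M) [MOD p ^ 2] := hstep4
        _ = Γ.card + p * ∑ M ∈ Γ, δ M := hsum2
        _ ≡ (1 + p) + p * 1 [MOD p ^ 2] := Nat.ModEq.add hΓmod hB
    rw [← h𝒮card]
    exact Nat.ModEq.add_right_cancel' (p * 1) hL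

end Cfsg.Agent.Lib.Helper2.Kul
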