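import Mathlib
import Cfsg.Agent.Lib.Helper94.OMiPStmt
import Cfsg.Agent.Lib.Helper44.OTyp1
import Cfsg.Agent.Lib.Helper44.SpinCount
import Cfsg.Agent.Lib.Helper44.NegPairs

set_option autoImplicit false

/-! Piece MUNIQ of S5991 (helper2): the type `β` of a nondegenerate odd-dimensional space
`S ⊕ ⟨w⟩` (`S` totally singular of half dimension, `Q w = β`) is unique modulo squares.
Proof by counting (`Helper44.SpinCount.card_level_odd`), no Witt theorem. -/

namespace Cfsg.Agent.Lib.Helper2.OMiMUNIQ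

open Module QuadraticMap
open Cfsg.Agent.Lib.Helper44.QSpace Cfsg.Agent.Lib.Helper44.QClass Cfsg.Agent.Lib.Helper44.OTyp1
open Cfsg.Agent.Lib.Helper44.SpinCount
open Cfsg.Agent.Lib.Helper94.OMiPStmt
open Cfsg.Agent.Lib.Helper44.NegPairs

universe u

section abstract

variable {F : Type u} [Field F] [Fintype F] {V : Type u} [AddCommGroup V] [Module F V]
  [FiniteDimensional F V]

/-- A hyperbolic system inside `w^⊥` from a totally singular subspace of half dimension. -/
theorem exists_hyp_perp (h2 : (2 : F) ≠ 0) {Q : QuadraticForm F V} (hS : Sep Q) {k : ℕ}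
    (hV : finrank F V = 2 * k + 1) (S : Submodule F V) (hSts : ∀ s ∈ S, Q s = 0)
    (hSk : finrank F S = k) (w : V) (hw : Q w ≠ 0) (hwS : ∀ s ∈ S, polar Q s w = 0) :
    ∃ e f : Fin k → V, IsHyp Q e f ∧ (∀ i, polar Q w (e i) = 0) ∧
      (∀ i, polar Q w (f i) = 0) := by
  rcases Nat.eq_zero_or_pos k with rfl | hk
  · exact ⟨Fin.elim0, Fin.elim0, ⟨fun i => i.elim0, fun i => i.elim0, fun i => i.elim0,
      fun i => i.elim0, fun i => i.elim0⟩, fun i => i.elim0, fun i => i.elim0⟩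
  obtain ⟨k', rfl⟩ : ∃ k', k = k' + 1 := ⟨k - 1, by omega⟩
  obtain ⟨φ, hφ⟩ : ∃ φ : V →ₗ[F] F, ∀ v, φ v = polar Q w v := ⟨polarBilin Q w, fun v => rfl⟩
  have hφ0 : φ ≠ 0 := by
    intro h
    have h' := hφ w
    rw [h, LinearMap.zero_apply, polar_self'] at h'
    exact mul_ne_zero h2 hw h'.symm
  obtain ⟨H, hH⟩ : ∃ H : Submodule F V, H = LinearMap.ker φ := ⟨_, rfl⟩
  have hHmem : ∀ v, v ∈ H ↔ polar Q w v = 0 := by
    intro v
    rw [hH, LinearMap.mem_ker, hφ]
  have hHdim : finrank F H = 2 * (k' + 1) := by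
    have h' := Module.Dual.finrank_ker_add_one_of_ne_zero hφ0
    rw [hH]
    omega
  have hSepH : Sep (res Q H) := by
    intro x hx
    apply Subtype.ext
    apply hS
    intro v
    obtain ⟨c, hc⟩ : ∃ c : F, c = polar Q w v / (2 * Q w) := ⟨_, rfl⟩
    have hmem : v - c • w ∈ H := by
      rw [hHmem, polar_sub_right, polar_smul_r, polar_self', hc]
      field_simp
      ring
    have h1 : polar Q (x : V) (v - c • w) = 0 := hx ⟨v - c • w, hmem⟩
    have h3 : polar Q (x : V) w = 0 := by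
      rw [polar_comm]
      exact (hHmem _).1 x.2
    rw [polar_sub_right, polar_smul_r, h3, mul_zero, sub_zero] at h1
    exact h1
  have hSH : S ≤ H := fun s hs => (hHmem s).2 (by rw [polar_comm]; exact hwS s hs)
  obtain ⟨e, f, hef⟩ := hyp_of_ts' hSepH (k := k') hHdim (U := Submodule.comap H.subtype S)
    (fun u hu => hSts _ hu) (by rw [(Submodule.comapSubtypeEquivOfLe hSH).finrank_eq, hSk])
  exact ⟨fun i => (e i : V), fun i => (f i : V), hef, fun i => (hHmem _).1 (e i).2,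
    fun i => (hHmem _).1 (f i).2⟩

/-- Two structures `S ⊕ ⟨w⟩`, `S' ⊕ ⟨w'⟩` on the same space: `Q w * Q w'` is a square. -/
theorem isSquare_mul_of_two (h2 : (2 : F) ≠ 0) {Q : QuadraticForm F V} (hS : Sep Q) {k : ℕ}
    (hV : finrank F V = 2 * k + 1) (S S' : Submodule F V) (hSts : ∀ s ∈ S, Q s = 0)
    (hSts' : ∀ s ∈ S', Q s = 0) (hSk : finrank F S = k) (hSk' : finrank F S' = k) (w w' : V)
    (hw : Q w ≠ 0) (hw' : Q w' ≠ 0) (hwS : ∀ s ∈ S, polar Q s w = 0)
    (hwS' : ∀ s ∈ S', polar Q s w' = 0) : IsSquare (Q w * Q w') := by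
  obtain ⟨e, f, hH, he, hf⟩ := exists_hyp_perp h2 hS hV S hSts hSk w hw hwS
  obtain ⟨e', f', hH', he', hf'⟩ := exists_hyp_perp h2 hS hV S' hSts' hSk' w' hw' hwS'
  have c1 := card_level_odd h2 hV hH hw he hf (c := Q w') hw'
  have c2 := card_level_odd h2 hV hH' hw' he' hf' (c := Q w') hw'
  by_contra hns
  have e1 := c1.2 hns
  have e2 := c2.1 ⟨Q w', rfl⟩
  rw [e1] at e2
  have hq : 0 < Fintype.card F ^ k := pow_pos Fintype.card_pos k
  generalize (Fintype.card F ^ k - 1) * Fintype.card F ^ k = X at e2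
  omega

end abstract

theorem main : MUniq.{u} := by
  intro F _ _ hqodd d hd a b hab U hU β β' hβ' hT hT'
  classical
  have h2 : (2 : F) ≠ 0 := Cfsg.Agent.Lib.Helper44.FinSq.two_ne_zero_of_odd_card hqodd
  by_cases hβ : β = 0
  · exact ⟨0, by rw [hβ]; ring⟩
  obtain ⟨S, hSU, hSts, hSdim, w, hwU, hwS, hQw⟩ := hT
  obtain ⟨S', hSU', hSts', hSdim', w', hwU', hwS', hQw'⟩ := hT'
  obtain ⟨Q, hQ⟩ : ∃ Q : QuadraticForm F (Mi d → F), Q = minusQ (d - 1) F a b := ⟨_, rfl⟩
  have hQc : ∀ v, Q v = Cfsg.quadFormMinus (d - 1) F a b v := fun v => by rw [hQ]; rfl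
  have hpol : ∀ u v, polar Q u v = polar (Cfsg.quadFormMinus (d - 1) F a b) u v := by
    intro u v
    rw [hQ]
    rfl
  have hSep : Sep (res Q U) := by
    intro x hx
    by_contra hx0
    have hx0' : (x : Mi d → F) ≠ 0 := fun h => hx0 (Subtype.ext h)
    obtain ⟨-, ⟨y, hyU, hy⟩⟩ := hU (x : Mi d → F) x.2 hx0'
    exact hy (by rw [← hpol]; exact hx ⟨y, hyU⟩)
  obtain ⟨k, hk⟩ : ∃ k, k = finrank F S := ⟨_, rfl⟩
  have hV : finrank F U = 2 * k + 1 := by omega
  have hk' : finrank F S' = k := by omega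
  have key := isSquare_mul_of_two h2 hSep hV (Submodule.comap U.subtype S)
    (Submodule.comap U.subtype S')
    (fun s hs => by
      show Q (s : Mi d → F) = 0
      rw [hQc]; exact hSts _ hs)
    (fun s hs => by
      show Q (s : Mi d → F) = 0
      rw [hQc]; exact hSts' _ hs)
    (by rw [(Submodule.comapSubtypeEquivOfLe hSU).finrank_eq, hk])
    (by rw [(Submodule.comapSubtypeEquivOfLe hSU').finrank_eq, hk'])
    ⟨w, hwU⟩ ⟨w', hwU'⟩
    (by
      show Q w ≠ 0
      rw [hQc, hQw]; exact hβ)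
    (by
      show Q w' ≠ 0
      rw [hQc, hQw']; exact hβ')
    (fun s hs => by
      show polar Q (s : Mi d → F) w = 0
      rw [hpol]; exact hwS _ hs)
    (fun s hs => by
      show polar Q (s : Mi d → F) w' = 0
      rw [hpol]; exact hwS' _ hs)
  have key' : IsSquare (β * β') := by
    have h : IsSquare (Q w * Q w') := key
    rwa [hQc, hQc, hQw, hQw'] at h
  obtain ⟨t, ht⟩ := key'
  refine ⟨t / β', ?_⟩
  field_simp
  linear_combination ht

end Cfsg.Agent.Lib.Helper2.OMiMUNIQ
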