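import Mathlib
import Cfsg.Agent.Lib.Helper44.NegPairs

set_option autoImplicit false

/-! Piece NEGSQNON5 of S5989 (helper2), abstract part: products of the reflections in
`e - f`, `e - c f` for hyperbolic pairs, and the structure of an isometry with `g ^ 2 = -1`. -/

namespace Cfsg.Agent.Lib.Helper2.OPRefC

open Module QuadraticMap
open Cfsg.Agent.Lib.Helper44.QSpace Cfsg.Agent.Lib.Helper44.OGroup
open Cfsg.Agent.Lib.Helper44.ReflProd

universe u

variable {F : Type*} [Field F] {V : Type u} [AddCommGroup V] [Module F V]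

theorem q_pair_sub {Q : QuadraticForm F V} {e f : V} (he : Q e = 0) (hf : Q f = 0)
    (hef : polar Q e f = 1) (c : F) : Q (e - c • f) = -c := by
  have : e - c • f = e + (-c) • f := by rw [neg_smul, sub_eq_add_neg]
  rw [this, q_add, q_smul, polar_smul_r, he, hf, hef]; ring

theorem q_pair_sub_one {Q : QuadraticForm F V} {e f : V} (he : Q e = 0) (hf : Q f = 0)
    (hef : polar Q e f = 1) : Q (e - f) = -1 := by
  have := q_pair_sub he hf hef 1
  rwa [one_smul] at this

/-- The product of the reflections in `e - f` and `e - c f`, for a hyperbolic pair, acts as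
`diag (c, c⁻¹)` on the hyperbolic plane and fixes its orthogonal complement. -/
theorem reflE_pairC {Q : QuadraticForm F V} {e f : V} (he : Q e = 0) (hf : Q f = 0)
    (hef : polar Q e f = 1) {c : F} (hc : c ≠ 0) (x : V) :
    reflE Q (e - f) (reflE Q (e - c • f) x)
      = x + (((c - 1) * polar Q x f) • e + ((c⁻¹ - 1) * polar Q x e) • f) := by
  have hfe : polar Q f e = 1 := by rw [polar_comm]; exact hef
  rw [reflE_apply, reflE_apply, q_pair_sub_one he hf hef, q_pair_sub he hf hef c]
  simp only [polar_sub_left, polar_sub_right, polar_smul_l, polar_smul_r,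
    polar_self', he, hf, hef, hfe, inv_neg, inv_one]
  match_scalars <;> field_simp <;> ring

variable {κ : Type*} [DecidableEq κ]

/-- The list of reflection vectors `e_j - f_j, e_j - c f_j` for `j` in a list. -/
def pairListC (c : F) (e f : κ → V) (js : List κ) : List V :=
  js.flatMap (fun j => [e j - f j, e j - c • f j])

omit [DecidableEq κ] in
theorem pairListC_cons (c : F) (e f : κ → V) (j : κ) (js : List κ) :
    pairListC c e f (j :: js) = (e j - f j) :: (e j - c • f j) :: pairListC c e f js := by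
  simp [pairListC]

theorem pairC_prod {Q : QuadraticForm F V} {c : F} (hc : c ≠ 0) (e f : κ → V)
    (he : ∀ j, Q (e j) = 0)
    (hf : ∀ j, Q (f j) = 0) (hef : ∀ j l, polar Q (e j) (f l) = if j = l then 1 else 0)
    (hee : ∀ j l, polar Q (e j) (e l) = 0) (hff : ∀ j l, polar Q (f j) (f l) = 0)
    (js : List κ) (hnd : js.Nodup) (x : V) :
    ((pairListC c e f js).map (reflE Q)).prod x
      = x + (js.map (fun j => ((c - 1) * polar Q x (f j)) • e j
          + ((c⁻¹ - 1) * polar Q x (e j)) • f j)).sum := by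
  induction js with
  | nil => simp [pairListC]
  | cons j js ih =>
    rw [List.nodup_cons] at hnd
    rw [pairListC_cons, List.map_cons, List.map_cons, List.prod_cons, List.prod_cons,
      LinearEquiv.mul_apply, LinearEquiv.mul_apply, ih hnd.2,
      reflE_pairC (he j) (hf j) (by rw [hef, if_pos rfl]) hc]
    obtain ⟨h1, h2⟩ := polar_sum_pairs e f hef hee hff (fun l => (c - 1) * polar Q x (f l))
      (fun l => (c⁻¹ - 1) * polar Q x (e l)) js j hnd.1
    rw [polar_add_left, polar_add_left, h1, h2, add_zero, add_zero, List.map_cons, List.sum_cons]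
    abel

omit [DecidableEq κ] in
theorem pairListC_props {Q : QuadraticForm F V} {c : F} (hc : c ≠ 0) (e f : κ → V)
    (he : ∀ j, Q (e j) = 0)
    (hf : ∀ j, Q (f j) = 0) (hef : ∀ j, polar Q (e j) (f j) = 1) (js : List κ) :
    (∀ v ∈ pairListC c e f js, Q v ≠ 0) ∧ (pairListC c e f js).length = 2 * js.length ∧
      ((pairListC c e f js).map (fun v => Q v)).prod = c ^ js.length := by
  induction js with
  | nil => simp [pairListC]
  | cons j js ih =>
    obtain ⟨ih1, ih2, ih3⟩ := ih
    have h1 : Q (e j - f j) = -1 := q_pair_sub_one (he j) (hf j) (hef j)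
    have h2 : Q (e j - c • f j) = -c := q_pair_sub (he j) (hf j) (hef j) c
    rw [pairListC_cons]
    refine ⟨?_, ?_, ?_⟩
    · intro v hv
      rcases List.mem_cons.mp hv with rfl | hv
      · rw [h1]; exact neg_ne_zero.mpr one_ne_zero
      · rcases List.mem_cons.mp hv with rfl | hv
        · rw [h2]; exact neg_ne_zero.mpr hc
        · exact ih1 v hv
    · simp only [List.length_cons, ih2]; ring
    · simp only [List.map_cons, List.prod_cons, ih3, h1, h2, List.length_cons, pow_succ]
      ring

omit [DecidableEq κ] in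
/-- Structure of an isometry with `g ^ 2 = -1` when `ι ^ 2 = -1`: there are dual bases `e`, `f`
of the two eigenspaces, and `g` is `diag (ι, ι⁻¹)` on each hyperbolic plane `⟨e_j, f_j⟩`. -/
theorem exists_pairs [FiniteDimensional F V] (h2 : (2 : F) ≠ 0) {Q : QuadraticForm F V}
    (hS : Sep Q) (g : V ≃ₗ[F] V) (hg : g ∈ O Q) (hgg : ∀ v, g (g v) = -v) {ι : F}
    (hι : ι * ι = -1) :
    ∃ (k : ℕ) (e f : Fin k → V), (∀ j, Q (e j) = 0) ∧ (∀ j, Q (f j) = 0) ∧
      (∀ j l, polar Q (e j) (f l) = if j = l then 1 else 0) ∧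
      (∀ j l, polar Q (e j) (e l) = 0) ∧ (∀ j l, polar Q (f j) (f l) = 0) ∧
      2 * k = finrank F V ∧
      ∀ x, g x = x + ∑ j, (((ι - 1) * polar Q x (f j)) • e j
        + ((ι⁻¹ - 1) * polar Q x (e j)) • f j) := by
  classical
  have hι0 : ι ≠ 0 := by
    rintro rfl
    rw [mul_zero] at hι
    exact one_ne_zero (neg_eq_zero.mp hι.symm)
  have hιinv : ι⁻¹ = -ι := inv_eq_of_mul_eq_one_right (by rw [mul_neg, hι, neg_neg])
  -- eigenvectors are singular
  have hQ0 : ∀ (c : F), c * c = -1 → ∀ u, g u = c • u → Q u = 0 := by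
    intro c hc u hu
    have h := hg u
    rw [hu, q_smul, hc] at h
    have h' : (2 : F) * Q u = 0 := by linear_combination -h
    rcases mul_eq_zero.mp h' with h'' | h''
    · exact absurd h'' h2
    · exact h''
  have hB0 : ∀ (c : F), c * c = -1 → ∀ u u', g u = c • u → g u' = c • u' → polar Q u u' = 0 := by
    intro c hc u u' hu hu'
    unfold polar
    rw [hQ0 c hc u hu, hQ0 c hc u' hu', hQ0 c hc (u + u') (by rw [map_add, hu, hu', smul_add])]
    ring
  have hnn : (-ι) * (-ι) = -1 := by rw [neg_mul_neg, hι]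
  -- the two projections
  obtain ⟨p, hp⟩ : ∃ p : V →ₗ[F] V, ∀ v, p v = (2⁻¹ : F) • (v - ι • g v) :=
    ⟨(2⁻¹ : F) • (LinearMap.id - ι • (g : V →ₗ[F] V)), fun v => rfl⟩
  obtain ⟨m, hm⟩ : ∃ m : V →ₗ[F] V, ∀ v, m v = (2⁻¹ : F) • (v + ι • g v) :=
    ⟨(2⁻¹ : F) • (LinearMap.id + ι • (g : V →ₗ[F] V)), fun v => rfl⟩
  have hpm : ∀ v, v = p v + m v := by
    intro v
    rw [hp, hm, ← smul_add]
    have : v - ι • g v + (v + ι • g v) = (2 : F) • v := by rw [two_smul]; abel
    rw [this, smul_smul, inv_mul_cancel₀ h2, one_smul]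
  have hgp : ∀ v, g (p v) = ι • p v := by
    intro v
    have key : ι • ι • g v = -(g v) := by rw [smul_smul, hι, neg_smul, one_smul]
    rw [hp, map_smul, map_sub, map_smul, hgg, smul_comm ι (2⁻¹ : F), smul_sub ι, key]
    congr 1
    rw [smul_neg]; abel
  have hgm : ∀ v, g (m v) = (-ι) • m v := by
    intro v
    have key : (-ι) • ι • g v = g v := by rw [smul_smul, neg_mul, hι, neg_neg, one_smul]
    rw [hm, map_smul, map_add, map_smul, hgg, smul_comm (-ι) (2⁻¹ : F), smul_add (-ι), key]
    congr 1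
    rw [smul_neg, neg_smul]; abel
  -- adjointness
  have hadj0 : ∀ w x, polar Q (g w) x = -polar Q w (g x) := by
    intro w x
    have h := polar_of_mem_O hg w (g x)
    rw [hgg, polar_neg_right] at h
    rw [← h, neg_neg]
  have hadj : ∀ w x, polar Q (m w) x = polar Q w (p x) := by
    intro w x
    rw [hm, hp, polar_smul_l, polar_smul_r, polar_add_left, polar_sub_right, polar_smul_l,
      polar_smul_r, hadj0]
    ring
  -- the eigenspace and its basis
  obtain ⟨Ep, hEp⟩ : ∃ Ep : Submodule F V, ∀ u, u ∈ Ep ↔ g u = ι • u :=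
    ⟨LinearMap.ker ((g : V →ₗ[F] V) - ι • LinearMap.id), fun u => by
      rw [LinearMap.mem_ker, LinearMap.sub_apply, LinearMap.smul_apply, LinearMap.id_apply,
        sub_eq_zero]
      rfl⟩
  obtain ⟨k, hk⟩ : ∃ k, k = finrank F Ep := ⟨_, rfl⟩
  have b : Basis (Fin k) F Ep := by
    rw [hk]
    exact Module.finBasis F Ep
  obtain ⟨pR, hpR⟩ : ∃ pR : V →ₗ[F] Ep, ∀ v, (pR v : V) = p v :=
    ⟨p.codRestrict Ep (fun v => (hEp _).2 (hgp v)), fun v => rfl⟩
  have hpfix : ∀ u, g u = ι • u → p u = u := by
    intro u hu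
    rw [hp, hu, smul_smul, hι, neg_smul, one_smul, sub_neg_eq_add, ← two_smul F u, smul_smul,
      inv_mul_cancel₀ h2, one_smul]
  have hpRb : ∀ j, pR (b j) = b j := by
    intro j
    apply Subtype.ext
    rw [hpR]
    exact hpfix _ ((hEp _).1 (b j).2)
  have hBn := nondegenerate_of_sep hS
  obtain ⟨w, hw⟩ : ∃ w : Fin k → V, ∀ a v, polar Q (w a) v = b.repr (pR v) a := by
    refine ⟨fun a => (LinearMap.BilinForm.toDual (polarBilin Q) hBn).symm ((b.coord a).comp pR), fun a v => ?_⟩
    have h := LinearMap.BilinForm.apply_toDual_symm_apply (hB := hBn) ((b.coord a).comp pR) v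
    exact h
  obtain ⟨e, he⟩ : ∃ e : Fin k → V, ∀ j, e j = (b j : V) := ⟨fun j => (b j : V), fun j => rfl⟩
  obtain ⟨f, hf⟩ : ∃ f : Fin k → V, ∀ j, f j = m (w j) := ⟨fun j => m (w j), fun j => rfl⟩
  have hge : ∀ j, g (e j) = ι • e j := fun j => by rw [he]; exact (hEp _).1 (b j).2
  have hgf : ∀ j, g (f j) = (-ι) • f j := fun j => by rw [hf]; exact hgm _
  -- the key pairing formula
  have hfx : ∀ j x, polar Q (f j) x = b.repr (pR x) j := by
    intro j x
    rw [hf, hadj, hw]
    congr 2
    apply Subtype.ext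
    rw [hpR, hpR]
    exact hpfix _ (hgp x)
  have hfe : ∀ j l, polar Q (f j) (e l) = if l = j then 1 else 0 := by
    intro j l
    rw [hfx, he, hpRb, Basis.repr_self_apply]
  have hef : ∀ j l, polar Q (e j) (f l) = if j = l then 1 else 0 := by
    intro j l
    rw [polar_comm, hfe]
  have hee : ∀ j l, polar Q (e j) (e l) = 0 := fun j l => hB0 ι hι _ _ (hge j) (hge l)
  have hff : ∀ j l, polar Q (f j) (f l) = 0 := fun j l => hB0 (-ι) hnn _ _ (hgf j) (hgf l)
  have hsum : ∀ (x : V) (c : Fin k → F) (v : Fin k → V),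
      polar Q x (∑ j, c j • v j) = ∑ j, c j * polar Q x (v j) := by
    intro x c v
    have h := map_sum (polarBilin Q x) (fun j => c j • v j) Finset.univ
    simp only [map_smul, smul_eq_mul] at h
    exact h
  -- decomposition of `p x` and `m x`
  have hpx : ∀ x, p x = ∑ j, polar Q x (f j) • e j := by
    intro x
    have h := congrArg Subtype.val (b.sum_repr (pR x))
    rw [hpR] at h
    rw [← h, Submodule.coe_sum]
    apply Finset.sum_congr rfl
    intro j _
    rw [Submodule.coe_smul, polar_comm, hfx, he]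
  have hmx : ∀ x, m x = ∑ j, polar Q x (e j) • f j := by
    intro x
    have hz : m x - ∑ j, polar Q x (e j) • f j = 0 := by
      apply hS
      intro y
      rw [polar_sub_left, hadj, hpx y, hsum, polar_comm (⇑Q) (∑ j, polar Q x (e j) • f j) y,
        hsum, sub_eq_zero]
      apply Finset.sum_congr rfl
      intro j _
      rw [mul_comm]
    exact sub_eq_zero.mp hz
  refine ⟨k, e, f, fun j => hQ0 ι hι _ (hge j), fun j => hQ0 (-ι) hnn _ (hgf j), hef, hee, hff,
    ?_, ?_⟩
  · -- dimension
    obtain ⟨T, hT⟩ : ∃ T : (Fin k → F) × (Fin k → F) →ₗ[F] V,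
        ∀ α β, T (α, β) = ∑ j, α j • e j + ∑ j, β j • f j :=
      ⟨(Fintype.linearCombination F e).coprod (Fintype.linearCombination F f), fun α β => by
        rw [LinearMap.coprod_apply, Fintype.linearCombination_apply,
          Fintype.linearCombination_apply]⟩
    have hinj : Function.Injective T := by
      rw [injective_iff_map_eq_zero]
      rintro ⟨α, β⟩ h
      rw [hT] at h
      have hα : ∀ l, α l = 0 := by
        intro l
        have h1 : polar Q (f l) (∑ j, α j • e j + ∑ j, β j • f j) = 0 := by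
          rw [h]; simp [polar]
        rw [polar_add_right, hsum, hsum] at h1
        simp only [hfe, hff, mul_zero, Finset.sum_const_zero, add_zero, mul_ite, mul_one,
          Finset.sum_ite_eq', Finset.mem_univ, if_true] at h1
        exact h1
      have hβ : ∀ l, β l = 0 := by
        intro l
        have h1 : polar Q (e l) (∑ j, α j • e j + ∑ j, β j • f j) = 0 := by
          rw [h]; simp [polar]
        rw [polar_add_right, hsum, hsum] at h1
        simp only [hef, hee, mul_zero, Finset.sum_const_zero, zero_add, mul_ite, mul_one,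
          Finset.sum_ite_eq, Finset.mem_univ, if_true] at h1
        exact h1
      exact Prod.ext (funext hα) (funext hβ)
    have hsurj : Function.Surjective T := by
      intro x
      refine ⟨(fun j => polar Q x (f j), fun j => polar Q x (e j)), ?_⟩
      rw [hT, ← hpx, ← hmx, ← hpm]
    have hfr := (LinearEquiv.ofBijective T ⟨hinj, hsurj⟩).finrank_eq
    rw [Module.finrank_prod, Module.finrank_fin_fun] at hfr
    rw [← hfr, two_mul]
  · intro x
    have h1 : ∑ j, (((ι - 1) * polar Q x (f j)) • e j + ((ι⁻¹ - 1) * polar Q x (e j)) • f j)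
        = (ι - 1) • p x + (ι⁻¹ - 1) • m x := by
      rw [hpx x, hmx x, Finset.smul_sum, Finset.smul_sum, ← Finset.sum_add_distrib]
      apply Finset.sum_congr rfl
      intro j _
      rw [smul_smul, smul_smul]
    rw [h1, hιinv]
    have hx := hpm x
    obtain ⟨u, hu⟩ : ∃ u, u = p x := ⟨_, rfl⟩
    obtain ⟨w', hw'⟩ : ∃ w', w' = m x := ⟨_, rfl⟩
    have hgx : g x = ι • u + (-ι) • w' := by
      rw [hu, hw', ← hgp, ← hgm, ← map_add, ← hpm]
    rw [hgx, ← hu, ← hw']
    rw [← hu, ← hw'] at hx
    rw [hx]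
    module

end Cfsg.Agent.Lib.Helper2.OPRefC
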