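import Mathlib
import Cfsg.Agent.Lib.Helper94.OPStmt
import Cfsg.Agent.Lib.Helper44.NegPairs
import Cfsg.Agent.Lib.Helper2.OPRefC

set_option autoImplicit false

/-! Piece NEGSQNON5 of S5989 (helper2): for `d` odd and `q ≡ 5 (mod 8)` no element of `Ω⁺` has
square `-1`: such an element is a product of `2 d` reflections with spinor norm `ι ^ d`,
`ι ^ 2 = -1`, a nonsquare. -/

namespace Cfsg.Agent.Lib.Helper2.OPNEGSQNON5

open Module QuadraticMap Matrix
open Cfsg.Agent.Lib.Helper94.OPStmt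
open Cfsg.Agent.Lib.Helper44.QSpace Cfsg.Agent.Lib.Helper44.OGroup Cfsg.Agent.Lib.Helper44.OMat
open Cfsg.Agent.Lib.Helper44.NegPairs Cfsg.Agent.Lib.Helper2.OPRefC

universe u

theorem main : NegSqNon5.{u} := by
  intro F _ _ hq8 d hd hodd x hx hxx
  classical
  have hqodd : Odd (Fintype.card F) := by rw [Nat.odd_iff]; omega
  have h2 : (2 : F) ≠ 0 := Cfsg.Agent.Lib.Helper44.FinSq.two_ne_zero_of_odd_card hqodd
  unfold Cfsg.Geo.omegaGL at hx
  rw [Subgroup.mem_map] at hx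
  obtain ⟨g, hgΩ, rfl⟩ := hx
  have hxx' : ((g : GL (P d) F) : Matrix (P d) (P d) F) * ((g : GL (P d) F) : Matrix (P d) (P d) F)
      = -1 := hxx
  have hsq : IsSquare (-1 : F) := by
    rw [FiniteField.isSquare_neg_one_iff]; omega
  obtain ⟨ι, hι⟩ := hsq
  have hι' : ι * ι = -1 := hι.symm
  have hι0 : ι ≠ 0 := by
    rintro rfl
    rw [mul_zero] at hι'
    exact one_ne_zero (neg_eq_zero.mp hι'.symm)
  obtain ⟨G, hG⟩ : ∃ G : ↥(O (plusQ d F)), G = isoEquiv (plusQ d F) g := ⟨_, rfl⟩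
  have hGv : ∀ v, (G : (P d → F) ≃ₗ[F] (P d → F)) v
      = ((g : GL (P d) F) : Matrix (P d) (P d) F) *ᵥ v := by
    intro v
    rw [hG]
    rfl
  have hGG : ∀ v, (G : (P d → F) ≃ₗ[F] (P d → F)) ((G : (P d → F) ≃ₗ[F] (P d → F)) v) = -v := by
    intro v
    rw [hGv, hGv, Matrix.mulVec_mulVec, hxx', Matrix.neg_mulVec, Matrix.one_mulVec]
  obtain ⟨k, e, f, he, hf, hef, hee, hff, hk, hform⟩ :=
    exists_pairs h2 (sep_plusQ d) (G : (P d → F) ≃ₗ[F] (P d → F)) G.2 hGG hι'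
  have hkd : k = d := by
    rw [Module.finrank_fintype_fun_eq_card, Fintype.card_sum, Fintype.card_fin] at hk
    omega
  obtain ⟨p1, p2, p3⟩ := pairListC_props (Q := plusQ d F) hι0 e f he hf
    (fun j => by rw [hef, if_pos rfl]) (Finset.univ : Finset (Fin k)).toList
  have hprod : ∀ v, ((g : GL (P d) F) : Matrix (P d) (P d) F) *ᵥ v
      = ((pairListC ι e f (Finset.univ : Finset (Fin k)).toList).map
          (reflE (plusQ d F))).prod v := by
    intro v
    rw [← hGv, hform, pairC_prod hι0 e f he hf hef hee hff _ (Finset.nodup_toList _),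
      Finset.sum_map_toList]
  have hiff := mem_omega_iff_of_mulVec h2 (plusQ d F) (sep_plusQ d)
    (by rw [Fintype.card_sum, Fintype.card_fin]; omega) g _ p1 hprod
  have hsq := (hiff.mp hgΩ).2
  rw [p3, Finset.length_toList, Finset.card_univ, Fintype.card_fin, hkd] at hsq
  obtain ⟨j, rfl⟩ := hodd
  obtain ⟨c, hc⟩ := hsq
  have ht : (c / ι ^ j) * (c / ι ^ j) = ι := by
    have hj0 : ι ^ j ≠ 0 := pow_ne_zero _ hι0
    field_simp
    linear_combination -hc
  obtain ⟨t, ht'⟩ : ∃ t, t * t = ι := ⟨_, ht⟩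
  have ht4 : t ^ 4 = -1 := by
    have : t ^ 4 = (t * t) * (t * t) := by ring
    rw [this, ht', hι']
  have ht0 : t ≠ 0 := by
    rintro rfl
    rw [zero_pow (by norm_num)] at ht4
    exact one_ne_zero (neg_eq_zero.mp ht4.symm)
  have hfer := FiniteField.pow_card_sub_one_eq_one t ht0
  obtain ⟨m, hm⟩ : ∃ m, Fintype.card F = 8 * m + 5 := ⟨Fintype.card F / 8, by omega⟩
  rw [hm] at hfer
  have hexp : 8 * m + 5 - 1 = 4 * (2 * m + 1) := by omega
  rw [hexp, pow_mul, ht4, Odd.neg_one_pow ⟨m, rfl⟩] at hfer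
  apply h2
  linear_combination -hfer

end Cfsg.Agent.Lib.Helper2.OPNEGSQNON5
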