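import Cfsg.Agent.Lib.Helper2.Offender

/-!
# Offenders: the case of a solvable normal subgroup of odd order

* `hyperplane_trivial`: a minimal offender `B` with a hyperplane `B₀` centralizing a nontrivial
  abelian subgroup `Y` of odd order that is inverted by some `a ∈ B \ B₀` has `B₀ = 1`.
* `exists_transvection_solvable`: `exists_transvection` for a solvable ambient group and an
  arbitrary subgroup `K` of odd order on which `A` acts faithfully.
-/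

set_option autoImplicit false

namespace Cfsg.Agent.Lib.Helper2.Offender2

open Cfsg.Agent.Lib.Helper2.Offender
open scoped commutatorElement

variable {Γ V : Type*} [Group Γ] [CommGroup V]

theorem hyperplane_trivial [Finite Γ] [Finite V]
    (hV2 : ∀ v : V, v * v = 1) (φ : Γ →* MulAut V)
    (B : Subgroup Γ) (hA2 : ∀ a ∈ B, a * a = 1)
    (hBoff : Nat.card V ≤ Nat.card B * Nat.card (fix φ B))
    (hBmin' : ∀ B' : Subgroup Γ, B' ≤ B → B' ≠ ⊥ →
      Nat.card V ≤ Nat.card B' * Nat.card (fix φ B') → Nat.card B ≤ Nat.card B')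
    (B₀ : Subgroup Γ) (hB₀B : B₀ ≤ B) (hidx : B₀.relIndex B = 2) (a : Γ) (haB : a ∈ B)
    (Y : Subgroup Γ) (hYodd : Odd (Nat.card Y)) (hYinj : ∀ y ∈ Y, φ y = 1 → y = 1)
    (hYne : Y ≠ ⊥) (hYinv : ∀ b ∈ B, ∀ y ∈ Y, b * y * b⁻¹ ∈ Y)
    (hainv : ∀ y ∈ Y, a * y * a⁻¹ = y⁻¹) (hB₀c : ∀ c ∈ B₀, ∀ y ∈ Y, c * y = y * c) :
    B₀ = ⊥ := by
  classical
  have hBA : B ≤ B := le_rfl
  have hYpow : ∀ y ∈ Y, y ^ Nat.card Y = 1 := fun y hy =>
    orderOf_dvd_iff_pow_eq_one.mp (Subgroup.orderOf_dvd_natCard Y hy)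
  have hYsq : ∀ y ∈ Y, ∃ x ∈ Y, x * x = y := by
    intro y hy
    obtain ⟨m, hm⟩ := hYodd
    refine ⟨y ^ (m + 1), pow_mem hy _, ?_⟩
    rw [← pow_add]
    have h1 : m + 1 + (m + 1) = Nat.card Y + 1 := by omega
    rw [h1, pow_succ, hYpow y hy, one_mul]
  have hcardB : Nat.card B = Nat.card B₀ * 2 := by
    rw [card_eq_card_mul_relIndex₂ hB₀B, hidx]
  by_contra hB₀ne
  -- (5a) the fixed points of `B₀` and `B` agree
  have hfixle : fix φ B ≤ fix φ B₀ := fun v hv c hc => hv c (hB₀B hc)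
  have hfixeq : fix φ B = fix φ B₀ := by
    apply Subgroup.eq_of_le_of_card_ge hfixle
    have h1 : ¬ Nat.card V ≤ Nat.card B₀ * Nat.card (fix φ B₀) := by
      intro h
      have h2 := hBmin' B₀ (hB₀B.trans hBA) hB₀ne h
      have h3 : 0 < Nat.card B₀ := Nat.card_pos
      omega
    obtain ⟨k, hk⟩ := Subgroup.card_dvd_of_le hfixle
    have h4 : 0 < Nat.card (fix φ B) := Nat.card_pos
    have h5 : 0 < Nat.card B₀ := Nat.card_pos
    rw [hcardB] at hBoff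
    rw [hk] at h1 ⊢
    push Not at h1
    have h6 : Nat.card B₀ * (Nat.card (fix φ B) * k) < Nat.card B₀ * (2 * Nat.card (fix φ B)) := by
      calc Nat.card B₀ * (Nat.card (fix φ B) * k) < Nat.card V := h1
        _ ≤ Nat.card B₀ * 2 * Nat.card (fix φ B) := hBoff
        _ = Nat.card B₀ * (2 * Nat.card (fix φ B)) := by ring
    have h7 : Nat.card (fix φ B) * k < 2 * Nat.card (fix φ B) := Nat.lt_of_mul_lt_mul_left h6
    have h8 : k < 2 := by
      by_contra hk2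
      push Not at hk2
      have : 2 * Nat.card (fix φ B) ≤ Nat.card (fix φ B) * k := by
        calc 2 * Nat.card (fix φ B) = Nat.card (fix φ B) * 2 := by ring
          _ ≤ Nat.card (fix φ B) * k := Nat.mul_le_mul_left _ hk2
      omega
    have h9 : k ≤ 1 := by omega
    calc Nat.card (fix φ B) * k ≤ Nat.card (fix φ B) * 1 := Nat.mul_le_mul_left _ h9
      _ = Nat.card (fix φ B) := mul_one _
  -- (5b) `Y` normalizes the fixed points
  have hYfix : ∀ y ∈ Y, ∀ v ∈ fix φ B, φ y v ∈ fix φ B := by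
    intro y hy v hv
    rw [hfixeq] at hv ⊢
    intro c hc
    rw [← apply_mul, hB₀c c hc y hy, apply_mul, hv c hc]
  -- (5c) `Y` centralizes the fixed points
  have hYcent : ∀ y ∈ Y, ∀ v ∈ fix φ B, φ y v = v := by
    intro y hy v hv
    obtain ⟨x, hx, rfl⟩ := hYsq y hy
    have h1 : φ a (φ x v) = φ x v := hYfix x hx v hv a haB
    have h2 : a * x = x⁻¹ * a := by
      have := hainv x hx
      calc a * x = (a * x * a⁻¹) * a := by group
        _ = x⁻¹ * a := by rw [this]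
    rw [← apply_mul, h2, apply_mul, hv a haB] at h1
    rw [apply_mul, ← h1, ← apply_mul, mul_inv_cancel, apply_one]
  -- (5d) the norm map
  haveI : Fintype ↥Y := Fintype.ofFinite _
  have hν_y : ∀ y₀ ∈ Y, ∀ v, ∏ y : ↥Y, φ (y : Γ) (φ y₀ v) = ∏ y : ↥Y, φ (y : Γ) v := by
    intro y₀ hy₀ v
    have := Equiv.prod_comp (Equiv.mulRight (⟨y₀, hy₀⟩ : ↥Y)) (fun y : ↥Y => φ (y : Γ) v)
    rw [← this]
    refine Finset.prod_congr rfl (fun y _ => ?_)
    rw [← apply_mul]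
    rfl
  have hν_b : ∀ c ∈ B, ∀ v, ∏ y : ↥Y, φ (y : Γ) (φ c v) = φ c (∏ y : ↥Y, φ (y : Γ) v) := by
    intro c hc v
    let e : ↥Y ≃ ↥Y :=
      { toFun := fun y => ⟨c⁻¹ * y * c, by
          have := hYinv c⁻¹ (inv_mem hc) y y.2
          simpa using this⟩
        invFun := fun y => ⟨c * y * c⁻¹, hYinv c hc y y.2⟩
        left_inv := fun y => Subtype.ext (by simp [mul_assoc])
        right_inv := fun y => Subtype.ext (by simp [mul_assoc]) }
    have := Equiv.prod_comp e (fun y : ↥Y => φ (y : Γ) v)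
    rw [← this, map_prod]
    refine Finset.prod_congr rfl (fun y _ => ?_)
    rw [← apply_mul, ← apply_mul]
    congr 2
    show (y : Γ) * c = c * (c⁻¹ * y * c)
    group
  let K₀ : Subgroup V :=
    { carrier := {v | ∏ y : ↥Y, φ (y : Γ) v = 1}
      mul_mem' := by
        intro v w hv hw
        show ∏ y : ↥Y, φ (y : Γ) (v * w) = 1
        simp only [map_mul]
        rw [Finset.prod_mul_distrib]
        have hv' : ∏ y : ↥Y, φ (y : Γ) v = 1 := hv
        have hw' : ∏ y : ↥Y, φ (y : Γ) w = 1 := hw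
        rw [hv', hw', one_mul]
      one_mem' := by
        show ∏ y : ↥Y, φ (y : Γ) 1 = 1
        simp
      inv_mem' := by
        intro v hv
        show ∏ y : ↥Y, φ (y : Γ) v⁻¹ = 1
        simp only [map_inv]
        have hv' : ∏ y : ↥Y, φ (y : Γ) v = 1 := hv
        rw [Finset.prod_inv_distrib, hv', inv_one] }
  have hK₀mem : ∀ v, v ∈ K₀ ↔ ∏ y : ↥Y, φ (y : Γ) v = 1 := fun v => Iff.rfl
  have hK₀inv : ∀ c ∈ B, ∀ v ∈ K₀, φ c v ∈ K₀ := by
    intro c hc v hv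
    rw [hK₀mem] at hv ⊢
    rw [hν_b c hc, hv, map_one]
  -- (5e) `K₀` is trivial
  have hK₀bot : K₀ = ⊥ := by
    by_contra hK₀ne
    letI : MulAction ↥B ↥K₀ :=
      { smul := fun c w => ⟨φ (c : Γ) w, hK₀inv c c.2 w w.2⟩
        one_smul := fun w => Subtype.ext (by
          show φ ((1 : ↥B) : Γ) (w : V) = w
          rw [Subgroup.coe_one, apply_one])
        mul_smul := fun c d w => Subtype.ext (by
          show φ ((c * d : ↥B) : Γ) (w : V) = φ (c : Γ) (φ (d : Γ) (w : V))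
          rw [Subgroup.coe_mul, apply_mul]) }
    have hB2 : IsPGroup 2 ↥B := by
      intro c
      refine ⟨1, Subtype.ext ?_⟩
      rw [pow_one, pow_two]
      exact hA2 c (hBA c.2)
    have hK2 : IsPGroup 2 ↥K₀ := by
      intro w
      refine ⟨1, Subtype.ext ?_⟩
      rw [pow_one, pow_two]
      exact hV2 w
    have h2 : 2 ∣ Nat.card ↥K₀ := by
      obtain ⟨n, hn⟩ := IsPGroup.iff_card.mp hK2
      have h1 : 1 < Nat.card ↥K₀ := (Subgroup.one_lt_card_iff_ne_bot _).mpr hK₀ne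
      have hn0 : n ≠ 0 := by
        rintro rfl
        rw [hn] at h1
        simp at h1
      rw [hn]
      exact dvd_pow_self 2 hn0
    haveI : Fact (Nat.Prime 2) := ⟨Nat.prime_two⟩
    obtain ⟨w, hwfix, hw1⟩ := hB2.exists_fixed_point_of_prime_dvd_card_of_fixed_point ↥K₀ h2
      (a := (1 : ↥K₀)) (by
        intro c
        exact Subtype.ext (map_one (φ (c : Γ))))
    have hwB : (w : V) ∈ fix φ B := by
      intro c hc
      have := hwfix ⟨c, hc⟩
      exact congrArg Subtype.val this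
    have hwY : ∀ y ∈ Y, φ y (w : V) = w := fun y hy => hYcent y hy _ hwB
    have hνw : ∏ y : ↥Y, φ (y : Γ) (w : V) = (w : V) := by
      have h1 : ∏ y : ↥Y, φ (y : Γ) (w : V) = ∏ _y : ↥Y, (w : V) :=
        Finset.prod_congr rfl (fun y _ => hwY y y.2)
      rw [h1, Finset.prod_const, Finset.card_univ, ← Nat.card_eq_fintype_card]
      exact pow_odd_of_sq (hV2 _) hYodd
    have hw0 : ∏ y : ↥Y, φ (y : Γ) (w : V) = 1 := w.2
    apply hw1
    apply Subtype.ext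
    rw [hνw] at hw0
    exact hw0.symm
  -- (5f) `Y` acts trivially
  have hYtriv : ∀ y ∈ Y, y = 1 := by
    intro y hy
    apply hYinj y hy
    ext v
    rw [MulAut.one_apply]
    have h1 : φ y v * v⁻¹ ∈ K₀ := by
      rw [hK₀mem]
      simp only [map_mul, map_inv]
      rw [Finset.prod_mul_distrib, Finset.prod_inv_distrib, hν_y y hy, mul_inv_cancel]
    rw [hK₀bot, Subgroup.mem_bot] at h1
    exact mul_inv_eq_one.mp h1
  apply hYne
  rw [eq_bot_iff]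
  intro y hy
  rw [Subgroup.mem_bot]
  exact hYtriv y hy

theorem exists_transvection_solvable [Finite Γ] [Finite V] [Group.IsSolvable Γ]
    (hV2 : ∀ v : V, v * v = 1) (φ : Γ →* MulAut V)
    (K : Subgroup Γ) (hKodd : Odd (Nat.card K)) (hKinj : ∀ y ∈ K, φ y = 1 → y = 1)
    (A : Subgroup Γ) (hAK : ∀ a ∈ A, ∀ y ∈ K, a * y * a⁻¹ ∈ K)
    (hAab : ∀ a ∈ A, ∀ b ∈ A, a * b = b * a) (hA2 : ∀ a ∈ A, a * a = 1) (hAne : A ≠ ⊥)
    (hfaith : ∀ a ∈ A, (∀ y ∈ K, a * y = y * a) → a = 1)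
    (hoff : Nat.card V ≤ Nat.card A * Nat.card (fix φ A)) :
    ∃ b y : Γ, b ∈ A ∧ b * b = 1 ∧ y ≠ 1 ∧ y ∈ K ∧ b * y * b⁻¹ = y⁻¹ ∧
      Nat.card V ≤ 2 * Nat.card (fixEl φ b) := by
  classical
  -- Step 1: a minimal offender `B`
  have hne1 : Nonempty {B : Subgroup Γ // B ≤ A ∧ B ≠ ⊥ ∧
      Nat.card V ≤ Nat.card B * Nat.card (fix φ B)} := ⟨⟨A, le_rfl, hAne, hoff⟩⟩
  obtain ⟨⟨B, hBA, hBne, hBoff⟩, hBmin⟩ := Finite.exists_min
    (fun B : {B : Subgroup Γ // B ≤ A ∧ B ≠ ⊥ ∧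
      Nat.card V ≤ Nat.card B * Nat.card (fix φ B)} => Nat.card B.1)
  have hBmin' : ∀ B' : Subgroup Γ, B' ≤ A → B' ≠ ⊥ →
      Nat.card V ≤ Nat.card B' * Nat.card (fix φ B') → Nat.card B ≤ Nat.card B' :=
    fun B' h1 h2 h3 => hBmin ⟨B', h1, h2, h3⟩
  -- Step 2: a minimal `B`-invariant subgroup `Y` of `K` not centralized by `B`
  have hne2 : Nonempty {Y : Subgroup Γ // Y ≤ K ∧ (∀ b ∈ B, ∀ y ∈ Y, b * y * b⁻¹ ∈ Y) ∧
      ∃ b ∈ B, ∃ y ∈ Y, b * y ≠ y * b} := by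
    obtain ⟨b, hb1⟩ := (Subgroup.ne_bot_iff_exists_ne_one).mp hBne
    have hbB' : (b : Γ) ∈ B := b.2
    have h1 : ¬ ∀ y ∈ K, (b : Γ) * y = y * b := fun h =>
      hb1 (Subtype.ext (hfaith b (hBA hbB') h))
    push Not at h1
    obtain ⟨y, hy, hne⟩ := h1
    exact ⟨⟨K, le_rfl, fun b hb y hy => hAK b (hBA hb) y hy, b, hbB', y, hy, hne⟩⟩
  obtain ⟨⟨Y, hYK, hYinv, hYnc⟩, hYmin⟩ := Finite.exists_min
    (fun Y : {Y : Subgroup Γ // Y ≤ K ∧ (∀ b ∈ B, ∀ y ∈ Y, b * y * b⁻¹ ∈ Y) ∧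
      ∃ b ∈ B, ∃ y ∈ Y, b * y ≠ y * b} => Nat.card Y.1)
  have hYmin' : ∀ Y' : Subgroup Γ, Y' ≤ Y → Y' ≠ Y → (∀ b ∈ B, ∀ y ∈ Y', b * y * b⁻¹ ∈ Y') →
      ∀ b ∈ B, ∀ y ∈ Y', b * y = y * b := by
    intro Y' hle hne hinv
    by_contra hcon
    push Not at hcon
    obtain ⟨b, hb, y, hy, hby⟩ := hcon
    have h1 : Nat.card Y ≤ Nat.card Y' := hYmin ⟨Y', hle.trans hYK, hinv, b, hb, y, hy, hby⟩
    exact hne (Subgroup.eq_of_le_of_card_ge hle h1)
  have hYodd : Odd (Nat.card Y) := Odd.of_dvd_nat hKodd (Subgroup.card_dvd_of_le hYK)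
  have hYoddel : ∀ y ∈ Y, Odd (orderOf y) := fun y hy =>
    Odd.of_dvd_nat hYodd (Subgroup.orderOf_dvd_natCard Y hy)
  have hYne : Y ≠ ⊥ := by
    rintro rfl
    obtain ⟨b, hb, y, hy, hne⟩ := hYnc
    rw [Subgroup.mem_bot] at hy
    apply hne
    rw [hy, mul_one, one_mul]
  -- (P1) the commutator subgroup of `Y` is centralized by `B`
  obtain ⟨Yc, hYcdef⟩ : ∃ Yc : Subgroup Γ, Yc = ⁅Y, Y⁆ := ⟨_, rfl⟩
  have hYclt : Yc < Y := hYcdef ▸ Group.IsSolvable.commutator_lt_of_ne_bot hYne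
  have hYcinv : ∀ b ∈ B, ∀ x ∈ Yc, b * x * b⁻¹ ∈ Yc := by
    intro b hb x hx
    rw [hYcdef] at hx ⊢
    have h1 : (⁅Y, Y⁆ : Subgroup Γ).map (MulAut.conj b).toMonoidHom ≤ ⁅Y, Y⁆ := by
      rw [Subgroup.map_commutator]
      have h2 : Y.map (MulAut.conj b).toMonoidHom ≤ Y := by
        rintro _ ⟨y, hy, rfl⟩
        exact hYinv b hb y hy
      exact Subgroup.commutator_mono h2 h2
    exact h1 ⟨x, hx, rfl⟩
  have hYcc : ∀ b ∈ B, ∀ x ∈ Yc, b * x = x * b := hYmin' Yc hYclt.le hYclt.ne hYcinv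
  -- (P4) an element of `Y` fixed by `b` modulo `Yc` is fixed by `b`
  have hP4 : ∀ b ∈ B, ∀ u ∈ Y, u⁻¹ * (b * u * b⁻¹) ∈ Yc → b * u * b⁻¹ = u := by
    intro b hb u hu hc
    obtain ⟨c, hcdef⟩ : ∃ c, c = u⁻¹ * (b * u * b⁻¹) := ⟨_, rfl⟩
    rw [← hcdef] at hc
    have hbb : b * b = 1 := hA2 b (hBA hb)
    have h1 : b * u * b⁻¹ = u * c := by rw [hcdef]; group
    have h2 : b * c * b⁻¹ = c := by rw [hYcc b hb c hc]; group
    have h3 : c * c = 1 := by
      have h0 : b * (b * u * b⁻¹) * b⁻¹ = u := by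
        calc b * (b * u * b⁻¹) * b⁻¹ = (b * b) * u * (b * b)⁻¹ := by group
          _ = u := by rw [hbb]; group
      rw [h1] at h0
      have h4 : b * (u * c) * b⁻¹ = (b * u * b⁻¹) * (b * c * b⁻¹) := by group
      rw [h4, h1, h2] at h0
      calc c * c = u⁻¹ * (u * c * c) := by group
        _ = 1 := by rw [h0]; group
    have hcY : c ∈ Y := hYclt.le hc
    have h5 : c = 1 := eq_one_of_odd_of_pow (hYoddel c hcY) 1 (by rw [pow_one, pow_two]; exact h3)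
    rw [h1, h5, mul_one]
  -- the centralizer `B₀` of `Y` in `B`
  obtain ⟨B₀, hB₀⟩ : ∃ B₀ : Subgroup Γ, B₀ = B ⊓ Subgroup.centralizer (Y : Set Γ) := ⟨_, rfl⟩
  have hB₀mem : ∀ c, c ∈ B₀ ↔ c ∈ B ∧ ∀ y ∈ Y, c * y = y * c := by
    intro c
    rw [hB₀, Subgroup.mem_inf, Subgroup.mem_centralizer_iff]
    constructor
    · rintro ⟨h1, h2⟩
      exact ⟨h1, fun y hy => (h2 y hy).symm⟩
    · rintro ⟨h1, h2⟩
      exact ⟨h1, fun y hy => (h2 y hy).symm⟩
  have hB₀B : B₀ ≤ B := hB₀ ▸ inf_le_left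
  -- (P5) `k * k^b` is centralized by `B` for `b ∉ B₀`
  have hP5 : ∀ b ∈ B, b ∉ B₀ → ∀ k ∈ Y,
      k * (b * k * b⁻¹) ∈ Subgroup.centralizer (B : Set Γ) := by
    intro b hb hb0 k hk
    have hbb : b * b = 1 := hA2 b (hBA hb)
    let Yp : Subgroup Γ :=
      { carrier := {y | y ∈ Y ∧ b * y * b⁻¹ = y}
        mul_mem' := by
          rintro x y ⟨hx, hx'⟩ ⟨hy, hy'⟩
          refine ⟨mul_mem hx hy, ?_⟩
          calc b * (x * y) * b⁻¹ = (b * x * b⁻¹) * (b * y * b⁻¹) := by group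
            _ = x * y := by rw [hx', hy']
        one_mem' := ⟨one_mem _, by group⟩
        inv_mem' := by
          rintro x ⟨hx, hx'⟩
          refine ⟨inv_mem hx, ?_⟩
          calc b * x⁻¹ * b⁻¹ = (b * x * b⁻¹)⁻¹ := by group
            _ = x⁻¹ := by rw [hx'] }
    have hYp_mem : ∀ y, y ∈ Yp ↔ y ∈ Y ∧ b * y * b⁻¹ = y := fun y => Iff.rfl
    have hYpinv : ∀ c ∈ B, ∀ y ∈ Yp, c * y * c⁻¹ ∈ Yp := by
      intro c hc y hy
      rw [hYp_mem] at hy ⊢
      refine ⟨hYinv c hc y hy.1, ?_⟩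
      have hbc : b * c = c * b := hAab b (hBA hb) c (hBA hc)
      calc b * (c * y * c⁻¹) * b⁻¹ = (b * c) * y * (b * c)⁻¹ := by group
        _ = (c * b) * y * (c * b)⁻¹ := by rw [hbc]
        _ = c * (b * y * b⁻¹) * c⁻¹ := by group
        _ = c * y * c⁻¹ := by rw [hy.2]
    have hp : Yp ≠ Y := by
      intro hp
      apply hb0
      rw [hB₀mem]
      refine ⟨hb, fun y hy => ?_⟩
      have h1 : y ∈ Yp := hp ▸ hy
      have h2 := h1.2
      calc b * y = (b * y * b⁻¹) * b := by group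
        _ = y * b := by rw [h2]
    have hcp := hYmin' Yp (fun y hy => hy.1) hp hYpinv
    have hbk : b * k * b⁻¹ ∈ Y := hYinv b hb k hk
    have hu : k * (b * k * b⁻¹) ∈ Yp := by
      refine ⟨mul_mem hk hbk, ?_⟩
      apply hP4 b hb _ (mul_mem hk hbk)
      have e : (k * (b * k * b⁻¹))⁻¹ * (b * (k * (b * k * b⁻¹)) * b⁻¹) =
          ⁅(b * k * b⁻¹)⁻¹, k⁻¹⁆ := by
        rw [commutatorElement_def]
        have e1 : b * (k * (b * k * b⁻¹)) * b⁻¹ = (b * k * b⁻¹) * ((b * b) * k * (b * b)⁻¹) := by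
          group
        rw [e1, hbb]
        group
      rw [e, hYcdef]
      exact Subgroup.commutator_mem_commutator (inv_mem hbk) (inv_mem hk)
    rw [Subgroup.mem_centralizer_iff]
    intro d hd
    exact hcp d hd _ hu
  -- (P6) the product of two elements of `B` outside `B₀` lies in `B₀`
  have hP6 : ∀ b ∈ B, b ∉ B₀ → ∀ c ∈ B, c ∉ B₀ → b * c ∈ B₀ := by
    intro b hb hb0 c hc hc0
    by_contra hbc0
    apply hb0
    rw [hB₀mem]
    refine ⟨hb, ?_⟩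
    have hall : ∀ k ∈ Y, k ∈ Subgroup.centralizer (B : Set Γ) := by
      intro k hk
      have hf1 := hP5 b hb hb0 k hk
      have hf2 := hP5 c hc hc0 k hk
      have hf3 := hP5 (b * c) (mul_mem hb hc) hbc0 k hk
      obtain ⟨f1, hf1d⟩ : ∃ f1, f1 = k * (b * k * b⁻¹) := ⟨_, rfl⟩
      obtain ⟨f2, hf2d⟩ : ∃ f2, f2 = k * (c * k * c⁻¹) := ⟨_, rfl⟩
      rw [← hf1d] at hf1
      rw [← hf2d] at hf2
      have hbk : b * k * b⁻¹ = k⁻¹ * f1 := by rw [hf1d]; group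
      have hck : c * k * c⁻¹ = k⁻¹ * f2 := by rw [hf2d]; group
      have hbf2 : b * f2 * b⁻¹ = f2 := by
        have h0 := (Subgroup.mem_centralizer_iff.mp hf2) b hb
        rw [h0]; group
      have hbf1 : b * f1 * b⁻¹ = f1 := by
        have h0 := (Subgroup.mem_centralizer_iff.mp hf1) b hb
        rw [h0]; group
      have e3 : k * (b * c * k * (b * c)⁻¹) = k * f1⁻¹ * k * f2 := by
        calc k * (b * c * k * (b * c)⁻¹) = k * (b * (c * k * c⁻¹) * b⁻¹) := by group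
          _ = k * (b * (k⁻¹ * f2) * b⁻¹) := by rw [hck]
          _ = k * ((b * k * b⁻¹)⁻¹ * (b * f2 * b⁻¹)) := by group
          _ = k * ((k⁻¹ * f1)⁻¹ * f2) := by rw [hbk, hbf2]
          _ = k * f1⁻¹ * k * f2 := by group
      rw [e3] at hf3
      have hg : k * f1⁻¹ * k ∈ Subgroup.centralizer (B : Set Γ) := by
        have h0 := mul_mem hf3 (inv_mem hf2)
        have e : k * f1⁻¹ * k * f2 * f2⁻¹ = k * f1⁻¹ * k := by group
        rwa [e] at h0
      have hbg : b * (k * f1⁻¹ * k) * b⁻¹ = k * f1⁻¹ * k := by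
        have h0 := (Subgroup.mem_centralizer_iff.mp hg) b hb
        rw [h0]; group
      have e4 : b * (k * f1⁻¹ * k) * b⁻¹ = k⁻¹ * k⁻¹ * f1 := by
        calc b * (k * f1⁻¹ * k) * b⁻¹
            = (b * k * b⁻¹) * (b * f1 * b⁻¹)⁻¹ * (b * k * b⁻¹) := by group
          _ = (k⁻¹ * f1) * f1⁻¹ * (k⁻¹ * f1) := by rw [hbk, hbf1]
          _ = k⁻¹ * k⁻¹ * f1 := by group
      have hkk : k * k ∈ Subgroup.centralizer (B : Set Γ) := by
        have h1 : k * k = f1 * (k * f1⁻¹ * k)⁻¹ := by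
          have h0 : k * f1⁻¹ * k = k⁻¹ * k⁻¹ * f1 := by rw [← e4, hbg]
          rw [h0, mul_inv_rev, mul_inv_rev, inv_inv, ← mul_assoc, ← mul_assoc, mul_inv_cancel,
            one_mul]
        rw [h1]
        exact mul_mem hf1 (inv_mem hg)
      obtain ⟨m, hm⟩ := exists_pow_sq (hYoddel k hk)
      rw [← hm]
      exact pow_mem hkk m
    intro y hy
    exact (Subgroup.mem_centralizer_iff.mp (hall y hy)) b hb
  -- (P7) `B₀` has index two in `B`
  obtain ⟨a, haB, y₀, hy₀, hay₀⟩ := hYnc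
  have haB₀ : a ∉ B₀ := fun h => hay₀ (((hB₀mem a).mp h).2 y₀ hy₀)
  have hidx : B₀.relIndex B = 2 := by
    rw [Subgroup.relIndex_eq_two_iff]
    refine ⟨a, haB, fun c hc => ?_⟩
    by_cases hc0 : c ∈ B₀
    · right
      refine ⟨hc0, fun h => haB₀ ?_⟩
      have : a = c⁻¹ * (c * a) := by group
      rw [this]
      exact mul_mem (inv_mem hc0) h
    · left
      exact ⟨hP6 c hc hc0 a haB haB₀, hc0⟩
  -- (P8) an element inverted by `a`
  obtain ⟨y, hydef⟩ : ∃ y, y = y₀⁻¹ * (a * y₀ * a⁻¹) := ⟨_, rfl⟩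
  have haa : a * a = 1 := hA2 a (hBA haB)
  have hyY : y ∈ Y := by
    rw [hydef]; exact mul_mem (inv_mem hy₀) (hYinv a haB y₀ hy₀)
  have hy1 : y ≠ 1 := by
    intro h
    apply hay₀
    rw [hydef] at h
    have h0 : a * y₀ * a⁻¹ = y₀ := by
      calc a * y₀ * a⁻¹ = y₀ * (y₀⁻¹ * (a * y₀ * a⁻¹)) := by group
        _ = y₀ := by rw [h, mul_one]
    calc a * y₀ = (a * y₀ * a⁻¹) * a := by group
      _ = y₀ * a := by rw [h0]
  have hay : a * y * a⁻¹ = y⁻¹ := by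
    rw [hydef]
    calc a * (y₀⁻¹ * (a * y₀ * a⁻¹)) * a⁻¹
        = (a * y₀ * a⁻¹)⁻¹ * ((a * a) * y₀ * (a * a)⁻¹) := by group
      _ = (a * y₀ * a⁻¹)⁻¹ * y₀ := by rw [haa]; group
      _ = (y₀⁻¹ * (a * y₀ * a⁻¹))⁻¹ := by group
  -- (P9) the cyclic group generated by `y`
  have hZle : Subgroup.zpowers y ≤ Y := by
    rw [Subgroup.zpowers_le]; exact hyY
  have hZodd : Odd (Nat.card (Subgroup.zpowers y)) :=
    Odd.of_dvd_nat hYodd (Subgroup.card_dvd_of_le hZle)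
  have hZinj : ∀ z ∈ Subgroup.zpowers y, φ z = 1 → z = 1 :=
    fun z hz h => hKinj z (hYK (hZle hz)) h
  have hZne : Subgroup.zpowers y ≠ ⊥ := by
    intro h
    apply hy1
    have h0 : y ∈ Subgroup.zpowers y := Subgroup.mem_zpowers y
    rw [h, Subgroup.mem_bot] at h0
    exact h0
  have hZainv : ∀ z ∈ Subgroup.zpowers y, a * z * a⁻¹ = z⁻¹ := by
    intro z hz
    obtain ⟨i, rfl⟩ := Subgroup.mem_zpowers_iff.mp hz
    rw [← conj_zpow, hay, inv_zpow]
  have hZc : ∀ c ∈ B₀, ∀ z ∈ Subgroup.zpowers y, c * z = z * c :=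
    fun c hc z hz => ((hB₀mem c).mp hc).2 z (hZle hz)
  have hZinv : ∀ b ∈ B, ∀ z ∈ Subgroup.zpowers y, b * z * b⁻¹ ∈ Subgroup.zpowers y := by
    intro b hb z hz
    by_cases hb0 : b ∈ B₀
    · have h0 := hZc b hb0 z hz
      have e : b * z * b⁻¹ = z := by rw [h0]; group
      rw [e]; exact hz
    · have hba := hP6 b hb hb0 a haB haB₀
      have h1 := hZc (b * a) hba z⁻¹ (inv_mem hz)
      have h2 := hZainv z hz
      have ainv : a⁻¹ = a := inv_eq_of_mul_eq_one_left haa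
      have e0 : a⁻¹ * z * a = a * z * a⁻¹ := by rw [ainv]
      have e : b * z * b⁻¹ = z⁻¹ := by
        calc b * z * b⁻¹ = (b * a) * (a⁻¹ * z * a) * (b * a)⁻¹ := by group
          _ = (b * a) * z⁻¹ * (b * a)⁻¹ := by rw [e0, h2]
          _ = z⁻¹ := by rw [h1]; group
      rw [e]; exact inv_mem hz
  have hB₀bot := hyperplane_trivial hV2 φ B (fun a ha => hA2 a (hBA ha)) hBoff
    (fun B' h1 h2 h3 => hBmin' B' (h1.trans hBA) h2 h3) B₀ hB₀B hidx a haB
    (Subgroup.zpowers y) hZodd hZinj hZne hZinv hZainv hZc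
  refine ⟨a, y, hBA haB, haa, hy1, hYK hyY, hay, ?_⟩
  have hcardB : Nat.card B = Nat.card B₀ * 2 := by
    rw [card_eq_card_mul_relIndex₂ hB₀B, hidx]
  have h1 : Nat.card B = 2 := by
    rw [hcardB, hB₀bot, Subgroup.card_bot]
  have h2 : fix φ B ≤ fixEl φ a := fun v hv => hv a haB
  calc Nat.card V ≤ Nat.card B * Nat.card (fix φ B) := hBoff
    _ = 2 * Nat.card (fix φ B) := by rw [h1]
    _ ≤ 2 * Nat.card (fixEl φ a) := Nat.mul_le_mul_left _ (Subgroup.card_le_of_le h2)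

end Cfsg.Agent.Lib.Helper2.Offender2
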