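import Mathlib
import Cfsg.Agent.Lib.Helper1.PDStmt

set_option autoImplicit false

/-! S4020 piece NONAB3: a nonabelian `p`-group of exponent `p` has a nonabelian subgroup of order
`p³`. -/

namespace Cfsg.Agent.Lib.Helper2.PDNONAB3

open Cfsg.Agent.Lib.Helper1.PDStmt

universe u

theorem rel {X : Type u} [Group X] (x y c : X) (hxy : x * y = c * y * x) (hcx : Commute c x)
    (hcy : Commute c y) (i j : ℕ) : x ^ i * y ^ j = c ^ (j * i) * y ^ j * x ^ i := by
  have h₂ : x * y ^ j = c ^ j * y ^ j * x := by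
    have h := SemiconjBy.pow_right (show SemiconjBy x y (c * y) from hxy) j
    rw [hcy.mul_pow] at h
    exact h.eq
  induction i with
  | zero => simp
  | succ i ih =>
    have e : x * c ^ (j * i) = c ^ (j * i) * x := ((hcx.pow_left (j * i)).eq).symm
    calc x ^ (i + 1) * y ^ j = x * (x ^ i * y ^ j) := by rw [pow_succ', mul_assoc]
      _ = x * (c ^ (j * i) * y ^ j * x ^ i) := by rw [ih]
      _ = (x * c ^ (j * i)) * y ^ j * x ^ i := by simp only [mul_assoc]
      _ = c ^ (j * i) * (x * y ^ j) * x ^ i := by rw [e]; simp only [mul_assoc]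
      _ = c ^ (j * i) * (c ^ j * y ^ j * x) * x ^ i := by rw [h₂]
      _ = c ^ (j * (i + 1)) * y ^ j * x ^ (i + 1) := by
          rw [Nat.mul_succ, pow_add, pow_succ' x i]; simp only [mul_assoc]

theorem card_le {X : Type u} [Group X] (p : ℕ) (hp : 0 < p) (x y c : X)
    (hxy : x * y = c * y * x) (hcx : Commute c x) (hcy : Commute c y)
    (hx : x ^ p = 1) (hy : y ^ p = 1) (hcp : c ^ p = 1) :
    Nat.card (Subgroup.closure ({x, y} : Set X)) ≤ p ^ 3 := by
  classical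
  let N : X → Prop := fun g => ∃ i j k : ℕ, g = c ^ k * y ^ j * x ^ i
  have mulN : ∀ g g', N g → N g' → N (g * g') := by
    rintro g g' ⟨i, j, k, rfl⟩ ⟨i', j', k', rfl⟩
    refine ⟨i + i', j + j', k + k' + j' * i, ?_⟩
    have e1 : x ^ i * c ^ k' = c ^ k' * x ^ i := ((hcx.pow_pow k' i).eq).symm
    have e2 : y ^ j * c ^ k' = c ^ k' * y ^ j := ((hcy.pow_pow k' j).eq).symm
    have e3 := rel x y c hxy hcx hcy i j'
    have e4 : y ^ j * c ^ (j' * i) = c ^ (j' * i) * y ^ j := ((hcy.pow_pow (j' * i) j).eq).symm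
    calc c ^ k * y ^ j * x ^ i * (c ^ k' * y ^ j' * x ^ i')
        = c ^ k * y ^ j * (x ^ i * c ^ k') * y ^ j' * x ^ i' := by simp only [mul_assoc]
      _ = c ^ k * (y ^ j * c ^ k') * (x ^ i * y ^ j') * x ^ i' := by
          rw [e1]; simp only [mul_assoc]
      _ = c ^ k * (c ^ k' * y ^ j) * (c ^ (j' * i) * y ^ j' * x ^ i) * x ^ i' := by rw [e2, e3]
      _ = c ^ k * c ^ k' * (y ^ j * c ^ (j' * i)) * y ^ j' * x ^ i * x ^ i' := by
          simp only [mul_assoc]
      _ = c ^ k * c ^ k' * c ^ (j' * i) * (y ^ j * y ^ j') * (x ^ i * x ^ i') := by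
          rw [e4]; simp only [mul_assoc]
      _ = c ^ (k + k' + j' * i) * y ^ (j + j') * x ^ (i + i') := by
          rw [← pow_add, ← pow_add, ← pow_add, ← pow_add]
  have hNx : N x := ⟨1, 0, 0, by simp⟩
  have hNy : N y := ⟨0, 1, 0, by simp⟩
  have hNc : ∀ k, N (c ^ k) := fun k => ⟨0, 0, k, by simp⟩
  have hNxp : ∀ i, N (x ^ i) := fun i => ⟨i, 0, 0, by simp⟩
  have hNyp : ∀ j, N (y ^ j) := fun j => ⟨0, j, 0, by simp⟩
  have invp : ∀ (a : X), a ^ p = 1 → ∀ n : ℕ, (a ^ n)⁻¹ = a ^ ((p - 1) * n) := by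
    intro a ha n
    have h1 : a⁻¹ = a ^ (p - 1) := by
      apply inv_eq_of_mul_eq_one_right
      rw [← pow_succ', Nat.sub_add_cancel hp, ha]
    rw [← inv_pow, h1, ← pow_mul]
  have hmem : ∀ g ∈ Subgroup.closure ({x, y} : Set X), N g := by
    intro g hg
    induction hg using Subgroup.closure_induction with
    | mem g hg =>
      rcases hg with rfl | rfl
      · exact hNx
      · exact hNy
    | one => exact ⟨0, 0, 0, by simp⟩
    | mul g g' _ _ ih ih' => exact mulN g g' ih ih'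
    | inv g _ ih =>
      obtain ⟨i, j, k, rfl⟩ := ih
      have e : (c ^ k * y ^ j * x ^ i)⁻¹
          = x ^ ((p - 1) * i) * y ^ ((p - 1) * j) * c ^ ((p - 1) * k) := by
        rw [mul_inv_rev, mul_inv_rev, invp x hx, invp y hy, invp c hcp, mul_assoc]
      rw [e]
      exact mulN _ _ (mulN _ _ (hNxp _) (hNyp _)) (hNc _)
  let f : Fin p × Fin p × Fin p → X :=
    fun t => c ^ (t.1 : ℕ) * y ^ (t.2.1 : ℕ) * x ^ (t.2.2 : ℕ)
  have hsub : ((Subgroup.closure ({x, y} : Set X) : Subgroup X) : Set X)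
      ⊆ ↑(Finset.image f Finset.univ) := by
    intro g hg
    obtain ⟨i, j, k, rfl⟩ := hmem g hg
    rw [Finset.mem_coe, Finset.mem_image]
    refine ⟨(⟨k % p, Nat.mod_lt _ hp⟩, ⟨j % p, Nat.mod_lt _ hp⟩, ⟨i % p, Nat.mod_lt _ hp⟩),
      Finset.mem_univ _, ?_⟩
    show c ^ (k % p) * y ^ (j % p) * x ^ (i % p) = _
    rw [← pow_eq_pow_mod k hcp, ← pow_eq_pow_mod j hy, ← pow_eq_pow_mod i hx]
  calc Nat.card (Subgroup.closure ({x, y} : Set X))
      = ((Subgroup.closure ({x, y} : Set X) : Subgroup X) : Set X).ncard :=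
        (Nat.card_coe_set_eq _).symm
    _ ≤ (↑(Finset.image f Finset.univ) : Set X).ncard :=
        Set.ncard_le_ncard hsub (Finset.finite_toSet _)
    _ = (Finset.image f Finset.univ).card := Set.ncard_coe_finset _
    _ ≤ (Finset.univ : Finset (Fin p × Fin p × Fin p)).card := Finset.card_image_le
    _ = p ^ 3 := by simp [Finset.card_univ]; ring

theorem main : NonAb3.{u} := by
  intro X _ _ p _ P hP hexp hnab
  have hp : p.Prime := Fact.out
  obtain ⟨a, ha, b, hb, hab⟩ := hnab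
  have hZ : Subgroup.center ↥P ≠ ⊤ := by
    intro h
    have h1 : (⟨a, ha⟩ : ↥P) ∈ Subgroup.center ↥P := by rw [h]; trivial
    have h2 := Subgroup.mem_center_iff.1 h1 ⟨b, hb⟩
    apply hab
    have h3 := congrArg Subtype.val h2
    exact h3.symm
  haveI : Nontrivial (↥P ⧸ Subgroup.center ↥P) := by
    rw [← Finite.one_lt_card_iff_nontrivial]
    have h1 : Nat.card (↥P ⧸ Subgroup.center ↥P) = (Subgroup.center ↥P).index := rfl
    have h2 : (Subgroup.center ↥P).index ≠ 1 := fun h => hZ (Subgroup.index_eq_one.1 h)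
    have h3 : (Subgroup.center ↥P).index ≠ 0 := Subgroup.index_ne_zero_of_finite
    omega
  have hPq : IsPGroup p (↥P ⧸ Subgroup.center ↥P) := hP.to_quotient _
  haveI := hPq.center_nontrivial
  obtain ⟨⟨xb, hxb⟩, hxb1⟩ := exists_ne (1 : Subgroup.center (↥P ⧸ Subgroup.center ↥P))
  obtain ⟨x₀, rfl⟩ := QuotientGroup.mk_surjective xb
  have hx₀ : x₀ ∉ Subgroup.center ↥P := by
    intro h
    apply hxb1
    ext
    exact (QuotientGroup.eq_one_iff x₀).2 h
  have hcomm : ∀ y₀ : ↥P, x₀ * y₀ * x₀⁻¹ * y₀⁻¹ ∈ Subgroup.center ↥P := by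
    intro y₀
    rw [← QuotientGroup.eq_one_iff]
    have h := Subgroup.mem_center_iff.1 hxb (QuotientGroup.mk y₀)
    simp only [QuotientGroup.mk_mul, QuotientGroup.mk_inv]
    rw [← h]
    group
  obtain ⟨y₀, hy₀⟩ : ∃ y₀ : ↥P, y₀ * x₀ ≠ x₀ * y₀ := by
    by_contra h
    push Not at h
    exact hx₀ (Subgroup.mem_center_iff.2 h)
  obtain ⟨c₀, hc₀⟩ : ∃ c₀ : ↥P, c₀ = x₀ * y₀ * x₀⁻¹ * y₀⁻¹ := ⟨_, rfl⟩
  have hc₀Z : c₀ ∈ Subgroup.center ↥P := by rw [hc₀]; exact hcomm y₀
  have hxy₀ : x₀ * y₀ = c₀ * y₀ * x₀ := by rw [hc₀]; group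
  have hxy : (x₀ : X) * (y₀ : X) = (c₀ : X) * (y₀ : X) * (x₀ : X) := congrArg Subtype.val hxy₀
  have hcx : Commute (c₀ : X) (x₀ : X) := by
    have h := Subgroup.mem_center_iff.1 hc₀Z x₀
    exact (congrArg Subtype.val h).symm
  have hcy : Commute (c₀ : X) (y₀ : X) := by
    have h := Subgroup.mem_center_iff.1 hc₀Z y₀
    exact (congrArg Subtype.val h).symm
  have hle := card_le p hp.pos (x₀ : X) (y₀ : X) (c₀ : X) hxy hcx hcy (hexp _ x₀.2)
    (hexp _ y₀.2) (hexp _ c₀.2)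
  obtain ⟨H, hH⟩ : ∃ H : Subgroup X, H = Subgroup.closure ({(x₀ : X), (y₀ : X)} : Set X) :=
    ⟨_, rfl⟩
  rw [← hH] at hle
  have hHP : H ≤ P := by
    rw [hH, Subgroup.closure_le]
    rintro g (rfl | rfl)
    · exact x₀.2
    · exact y₀.2
  have hxH : (x₀ : X) ∈ H := by rw [hH]; exact Subgroup.subset_closure (by simp)
  have hyH : (y₀ : X) ∈ H := by rw [hH]; exact Subgroup.subset_closure (by simp)
  have hne : (x₀ : X) * (y₀ : X) ≠ (y₀ : X) * (x₀ : X) := by
    intro h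
    apply hy₀
    exact Subtype.ext h.symm
  have hHp : IsPGroup p ↥H := hP.to_le hHP
  obtain ⟨n, hn⟩ := IsPGroup.iff_card.1 hHp
  have hn3 : n ≤ 3 := by
    rw [hn] at hle
    exact (Nat.pow_le_pow_iff_right hp.one_lt).1 hle
  have hn3' : 3 ≤ n := by
    by_contra hlt
    push Not at hlt
    apply hne
    have hcommH : ∀ u v : ↥H, u * v = v * u := by
      interval_cases n
      · haveI : Subsingleton ↥H := (Nat.card_eq_one_iff_unique.1 (by simpa using hn)).1
        intro u v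
        exact Subsingleton.elim _ _
      · haveI : IsCyclic ↥H := isCyclic_of_prime_card (p := p) (by simpa using hn)
        obtain ⟨g, hg⟩ := IsCyclic.exists_generator (α := ↥H)
        intro u v
        obtain ⟨s, rfl⟩ := hg u
        obtain ⟨t, rfl⟩ := hg v
        exact zpow_mul_comm g s t
      · exact IsPGroup.commutative_of_card_eq_prime_sq hn
    exact congrArg Subtype.val (hcommH ⟨_, hxH⟩ ⟨_, hyH⟩)
  have hn' : n = 3 := le_antisymm hn3 hn3'
  exact ⟨H, hHP, by rw [hn, hn'], _, hxH, _, hyH, hne⟩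

end Cfsg.Agent.Lib.Helper2.PDNONAB3
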