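import Cfsg.Agent.Lib.Helper11.QuadSylow
import Cfsg.Agent.Lib.Helper11.QuadSolv
import Cfsg.Prelude.Def_PLocal
import Mathlib

/-! `p`-stability on a normal elementary abelian `p`-subgroup, in the internal form
(`G / C_G(V)` acting on `V`): a quadratic element outside `O_p(G / C_G(V))` produces a section
of `G` isomorphic to `SL₂(p)` (`p` odd).  Also: finite solvable groups have a `PChain`. -/

open Cfsg

set_option autoImplicit false
set_option linter.unusedSectionVars false
set_option linter.unusedVariables false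

namespace Cfsg.Agent.Lib.Helper2.QStable

open Cfsg.Agent.Lib.Helper11.Dickson Cfsg.Agent.Lib.Helper11.QuadPair
open Cfsg.Agent.Lib.Helper11.QuadBridge Cfsg.Agent.Lib.Helper11.QuadSylow
open Cfsg.Agent.Lib.Helper11.QuadSolv
open scoped commutatorElement

/-- A quadratic element of `G` on a normal elementary abelian `p`-subgroup `V` whose image is
not in `O_p(G / C_G(V))` yields a section of `G` isomorphic to `SL₂(p)`. -/
theorem exists_section_of_not_stable {G : Type*} [Group G] [Finite G] {p : ℕ} [Fact p.Prime]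
    (hp : p ≠ 2) (V : Subgroup G) [hVn : V.Normal] (hV : Cfsg.IsElementaryAbelian p V) (a : G)
    (hq : ⁅⁅V, Subgroup.zpowers a⁆, Subgroup.zpowers a⁆ = ⊥)
    (hna : (QuotientGroup.mk a : G ⧸ Subgroup.centralizer (V : Set G)) ∉
      Cfsg.pCore p (G ⧸ Subgroup.centralizer (V : Set G))) :
    ∃ (K L : Subgroup G) (hL : (L.subgroupOf K).Normal),
      Nonempty ((K ⧸ L.subgroupOf K) ≃* Matrix.SpecialLinearGroup (Fin 2) (ZMod p)) := by
  classical
  set C := Subgroup.centralizer (V : Set G) with hC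
  haveI hCn : C.Normal := Subgroup.normal_centralizer
  set ā : G ⧸ C := QuotientGroup.mk a with hā
  let S : Set (G ⧸ C) := Group.conjugatesOfSet {ā}
  have hS : ∀ (g y : G ⧸ C), y ∈ S → g * y * g⁻¹ ∈ S := fun g y hy =>
    Group.conj_mem_conjugatesOfSet hy
  have hSmem : ∀ y ∈ S, ∃ g : G ⧸ C, g * ā * g⁻¹ = y := by
    intro y hy
    rw [Group.mem_conjugatesOfSet_iff] at hy
    obtain ⟨a', ha', hc⟩ := hy
    rw [Set.mem_singleton_iff] at ha'
    subst ha'
    exact isConj_iff.mp hc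
  have hpair : ¬ ∀ y₁ ∈ S, ∀ y₂ ∈ S, IsPGroup p (Subgroup.closure ({y₁, y₂} : Set (G ⧸ C))) := by
    intro hall
    have h1 : IsPGroup p (Subgroup.closure S) :=
      Cfsg.Agent.Lib.Helper67.BaerSuzuki.isPGroup_closure S hS hall
    have h2 : (Subgroup.closure S).Normal := by
      show (Subgroup.normalClosure ({ā} : Set (G ⧸ C))).Normal
      exact Subgroup.normalClosure_normal
    have h3 : Subgroup.closure S ≤ Cfsg.pCore p (G ⧸ C) := le_sSup ⟨h2, h1⟩
    exact hna (h3 (Subgroup.subset_closure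
      (Group.subset_conjugatesOfSet (Set.mem_singleton ā))))
  push Not at hpair
  obtain ⟨y₁, hy₁, y₂, hy₂, hnp⟩ := hpair
  obtain ⟨g₁, hg₁⟩ := hSmem y₁ hy₁
  obtain ⟨g₂, hg₂⟩ := hSmem y₂ hy₂
  obtain ⟨h₁, rfl⟩ := QuotientGroup.mk_surjective g₁
  obtain ⟨h₂, rfl⟩ := QuotientGroup.mk_surjective g₂
  have hb₁ : (QuotientGroup.mk (h₁ * a * h₁⁻¹) : G ⧸ C) = y₁ := by
    rw [← hg₁]; rfl
  have hb₂ : (QuotientGroup.mk (h₂ * a * h₂⁻¹) : G ⧸ C) = y₂ := by
    rw [← hg₂]; rfl
  have hnorm : ∀ g : G, g ∈ Subgroup.normalizer (V : Set G) := by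
    intro g
    rw [Subgroup.normalizer_eq_top]
    exact Subgroup.mem_top g
  have hq₁ := quad_conj V h₁ a (hnorm h₁) hq
  have hq₂ := quad_conj V h₂ a (hnorm h₂) hq
  -- the action of the quotient on `V`
  let φ₀ : G ⧸ C →* MulAut ↥V := QuotientGroup.lift C (MulAut.conjNormal (H := V)) (by
    intro c hc
    ext v
    have h1 := Subgroup.mem_centralizer_iff.mp hc v v.2
    show c * v * c⁻¹ = v
    rw [← h1]; simp)
  have hφ₀ : ∀ (g : G) (v : ↥V), ((φ₀ (QuotientGroup.mk g) v : ↥V) : G) = g * v * g⁻¹ :=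
    fun g v => rfl
  have hφ₀inj : Function.Injective φ₀ := by
    rw [injective_iff_map_eq_one]
    intro x hx
    obtain ⟨g, rfl⟩ := QuotientGroup.mk_surjective x
    rw [QuotientGroup.eq_one_iff, Subgroup.mem_centralizer_iff]
    intro v hv
    have h2 := hφ₀ g ⟨v, hv⟩
    rw [hx] at h2
    have h3 : v = g * v * g⁻¹ := h2
    calc v * g = (g * v * g⁻¹) * g := by rw [← h3]
      _ = g * v := by group
  set N : Subgroup (G ⧸ C) := Subgroup.closure {y₁, y₂} with hN
  have hy₁N : y₁ ∈ N := Subgroup.subset_closure (Set.mem_insert _ _)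
  have hy₂N : y₂ ∈ N :=
    Subgroup.subset_closure (Set.mem_insert_of_mem _ (Set.mem_singleton _))
  have hVc : ∀ x y : ↥V, x * y = y * x := fun x y => by
    have := hV.1
    exact Subtype.ext (setLike_mul_comm x.2 y.2)
  let i1 : CommGroup ↥V := { (inferInstance : Group ↥V) with mul_comm := hVc }
  let i2 : Module (ZMod p) (Additive ↥V) := AddCommGroup.zmodModule (n := p) (fun x => by
    show Additive.ofMul ((Additive.toMul x) ^ p) = 0
    have h1 : (Additive.toMul x) ^ p = 1 := by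
      apply Subtype.ext
      rw [Subgroup.coe_pow]
      exact hV.2 _ (Additive.toMul x).2
    rw [h1]
    rfl)
  let θ : ↥N →* MulAut ↥V := φ₀.comp N.subtype
  have hθ : Function.Injective θ := hφ₀inj.comp N.subtype_injective
  have hgen : Subgroup.closure {(⟨y₁, hy₁N⟩ : ↥N), ⟨y₂, hy₂N⟩} = (⊤ : Subgroup ↥N) := by
    apply Subgroup.map_injective N.subtype_injective
    rw [MonoidHom.map_closure, Set.image_pair, ← MonoidHom.range_eq_map, Subgroup.range_subtype]
    rfl
  have hquad₁ : ∀ w : ↥V, θ ⟨y₁, hy₁N⟩ (θ ⟨y₁, hy₁N⟩ w / w) = θ ⟨y₁, hy₁N⟩ w / w := by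
    intro w
    have e1 : ∀ u : ↥V, ((θ ⟨y₁, hy₁N⟩ u : ↥V) : G)
        = (h₁ * a * h₁⁻¹) * u * (h₁ * a * h₁⁻¹)⁻¹ := by
      intro u
      show ((φ₀ y₁ u : ↥V) : G) = _
      rw [← hb₁]
      exact hφ₀ _ u
    apply Subtype.ext
    rw [e1, Subgroup.coe_div, e1, div_eq_mul_inv]
    exact quad_comm V _ hq₁ _ w.2
  have hquad₂ : ∀ w : ↥V, θ ⟨y₂, hy₂N⟩ (θ ⟨y₂, hy₂N⟩ w / w) = θ ⟨y₂, hy₂N⟩ w / w := by
    intro w
    have e1 : ∀ u : ↥V, ((θ ⟨y₂, hy₂N⟩ u : ↥V) : G)
        = (h₂ * a * h₂⁻¹) * u * (h₂ * a * h₂⁻¹)⁻¹ := by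
      intro u
      show ((φ₀ y₂ u : ↥V) : G) = _
      rw [← hb₂]
      exact hφ₀ _ u
    apply Subtype.ext
    rw [e1, Subgroup.coe_div, e1, div_eq_mul_inv]
    exact quad_comm V _ hq₂ _ w.2
  have hnpN : ¬ IsPGroup p ↥N := hnp
  obtain ⟨K, iK, fK, cK, lam, φ, hlam, hφa, hφb⟩ :=
    @exists_hom_aux p _ ↥N _ ↥V i1 _ i2 θ hθ ⟨y₁, hy₁N⟩ ⟨y₂, hy₂N⟩ hgen hquad₁ hquad₂ hnpN
  obtain ⟨ψ, hψ, hψr⟩ := exists_embedding (K := K) (p := p) hp lam hlam
  let Ñ : Subgroup G := N.comap (QuotientGroup.mk' C)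
  let Φ : ↥Ñ →* Matrix.SpecialLinearGroup (Fin 2) K :=
    φ.comp ((QuotientGroup.mk' C).subgroupComap N)
  have hm₁ : h₁ * a * h₁⁻¹ ∈ Ñ := by
    show (QuotientGroup.mk (h₁ * a * h₁⁻¹) : G ⧸ C) ∈ N
    rw [hb₁]; exact hy₁N
  have hm₂ : h₂ * a * h₂⁻¹ ∈ Ñ := by
    show (QuotientGroup.mk (h₂ * a * h₂⁻¹) : G ⧸ C) ∈ N
    rw [hb₂]; exact hy₂N
  have hle : L lam ≤ Φ.range := by
    unfold L
    rw [Subgroup.closure_le]
    rintro x (rfl | rfl)
    · refine ⟨⟨_, hm₁⟩, ?_⟩
      rw [← hφa]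
      show φ _ = φ _
      congr 1
      exact Subtype.ext hb₁
    · refine ⟨⟨_, hm₂⟩, ?_⟩
      rw [← hφb]
      show φ _ = φ _
      congr 1
      exact Subtype.ext hb₂
  obtain ⟨K', L', hL', -, hiso⟩ := exists_section Ñ Φ ψ hψ (hψr.trans hle)
  exact ⟨K', L', hL', hiso⟩

/-- A finite solvable group has a `PChain` for every prime. -/
theorem pChain_of_isSolvable_aux.{u} (p : ℕ) [Fact p.Prime] :
    ∀ (n : ℕ) (H : Type u) [Group H] [Finite H] [Group.IsSolvable H],
      Nat.card H = n → PChain p H := by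
  intro n
  induction n using Nat.strong_induction_on with
  | _ n ih =>
    intro H _ _ _ hcard
    by_cases htriv : (⊤ : Subgroup H) = ⊥
    · exact ⟨0, fun _ => ⊤, htriv, rfl, fun _ => inferInstance,
        fun _ => ⟨1, Or.inl ⟨0, by simp⟩, fun x _ => Subgroup.mem_top _⟩⟩
    -- the last nontrivial term of the derived series
    obtain ⟨d, hd⟩ := (Group.IsSolvable.solvable (G := H))
    classical
    have hex : ∃ k, derivedSeries H k = ⊥ := ⟨d, hd⟩
    set k := Nat.find hex with hk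
    have hk0 : k ≠ 0 := by
      intro h0
      have h1 := Nat.find_spec hex
      rw [← hk, h0, derivedSeries_zero] at h1
      exact htriv h1
    obtain ⟨j, hj⟩ := Nat.exists_eq_succ_of_ne_zero hk0
    set A := derivedSeries H j with hA
    have hAne : A ≠ ⊥ := by
      have := Nat.find_min hex (m := j) (by omega)
      exact this
    have hAA : ⁅A, A⁆ = ⊥ := by
      have h1 := Nat.find_spec hex
      rw [← hk, hj, derivedSeries_succ] at h1
      exact h1
    have hAn : A.Normal := inferInstance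
    have hAcomm : ∀ x ∈ A, ∀ y ∈ A, x * y = y * x := by
      intro x hx y hy
      have h1 : ⁅x, y⁆ ∈ ⁅A, A⁆ := Subgroup.commutator_mem_commutator hx hy
      rw [hAA, Subgroup.mem_bot] at h1
      exact (commutatorElement_eq_one_iff_mul_comm.mp h1)
    -- the quotient
    have hlt : Nat.card (H ⧸ A) < n := by
      rw [← hcard, ← Subgroup.index_eq_card, ← Subgroup.card_mul_index A]
      have h1 : 1 < Nat.card A := by
        rw [Subgroup.one_lt_card_iff_ne_bot]; exact hAne
      have h2 : 0 < A.index := Nat.pos_of_ne_zero Subgroup.index_ne_zero_of_finite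
      nlinarith
    obtain ⟨m, Kb, hKb0, hKbm, hKbn, hKbs⟩ := ih _ hlt (H ⧸ A) rfl
    -- |H| = p^s * t
    have hpos : Nat.card H ≠ 0 := Nat.card_pos.ne'
    obtain ⟨s, t, ht, hst⟩ := Nat.exists_eq_pow_mul_and_not_dvd hpos p
      (Fact.out : p.Prime).ne_one
    have htc : t.Coprime p :=
      (Nat.Coprime.symm ((Nat.Prime.coprime_iff_not_dvd Fact.out).mpr ht))
    -- the subgroup of `t`-th powers of `A`
    let At : Subgroup H :=
      { carrier := {y | ∃ x ∈ A, x ^ t = y}
        one_mem' := ⟨1, A.one_mem, one_pow t⟩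
        mul_mem' := by
          rintro _ _ ⟨x, hx, rfl⟩ ⟨y, hy, rfl⟩
          refine ⟨x * y, A.mul_mem hx hy, ?_⟩
          exact (Commute.mul_pow (hAcomm x hx y hy) t)
        inv_mem' := by
          rintro _ ⟨x, hx, rfl⟩
          exact ⟨x⁻¹, A.inv_mem hx, inv_pow x t⟩ }
    have hAtn : At.Normal := by
      constructor
      rintro _ ⟨x, hx, rfl⟩ g
      exact ⟨g * x * g⁻¹, hAn.conj_mem x hx g, by rw [conj_pow]⟩
    refine ⟨m + 2, fun i => if i = 0 then ⊥ else if i = 1 then At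
      else (Kb (i - 2)).comap (QuotientGroup.mk' A), by simp, ?_, ?_, ?_⟩
    · have h1 : m + 2 ≠ 0 := by omega
      have h2 : m + 2 ≠ 1 := by omega
      simp only [h1, h2, if_false]
      rw [show m + 2 - 2 = m by omega, hKbm, Subgroup.comap_top]
    · intro i
      by_cases h0 : i = 0
      · simp only [h0, if_true]; infer_instance
      · by_cases h1 : i = 1
        · simp only [h1, if_true]
          simpa using hAtn
        · simp only [h0, h1, if_false]
          exact (hKbn _).comap _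
    · intro i
      by_cases h0 : i = 0
      · subst h0
        refine ⟨p ^ s, Or.inl ⟨s, rfl⟩, ?_⟩
        simp only [zero_add, if_true]
        have h10 : (1 : ℕ) ≠ 0 := by omega
        simp only [h10, if_false]
        rintro _ ⟨x, hx, rfl⟩
        rw [Subgroup.mem_bot, ← pow_mul, mul_comm, ← hst]
        exact pow_card_eq_one'
      · by_cases h1 : i = 1
        · subst h1
          refine ⟨t, Or.inr htc, ?_⟩
          have h20 : (1 + 1 : ℕ) ≠ 0 := by omega
          have h21 : (1 + 1 : ℕ) ≠ 1 := by omega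
          have h10 : (1 : ℕ) ≠ 0 := by omega
          simp only [h20, h21, h10, if_false, if_true]
          intro x hx
          have hxA : x ∈ A := by
            have h3 : (QuotientGroup.mk' A x) ∈ Kb 0 := hx
            rw [hKb0, Subgroup.mem_bot] at h3
            exact (QuotientGroup.eq_one_iff x).mp h3
          exact ⟨x, hxA, rfl⟩
        · obtain ⟨r, hr, hpow⟩ := hKbs (i - 2)
          refine ⟨r, hr, ?_⟩
          have h30 : i + 1 ≠ 0 := by omega
          have h31 : i + 1 ≠ 1 := by omega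
          simp only [h0, h1, h30, h31, if_false]
          intro x hx
          have h4 : (QuotientGroup.mk' A x) ∈ Kb (i - 2 + 1) := by
            have : i + 1 - 2 = i - 2 + 1 := by omega
            rw [← this]; exact hx
          have h5 := hpow _ h4
          show (QuotientGroup.mk' A (x ^ r)) ∈ Kb (i - 2)
          rw [map_pow]; exact h5

/-- A finite solvable group has a `PChain` for every prime. -/
theorem pChain_of_isSolvable (p : ℕ) [Fact p.Prime] (H : Type*) [Group H] [Finite H]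
    [Group.IsSolvable H] : PChain p H :=
  pChain_of_isSolvable_aux p _ H rfl

end Cfsg.Agent.Lib.Helper2.QStable
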