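import Cfsg.Agent.Lib.Helper18.R59Stmt2

set_option autoImplicit false

namespace Cfsg.Agent.Lib.Helper2.R59NO3

universe u

theorem main : Cfsg.Agent.Lib.Helper18.R59Stmt2.NO3.{u} := by
  intro G _ _ P₀ B p hp hTI hN hB a ha x hxa ⟨k, hk⟩
  by_contra hx1
  have : Fact (Nat.Prime 3) := ⟨Nat.prime_three⟩
  have hpg : IsPGroup 3 (Subgroup.zpowers x) := by
    rintro ⟨y, hy⟩
    obtain ⟨n, rfl⟩ := Subgroup.mem_zpowers_iff.mp hy
    refine ⟨k, ?_⟩
    apply Subtype.ext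
    simp only [Subgroup.coe_pow, Subgroup.coe_one]
    rw [← zpow_natCast, ← zpow_mul, mul_comm, zpow_mul, zpow_natCast, hk, one_zpow]
  obtain ⟨Q, hQ⟩ := hpg.exists_le_sylow
  have hxQ : x ∈ (Q : Subgroup G) := hQ (Subgroup.mem_zpowers x)
  have hxaQ : x ∈ ((a • Q : Sylow 3 G) : Subgroup G) := by
    rw [Sylow.coe_subgroup_smul]
    have h := Subgroup.smul_mem_pointwise_smul x (MulAut.conj a) (Q : Subgroup G) hxQ
    have e : MulAut.conj a • x = x := by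
      rw [MulAut.smul_def, MulAut.conj_apply, ← hxa]; group
    rwa [e] at h
  have haQ : a • Q = Q := by
    by_contra hne
    have h := hTI (a • Q) Q hne
    have hx : x ∈ ((a • Q : Sylow 3 G) : Subgroup G) ⊓ (Q : Subgroup G) := ⟨hxaQ, hxQ⟩
    rw [h] at hx
    exact hx1 (Subgroup.mem_bot.mp hx)
  obtain ⟨g, hg⟩ := MulAction.exists_smul_eq G P₀ Q
  have hb : (g⁻¹ * a * g) • P₀ = P₀ := by
    rw [mul_smul, mul_smul, hg, haQ, ← hg, inv_smul_smul]
  have hbN : g⁻¹ * a * g ∈ Subgroup.normalizer (P₀ : Subgroup G) :=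
    Sylow.smul_eq_iff_mem_normalizer.mp hb
  have hbB : g⁻¹ * a * g ∈ B :=
    hN _ (fun u hu => (Subgroup.mem_normalizer_iff.mp hbN u).mp hu)
  have hbp : (g⁻¹ * a * g) ^ p = 1 := by
    have e : g⁻¹ * a * g = MulAut.conj g⁻¹ a := by simp
    rw [e, ← map_pow, ← ha, pow_orderOf_eq_one, map_one]
  have hb1 := hB _ hbB hbp
  have ha1 : a = 1 := by
    calc a = g * (g⁻¹ * a * g) * g⁻¹ := by group
      _ = 1 := by rw [hb1]; group
  rw [ha1, orderOf_one] at ha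
  exact hp.one_lt.ne ha

end Cfsg.Agent.Lib.Helper2.R59NO3
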