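import Mathlib
import Cfsg.Agent.Lib.Helper54.S57Stmt
import Cfsg.Agent.Lib.Helper62.S57Stmt

set_option autoImplicit false

/-! S1357: bridges between the two piece calls (helper62's `Helper62.S57Stmt` and helper54's
`Helper54.S57Stmt`).  `FrobModP = FrobPrime`, `NilProd2 = NilH`, `KPrimeAbs = KPrA` are the same
`Prop`s; `QuotP` and `QuotR` differ by `push_neg`. -/

namespace Cfsg.Agent.Lib.Helper2.S57Bridge

universe u

theorem frobPrime_of (h : Cfsg.Agent.Lib.Helper62.S57Stmt.FrobModP.{u}) :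
    Cfsg.Agent.Lib.Helper54.S57Stmt.FrobPrime.{u} := h

theorem frobModP_of (h : Cfsg.Agent.Lib.Helper54.S57Stmt.FrobPrime.{u}) :
    Cfsg.Agent.Lib.Helper62.S57Stmt.FrobModP.{u} := h

theorem nilH_of (h : Cfsg.Agent.Lib.Helper62.S57Stmt.NilProd2.{u}) :
    Cfsg.Agent.Lib.Helper54.S57Stmt.NilH.{u} := h

theorem nilProd2_of (h : Cfsg.Agent.Lib.Helper54.S57Stmt.NilH.{u}) :
    Cfsg.Agent.Lib.Helper62.S57Stmt.NilProd2.{u} := h

theorem kPrA_of (h : Cfsg.Agent.Lib.Helper62.S57Stmt.KPrimeAbs.{u}) :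
    Cfsg.Agent.Lib.Helper54.S57Stmt.KPrA.{u} := h

theorem kPrimeAbs_of (h : Cfsg.Agent.Lib.Helper54.S57Stmt.KPrA.{u}) :
    Cfsg.Agent.Lib.Helper62.S57Stmt.KPrimeAbs.{u} := h

theorem quotR_of (h : Cfsg.Agent.Lib.Helper62.S57Stmt.QuotP.{u}) :
    Cfsg.Agent.Lib.Helper54.S57Stmt.QuotR.{u} := by
  intro X _ _ H R D N _ _ q hA hB h1 h2 h3 h4 h5 h6 h7 h8 h9
  apply h H R D N q hA hB h1 h2 h3 h4 h5 h6 h7 h8
  by_contra hne
  apply h9
  intro d hd o ho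
  by_contra hdo
  exact hne ⟨d, hd, o, ho, hdo⟩

theorem quotP_of (h : Cfsg.Agent.Lib.Helper54.S57Stmt.QuotR.{u}) :
    Cfsg.Agent.Lib.Helper62.S57Stmt.QuotP.{u} := by
  intro X _ _ H R D N _ _ q hA hB h1 h2 h3 h4 h5 h6 h7 h8 h9
  apply h H R D N q hA hB h1 h2 h3 h4 h5 h6 h7 h8
  intro hall
  obtain ⟨d, hd, o, ho, hdo⟩ := h9
  exact hdo (hall d hd o ho)

end Cfsg.Agent.Lib.Helper2.S57Bridge
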