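import Mathlib
import Cfsg.Agent.Lib.Helper91.SubCount
import Cfsg.Agent.Lib.Helper2.Kul

set_option autoImplicit false

namespace Cfsg.Agent.Lib.Helper2.SubRed

open scoped Pointwise
open Cfsg.Agent.Lib.Helper91

/-- Conjugation of subgroups. -/
def cj {G : Type*} [Group G] (g : G) (H : Subgroup G) : Subgroup G := MulAut.conj g • H

theorem mem_cj {G : Type*} [Group G] (g x : G) (H : Subgroup G) :
    x ∈ cj g H ↔ g⁻¹ * x * g ∈ H := Hall.mem_conj_smul g x H

theorem card_cj {G : Type*} [Group G] (g : G) (H : Subgroup G) :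
    Nat.card (cj g H) = Nat.card H := Hall.card_conj_smul g H

theorem cj_one {G : Type*} [Group G] (H : Subgroup G) : cj 1 H = H := by
  ext x; rw [mem_cj]; simp

theorem cj_mul {G : Type*} [Group G] (g h : G) (H : Subgroup G) : cj (g * h) H = cj g (cj h H) := by
  ext x; rw [mem_cj, mem_cj, mem_cj]; simp [mul_assoc]

theorem cj_le_cj_iff {G : Type*} [Group G] (g : G) (H K : Subgroup G) :
    cj g H ≤ cj g K ↔ H ≤ K := Subgroup.pointwise_smul_le_pointwise_smul_iff

theorem cj_inf {G : Type*} [Group G] (g : G) (H K : Subgroup G) :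
    cj g (H ⊓ K) = cj g H ⊓ cj g K := Subgroup.smul_inf _ _ _

theorem cj_eq_self_iff {G : Type*} [Group G] (g : G) (H : Subgroup G) :
    cj g H = H ↔ g ∈ Subgroup.normalizer (H : Set G) := by
  constructor
  · intro h
    rw [Subgroup.mem_normalizer_iff]
    intro x
    constructor
    · intro hx
      rw [← h, mem_cj]
      simpa [mul_assoc] using hx
    · intro hx
      rw [← h, mem_cj] at hx
      simpa [mul_assoc] using hx
  · intro h
    ext x
    rw [mem_cj]
    have h' := (Subgroup.mem_normalizer_iff.mp (inv_mem h)) x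
    rw [inv_inv] at h'
    exact h'.symm

theorem cj_eq_self_of_mem {G : Type*} [Group G] {g : G} {H : Subgroup G} (hg : g ∈ H) :
    cj g H = H := (cj_eq_self_iff g H).mpr (Subgroup.le_normalizer hg)

theorem cj_inv_cj {G : Type*} [Group G] (g : G) (H : Subgroup G) : cj g⁻¹ (cj g H) = H := by
  rw [← cj_mul, inv_mul_cancel, cj_one]

theorem cj_cj_inv {G : Type*} [Group G] (g : G) (H : Subgroup G) : cj g (cj g⁻¹ H) = H := by
  rw [← cj_mul, mul_inv_cancel, cj_one]

/-- Orbit congruence for conjugation by a subgroup `K`: if `T ⊆ Y` are `K`-invariant sets of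
subgroups and for `H ∈ Y \ T` the index of `N_K(H)` in `K` is divisible by `d`, then
`|Y| ≡ |T| mod d`. -/
theorem conj_modEq {G : Type*} [Group G] [Finite G] (K : Subgroup G)
    (Y T : Set (Subgroup G)) (hTY : T ⊆ Y)
    (hY : ∀ g ∈ K, ∀ H ∈ Y, cj g H ∈ Y) (hT : ∀ g ∈ K, ∀ H ∈ T, cj g H ∈ T) (d : ℕ)
    (hd : ∀ H ∈ Y, H ∉ T → d ∣ (Subgroup.normalizer (H : Set G)).relIndex K) :
    Nat.card Y ≡ Nat.card T [MOD d] := by
  letI : MulAction G (Subgroup G) :=
    MulAction.compHom (Subgroup G) (MulAut.conj : G →* MulAut G)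
  have hsmul : ∀ (g : K) (H : Subgroup G), g • H = cj (g : G) H := fun g H => rfl
  refine SubCount.card_modEq_of_invariant (G := K) (X := Subgroup G) Y T hTY
    (fun g H hH => by rw [hsmul]; exact hY g g.2 H hH)
    (fun g H hH => by rw [hsmul]; exact hT g g.2 H hH) d ?_
  intro H hH hHT
  have hstab : MulAction.stabilizer K H = (Subgroup.normalizer (H : Set G)).subgroupOf K := by
    ext g
    rw [MulAction.mem_stabilizer_iff, hsmul, cj_eq_self_iff, Subgroup.mem_subgroupOf]
  rw [hstab]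
  exact hd H hH hHT

/-- Weighted orbit divisibility. -/
theorem sum_dvd_of_invariant {Γ X : Type*} [Group Γ] [MulAction Γ X] [Finite X]
    (Z : Finset X) (hZ : ∀ (g : Γ) (x : X), x ∈ Z → g • x ∈ Z) (w : X → ℕ)
    (hw : ∀ (g : Γ) (x : X), x ∈ Z → w (g • x) = w x) (d e : ℕ)
    (hd : ∀ x ∈ Z, d ∣ (MulAction.stabilizer Γ x).index) (he : ∀ x ∈ Z, e ∣ w x) :
    d * e ∣ ∑ x ∈ Z, w x := by
  classical
  have := Fintype.ofFinite X
  rw [← Finset.sum_fiberwise_of_maps_to (g := (Quotient.mk (MulAction.orbitRel Γ X)))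
    (t := Finset.univ) (fun x _ => Finset.mem_univ _)]
  apply Finset.dvd_sum
  intro ω _
  by_cases hne : (Finset.filter (fun x => Quotient.mk (MulAction.orbitRel Γ X) x = ω) Z) = ∅
  · rw [hne]; simp
  · obtain ⟨x₁, hx₁⟩ := Finset.nonempty_iff_ne_empty.mpr hne
    simp only [Finset.mem_filter] at hx₁
    obtain ⟨hx₁Z, hx₁ω⟩ := hx₁
    have hset : ((Finset.filter (fun x => Quotient.mk (MulAction.orbitRel Γ X) x = ω) Z
        : Finset X) : Set X) = MulAction.orbit Γ x₁ := by
      ext x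
      simp only [Finset.coe_filter, Set.mem_ofPred_eq]
      constructor
      · rintro ⟨-, hxω⟩
        rw [← hx₁ω] at hxω
        exact MulAction.orbitRel_apply.mp (Quotient.exact hxω)
      · rintro ⟨g, rfl⟩
        refine ⟨hZ g x₁ hx₁Z, ?_⟩
        rw [← hx₁ω]
        exact Quotient.sound (MulAction.orbitRel_apply.mpr ⟨g, rfl⟩)
    have hconst : ∀ x ∈ Finset.filter (fun x => Quotient.mk (MulAction.orbitRel Γ X) x = ω) Z,
        w x = w x₁ := by
      intro x hx
      have hx' : x ∈ MulAction.orbit Γ x₁ := by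
        rw [← hset]; exact hx
      obtain ⟨g, rfl⟩ := hx'
      exact hw g x₁ hx₁Z
    rw [Finset.sum_congr rfl hconst, Finset.sum_const, smul_eq_mul]
    refine Nat.mul_dvd_mul ?_ (he x₁ hx₁Z)
    rw [← Set.ncard_coe_finset, hset, ← MulAction.index_stabilizer]
    exact hd x₁ hx₁Z

/-- Weighted orbit divisibility for conjugation by a subgroup `K`. -/
theorem conj_sum_dvd {G : Type*} [Group G] [Finite G] (K : Subgroup G)
    (Z : Finset (Subgroup G)) (hZ : ∀ g ∈ K, ∀ H ∈ Z, cj g H ∈ Z) (w : Subgroup G → ℕ)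
    (hw : ∀ g ∈ K, ∀ H ∈ Z, w (cj g H) = w H) (d e : ℕ)
    (hd : ∀ H ∈ Z, d ∣ (Subgroup.normalizer (H : Set G)).relIndex K) (he : ∀ H ∈ Z, e ∣ w H) :
    d * e ∣ ∑ H ∈ Z, w H := by
  letI : MulAction G (Subgroup G) :=
    MulAction.compHom (Subgroup G) (MulAut.conj : G →* MulAut G)
  have hsmul : ∀ (g : K) (H : Subgroup G), g • H = cj (g : G) H := fun g H => rfl
  refine sum_dvd_of_invariant (Γ := K) Z
    (fun g H hH => by rw [hsmul]; exact hZ g g.2 H hH) w
    (fun g H hH => by rw [hsmul]; exact hw g g.2 H hH) d e ?_ he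
  intro H hH
  have hstab : MulAction.stabilizer K H = (Subgroup.normalizer (H : Set G)).subgroupOf K := by
    ext g
    rw [MulAction.mem_stabilizer_iff, hsmul, cj_eq_self_iff, Subgroup.mem_subgroupOf]
  rw [hstab]
  exact hd H hH

/-- Fixed points of a `p`-subgroup acting by conjugation. -/
theorem fix_modEq {G : Type*} [Group G] [Finite G] {p : ℕ} [hp : Fact p.Prime] (K : Subgroup G)
    (hK : IsPGroup p K) (Y : Set (Subgroup G)) (hY : ∀ g ∈ K, ∀ H ∈ Y, cj g H ∈ Y) :
    Nat.card Y ≡ Nat.card {H : Subgroup G | H ∈ Y ∧ K ≤ Subgroup.normalizer (H : Set G)}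
      [MOD p] := by
  refine conj_modEq K Y {H : Subgroup G | H ∈ Y ∧ K ≤ Subgroup.normalizer (H : Set G)}
    (fun H hH => hH.1) hY ?_ p ?_
  · intro g hg H hH
    refine ⟨hY g hg H hH.1, ?_⟩
    have : cj g H = H := (cj_eq_self_iff g H).mpr (hH.2 hg)
    rw [this]; exact hH.2
  · intro H hH hHT
    obtain ⟨k, hk⟩ := IsPGroup.iff_card.mp hK
    have h1 : (Subgroup.normalizer (H : Set G)).relIndex K ∣ p ^ k :=
      hk ▸ Subgroup.relIndex_dvd_card _ _
    obtain ⟨j, -, hj⟩ := (Nat.dvd_prime_pow hp.out).mp h1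
    rcases Nat.eq_zero_or_pos j with rfl | hjpos
    · exfalso
      rw [pow_zero, Subgroup.relIndex_eq_one] at hj
      exact hHT ⟨hH, hj⟩
    · rw [hj]; exact dvd_pow_self p hjpos.ne'

theorem normalizer_cj {G : Type*} [Group G] (g : G) (H : Subgroup G) :
    Subgroup.normalizer ((cj g H : Subgroup G) : Set G) = cj g (Subgroup.normalizer (H : Set G)) := by
  ext x
  rw [← cj_eq_self_iff, mem_cj, ← cj_eq_self_iff]
  have e : cj x (cj g H) = cj g (cj (g⁻¹ * x * g) H) := by
    rw [← cj_mul, ← cj_mul]; congr 1; group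
  rw [e]
  constructor
  · intro h
    have := congrArg (cj g⁻¹) h
    rwa [cj_inv_cj, cj_inv_cj] at this
  · intro h
    rw [h]

/-! ### Sylow facts -/

theorem card_dvd_sylow {G : Type*} [Group G] [Finite G] {p : ℕ} [Fact p.Prime] (P : Sylow p G)
    (R : Subgroup G) (hR : IsPGroup p R) : Nat.card R ∣ Nat.card P := by
  obtain ⟨Q, hQ⟩ := hR.exists_le_sylow
  have h1 := Subgroup.card_dvd_of_le hQ
  have h2 : Nat.card (Q : Subgroup G) = Nat.card (P : Subgroup G) := by
    rw [Sylow.card_eq_multiplicity, Sylow.card_eq_multiplicity]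
  rwa [h2] at h1

theorem le_sylow_of_normalizes {G : Type*} [Group G] {p : ℕ} [Fact p.Prime] (P : Sylow p G)
    (H : Subgroup G) (hH : IsPGroup p H) (h : (P : Subgroup G) ≤ Subgroup.normalizer (H : Set G)) :
    H ≤ P := by
  have h1 : IsPGroup p ((P : Subgroup G) ⊔ H : Subgroup G) :=
    IsPGroup.to_sup_of_normal_right' P.2 hH h
  have h2 := P.3 h1 le_sup_left
  rw [← h2]
  exact le_sup_right

/-- Cards between a subgroup of "index `p`" and the big one. -/
theorem card_between {G : Type*} [Group G] [Finite G] {p : ℕ} (hp : p.Prime)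
    {D L R : Subgroup G} (hDL : D ≤ L) (hLR : L ≤ R) (hc : Nat.card D * p = Nat.card R) :
    L = D ∨ L = R := by
  have h1 := Subgroup.card_dvd_of_le hDL
  have h2 := Subgroup.card_dvd_of_le hLR
  obtain ⟨t, ht⟩ := h1
  rw [ht, ← hc] at h2
  have hD0 : 0 < Nat.card D := Nat.card_pos
  have h3 : t ∣ p := Nat.dvd_of_mul_dvd_mul_left hD0 h2
  rcases (Nat.dvd_prime hp).mp h3 with rfl | rfl
  · left
    exact (Subgroup.eq_of_le_of_card_ge hDL (by rw [ht, mul_one])).symm
  · right
    exact Subgroup.eq_of_le_of_card_ge hLR (by rw [ht, hc])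

theorem card_inf_mul_relIndex {G : Type*} [Group G] (H P : Subgroup G) :
    Nat.card (H ⊓ P : Subgroup G) * H.relIndex P = Nat.card P := by
  rw [← Subgroup.inf_relIndex_right, ← Hall.card_subgroupOf_of_le (H ⊓ P) P inf_le_right]
  exact Subgroup.card_mul_index _

/-- Step (a): the Sylow subgroup attached to a subgroup with a `P`-orbit of length `p`. -/
theorem step_a {G : Type*} [Group G] [Finite G] {p : ℕ} [hp : Fact p.Prime] (P : Sylow p G)
    {a : ℕ} (H : Subgroup G) (hH : Nat.card H = p ^ a) (hHP : ¬ H ≤ P)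
    (hN : Nat.card (Subgroup.normalizer (H : Set G) ⊓ P : Subgroup G) * p = Nat.card P) :
    Nat.card (H ⊔ (Subgroup.normalizer (H : Set G) ⊓ P) : Subgroup G) = Nat.card P ∧
    (H ⊔ (Subgroup.normalizer (H : Set G) ⊓ P)) ⊓ P = Subgroup.normalizer (H : Set G) ⊓ P ∧
    H ⊔ (Subgroup.normalizer (H : Set G) ⊓ P) ≤ Subgroup.normalizer (H : Set G) := by
  set N : Subgroup G := Subgroup.normalizer (H : Set G) ⊓ P with hNdef
  set Q : Subgroup G := H ⊔ N with hQdef
  have hHp : IsPGroup p H := IsPGroup.of_card hH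
  have hNp : IsPGroup p N := P.2.to_le inf_le_right
  have hQp : IsPGroup p Q := by
    have := IsPGroup.to_sup_of_normal_right' hNp hHp (inf_le_left : N ≤ Subgroup.normalizer (H : Set G))
    rwa [sup_comm] at this
  have hQle : Q ≤ Subgroup.normalizer (H : Set G) := sup_le Subgroup.le_normalizer inf_le_left
  -- the card of Q
  obtain ⟨Q', hQ'⟩ := hQp.exists_le_sylow
  have hQ'c : Nat.card (Q' : Subgroup G) = Nat.card (P : Subgroup G) := by
    rw [Sylow.card_eq_multiplicity, Sylow.card_eq_multiplicity]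
  have hQc : Nat.card Q = Nat.card P := by
    rcases card_between hp.out (le_sup_right : N ≤ Q) hQ' (hN.trans hQ'c.symm) with h | h
    · exfalso
      apply hHP
      have : H ≤ N := h ▸ (le_sup_left : H ≤ Q)
      exact this.trans inf_le_right
    · have h' : Q = Q' := h
      rw [h', hQ'c]
  refine ⟨hQc, ?_, hQle⟩
  rcases card_between hp.out (le_inf le_sup_right inf_le_right : N ≤ Q ⊓ P) inf_le_right hN with h | h
  · exact h
  · exfalso
    have hPQ : (P : Subgroup G) ≤ Q := by rw [← h]; exact inf_le_left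
    have hPeq : (P : Subgroup G) = Q := Subgroup.eq_of_le_of_card_ge hPQ (by rw [hQc])
    apply hHP
    rw [hPeq]
    exact le_sup_left

/-- Step (b): conversely. -/
theorem step_b {G : Type*} [Group G] [Finite G] {p : ℕ} [hp : Fact p.Prime] (P : Sylow p G)
    {a : ℕ} (Q : Subgroup G) (hQ : Nat.card Q = Nat.card P)
    (hD : Nat.card (Q ⊓ P : Subgroup G) * p = Nat.card P)
    (H : Subgroup G) (hH : Nat.card H = p ^ a) (hHQ : H ≤ Q)
    (hQH : Q ≤ Subgroup.normalizer (H : Set G)) (hHP : ¬ H ≤ P) :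
    Subgroup.normalizer (H : Set G) ⊓ P = Q ⊓ P ∧
    H ⊔ (Subgroup.normalizer (H : Set G) ⊓ P) = Q := by
  have hHp : IsPGroup p H := IsPGroup.of_card hH
  have h1 : Subgroup.normalizer (H : Set G) ⊓ P = Q ⊓ P := by
    rcases card_between hp.out (le_inf (inf_le_left.trans hQH) inf_le_right :
        Q ⊓ P ≤ Subgroup.normalizer (H : Set G) ⊓ P) inf_le_right hD with h | h
    · exact h
    · exfalso
      apply hHP
      apply le_sylow_of_normalizes P H hHp
      rw [← h]; exact inf_le_left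
  refine ⟨h1, ?_⟩
  rw [h1]
  have hle : H ⊔ (Q ⊓ P) ≤ Q := sup_le hHQ inf_le_left
  rcases card_between hp.out (le_sup_right : Q ⊓ P ≤ H ⊔ (Q ⊓ P)) hle (hD.trans hQ.symm) with h | h
  · exfalso
    apply hHP
    have : H ≤ Q ⊓ P := h ▸ (le_sup_left : H ≤ H ⊔ (Q ⊓ P))
    exact this.trans inf_le_right
  · exact h

/-- Step III: the number of normal subgroups of order `p^a` of `Q` not inside `P` is divisible
by `p`. -/
theorem step_three {G : Type*} [Group G] [Finite G] {p : ℕ} [hp : Fact p.Prime] (P : Sylow p G)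
    {a : ℕ} (hdvd : p ^ (a + 1) ∣ Nat.card P) (Q : Subgroup G) (hQ : Nat.card Q = Nat.card P)
    (hD : Nat.card (Q ⊓ P : Subgroup G) * p = Nat.card P) :
    p ∣ Nat.card {H : Subgroup G | Nat.card H = p ^ a ∧ H ≤ Q ∧
      Q ≤ Subgroup.normalizer (H : Set G) ∧ ¬ H ≤ P} := by
  obtain ⟨k, hk⟩ := IsPGroup.iff_card.mp P.2
  have hQp : IsPGroup p Q := IsPGroup.of_card (hQ.trans hk)
  set D : Subgroup G := Q ⊓ P with hDdef
  have hDQ : D ≤ Q := inf_le_left
  -- D is normal in Q
  have hDidx : (D.subgroupOf Q).index = p := by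
    have h1 := Subgroup.card_mul_index (D.subgroupOf Q)
    rw [Hall.card_subgroupOf_of_le D Q hDQ, hQ, ← hD] at h1
    exact Nat.eq_of_mul_eq_mul_left Nat.card_pos h1
  have hDn : (D.subgroupOf Q).Normal := Kul.normal_of_index_p (P := Q) hQp hDidx
  have hQN : Q ≤ Subgroup.normalizer (D : Set G) :=
    (Subgroup.normal_subgroupOf_iff_le_normalizer hDQ).mp hDn
  have hpaD : p ^ a ∣ Nat.card D := by
    have : p ^ a * p ∣ Nat.card D * p := by rw [hD, ← pow_succ]; exact hdvd
    exact Nat.dvd_of_mul_dvd_mul_right hp.out.pos this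
  have hpaQ : p ^ a ∣ Nat.card Q := hpaD.trans (Subgroup.card_dvd_of_le hDQ)
  -- the two fixed-point counts
  have hA := fix_modEq Q hQp {H : Subgroup G | Nat.card H = p ^ a ∧ H ≤ Q}
    (fun g hg H hH => ⟨by rw [card_cj]; exact hH.1, by
      have := (cj_le_cj_iff g H Q).mpr hH.2
      rwa [cj_eq_self_of_mem hg] at this⟩)
  have hA1 : Nat.card {H : Subgroup G | Nat.card H = p ^ a ∧ H ≤ Q} ≡ 1 [MOD p] :=
    Kul.card_le_modEq_one p a hp.out Q hpaQ
  have hB := fix_modEq Q hQp {H : Subgroup G | Nat.card H = p ^ a ∧ H ≤ D}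
    (fun g hg H hH => ⟨by rw [card_cj]; exact hH.1, by
      have := (cj_le_cj_iff g H D).mpr hH.2
      rwa [(cj_eq_self_iff g D).mpr (hQN hg)] at this⟩)
  have hB1 : Nat.card {H : Subgroup G | Nat.card H = p ^ a ∧ H ≤ D} ≡ 1 [MOD p] :=
    Kul.card_le_modEq_one p a hp.out D hpaD
  set A : Set (Subgroup G) := {H : Subgroup G | H ∈ {H : Subgroup G | Nat.card H = p ^ a ∧ H ≤ Q} ∧
    Q ≤ Subgroup.normalizer (H : Set G)} with hAdef
  set B : Set (Subgroup G) := {H : Subgroup G | H ∈ {H : Subgroup G | Nat.card H = p ^ a ∧ H ≤ D} ∧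
    Q ≤ Subgroup.normalizer (H : Set G)} with hBdef
  set F : Set (Subgroup G) := {H : Subgroup G | Nat.card H = p ^ a ∧ H ≤ Q ∧
      Q ≤ Subgroup.normalizer (H : Set G) ∧ ¬ H ≤ P} with hFdef
  have hAB : Nat.card A ≡ Nat.card B [MOD p] := (hA.symm.trans hA1).trans (hB1.symm.trans hB)
  have hunion : A = F ∪ B := by
    ext H
    simp only [hAdef, hBdef, hFdef, Set.mem_ofPred_eq, Set.mem_union]
    constructor
    · rintro ⟨⟨h1, h2⟩, h3⟩
      by_cases hHP : H ≤ P
      · right; exact ⟨⟨h1, le_inf h2 hHP⟩, h3⟩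
      · left; exact ⟨h1, h2, h3, hHP⟩
    · rintro (⟨h1, h2, h3, -⟩ | ⟨⟨h1, h2⟩, h3⟩)
      · exact ⟨⟨h1, h2⟩, h3⟩
      · exact ⟨⟨h1, h2.trans hDQ⟩, h3⟩
  have hdisj : Disjoint F B := by
    rw [Set.disjoint_left]
    intro H hF hB
    simp only [hBdef, hFdef, Set.mem_ofPred_eq] at hF hB
    exact hF.2.2.2 (hB.1.2.trans inf_le_right)
  have hcard : Nat.card A = Nat.card F + Nat.card B := by
    rw [Nat.card_coe_set_eq, Nat.card_coe_set_eq, Nat.card_coe_set_eq, hunion]
    exact Set.ncard_union_eq hdisj (Set.toFinite _) (Set.toFinite _)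
  rw [hcard] at hAB
  have h0 : Nat.card F + Nat.card B ≡ 0 + Nat.card B [MOD p] := by rwa [zero_add]
  exact (Nat.modEq_zero_iff_dvd).mp (Nat.ModEq.add_right_cancel' _ h0)

def cjEquiv {G : Type*} [Group G] (g : G) : Subgroup G ≃ Subgroup G where
  toFun := cj g
  invFun := cj g⁻¹
  left_inv := cj_inv_cj g
  right_inv := cj_cj_inv g

theorem cj_le_sylow_iff {G : Type*} [Group G] {p : ℕ} [Fact p.Prime] (P : Sylow p G) {g : G}
    (hg : g ∈ (P : Subgroup G)) (H : Subgroup G) : cj g H ≤ P ↔ H ≤ P := by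
  have h := cj_le_cj_iff g H (P : Subgroup G)
  rwa [cj_eq_self_of_mem hg] at h

/-- Step II: the subgroups of order `p^a` outside `P` with a `P`-orbit of length exactly `p`
number a multiple of `p²`. -/
theorem step_two {G : Type*} [Group G] [Finite G] {p : ℕ} [hp : Fact p.Prime] (P : Sylow p G)
    {a : ℕ} (hdvd : p ^ (a + 1) ∣ Nat.card P) :
    p * p ∣ Nat.card {H : Subgroup G | Nat.card H = p ^ a ∧ ¬ H ≤ P ∧
      Nat.card (Subgroup.normalizer (H : Set G) ⊓ P : Subgroup G) * p = Nat.card P} := by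
  classical
  haveI := Fintype.ofFinite (Subgroup G)
  obtain ⟨k, hk⟩ := IsPGroup.iff_card.mp P.2
  set Ypf : Finset (Subgroup G) := Finset.univ.filter (fun H => Nat.card H = p ^ a ∧ ¬ H ≤ P ∧
      Nat.card (Subgroup.normalizer (H : Set G) ⊓ P : Subgroup G) * p = Nat.card P) with hYpf
  set Qf : Finset (Subgroup G) := Finset.univ.filter (fun Q => Nat.card Q = Nat.card P ∧
      Nat.card (Q ⊓ P : Subgroup G) * p = Nat.card P) with hQf
  let w : Subgroup G → ℕ := fun Q => Nat.card {H : Subgroup G | Nat.card H = p ^ a ∧ H ≤ Q ∧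
      Q ≤ Subgroup.normalizer (H : Set G) ∧ ¬ H ≤ P}
  have hmaps : ∀ H ∈ Ypf, H ⊔ (Subgroup.normalizer (H : Set G) ⊓ P) ∈ Qf := by
    intro H hH
    simp only [hYpf, Finset.mem_filter, Finset.mem_univ, true_and] at hH
    simp only [hQf, Finset.mem_filter, Finset.mem_univ, true_and]
    obtain ⟨h1, h2, -⟩ := step_a P H hH.1 hH.2.1 hH.2.2
    exact ⟨h1, by rw [h2]; exact hH.2.2⟩
  have h1 := Finset.card_eq_sum_card_fiberwise
    (f := fun H : Subgroup G => H ⊔ (Subgroup.normalizer (H : Set G) ⊓ P)) hmaps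
  have h2 : ∀ Q ∈ Qf, (Ypf.filter (fun H => H ⊔ (Subgroup.normalizer (H : Set G) ⊓ P) = Q)).card
      = w Q := by
    intro Q hQ
    simp only [hQf, Finset.mem_filter, Finset.mem_univ, true_and] at hQ
    show _ = Nat.card {H : Subgroup G // Nat.card H = p ^ a ∧ H ≤ Q ∧
      Q ≤ Subgroup.normalizer (H : Set G) ∧ ¬ H ≤ P}
    rw [← Kul.card_filter_eq]
    congr 1
    ext H
    simp only [hYpf, Finset.mem_filter, Finset.mem_univ, true_and]
    constructor
    · rintro ⟨⟨hc, hHP, hN⟩, rfl⟩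
      obtain ⟨-, -, h3⟩ := step_a P H hc hHP hN
      exact ⟨hc, le_sup_left, h3, hHP⟩
    · rintro ⟨hc, hHQ, hQH, hHP⟩
      obtain ⟨e1, e2⟩ := step_b P Q hQ.1 hQ.2 H hc hHQ hQH hHP
      exact ⟨⟨hc, hHP, by rw [e1]; exact hQ.2⟩, e2⟩
  rw [Finset.sum_congr rfl h2] at h1
  have h3 : p * p ∣ ∑ Q ∈ Qf, w Q := by
    refine conj_sum_dvd (P : Subgroup G) Qf ?_ w ?_ p p ?_ ?_
    · intro g hg Q hQ
      simp only [hQf, Finset.mem_filter, Finset.mem_univ, true_and] at hQ ⊢
      have e : cj g Q ⊓ P = cj g (Q ⊓ P) := by rw [cj_inf, cj_eq_self_of_mem hg]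
      rw [e, card_cj, card_cj]
      exact hQ
    · intro g hg Q _
      refine (Nat.card_congr (Equiv.subtypeEquiv (cjEquiv g) ?_)).symm
      intro H
      show (Nat.card H = p ^ a ∧ H ≤ Q ∧ Q ≤ Subgroup.normalizer (H : Set G) ∧ ¬ H ≤ P) ↔
        (Nat.card (cj g H) = p ^ a ∧ cj g H ≤ cj g Q ∧
          cj g Q ≤ Subgroup.normalizer ((cj g H : Subgroup G) : Set G) ∧ ¬ cj g H ≤ P)
      rw [card_cj, cj_le_cj_iff, normalizer_cj, cj_le_cj_iff, cj_le_sylow_iff P hg]
    · intro Q hQ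
      simp only [hQf, Finset.mem_filter, Finset.mem_univ, true_and] at hQ
      have h1 : (Subgroup.normalizer (Q : Set G)).relIndex P ∣ p ^ k :=
        hk ▸ Subgroup.relIndex_dvd_card _ _
      obtain ⟨j, -, hj⟩ := (Nat.dvd_prime_pow hp.out).mp h1
      rcases Nat.eq_zero_or_pos j with rfl | hjpos
      · exfalso
        rw [pow_zero, Subgroup.relIndex_eq_one] at hj
        have hQp : IsPGroup p Q := IsPGroup.of_card (hQ.1.trans hk)
        have hQP : Q ≤ P := le_sylow_of_normalizes P Q hQp hj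
        have e : Q ⊓ P = Q := inf_eq_left.mpr hQP
        have h2 := hQ.2
        rw [e, hQ.1] at h2
        have hpos : 0 < Nat.card (P : Subgroup G) := Nat.card_pos
        have : p = 1 := by
          have h3 : Nat.card (P : Subgroup G) * p = Nat.card (P : Subgroup G) * 1 := by
            rw [h2, mul_one]
          exact Nat.eq_of_mul_eq_mul_left hpos h3
        exact hp.out.one_lt.ne' this
      · rw [hj]; exact dvd_pow_self p hjpos.ne'
    · intro Q hQ
      simp only [hQf, Finset.mem_filter, Finset.mem_univ, true_and] at hQ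
      exact step_three P hdvd Q hQ.1 hQ.2
  have h4 : Nat.card {H : Subgroup G | Nat.card H = p ^ a ∧ ¬ H ≤ P ∧
      Nat.card (Subgroup.normalizer (H : Set G) ⊓ P : Subgroup G) * p = Nat.card P} = Ypf.card := by
    show Nat.card {H : Subgroup G // Nat.card H = p ^ a ∧ ¬ H ≤ P ∧
      Nat.card (Subgroup.normalizer (H : Set G) ⊓ P : Subgroup G) * p = Nat.card P} = _
    rw [← Kul.card_filter_eq]
  rw [h4, h1]
  exact h3

/-- **Reduction to a Sylow subgroup**: if `p^(a+1)` divides `|P|`, the number of subgroups of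
order `p^a` of `G` is congruent mod `p²` to the number of those of `P`. -/
theorem sylow_reduction {G : Type*} [Group G] [Finite G] {p : ℕ} [hp : Fact p.Prime]
    (P : Sylow p G) {a : ℕ} (hdvd : p ^ (a + 1) ∣ Nat.card P) :
    Nat.card {H : Subgroup G // Nat.card H = p ^ a} ≡
      Nat.card {H : Subgroup (P : Subgroup G) // Nat.card H = p ^ a} [MOD p ^ 2] := by
  obtain ⟨k, hk⟩ := IsPGroup.iff_card.mp P.2
  set Y : Set (Subgroup G) := {H : Subgroup G | Nat.card H = p ^ a} with hYdef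
  set T₀ : Set (Subgroup G) := {H : Subgroup G | Nat.card H = p ^ a ∧ H ≤ P} with hT₀def
  set Yp : Set (Subgroup G) := {H : Subgroup G | Nat.card H = p ^ a ∧ ¬ H ≤ P ∧
      Nat.card (Subgroup.normalizer (H : Set G) ⊓ P : Subgroup G) * p = Nat.card P} with hYpdef
  have h := conj_modEq (P : Subgroup G) Y (T₀ ∪ Yp) ?_ ?_ ?_ (p ^ 2) ?_
  · have hdisj : Disjoint T₀ Yp := by
      rw [Set.disjoint_left]
      intro H h1 h2
      exact h2.2.1 h1.2
    have hcard : Nat.card (T₀ ∪ Yp : Set (Subgroup G)) = Nat.card T₀ + Nat.card Yp := by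
      rw [Nat.card_coe_set_eq, Nat.card_coe_set_eq, Nat.card_coe_set_eq]
      exact Set.ncard_union_eq hdisj (Set.toFinite _) (Set.toFinite _)
    have h2 : p ^ 2 ∣ Nat.card Yp := by
      rw [pow_two]; exact step_two P hdvd
    have h3 : Nat.card T₀ + Nat.card Yp ≡ Nat.card T₀ + 0 [MOD p ^ 2] :=
      Nat.ModEq.add_left _ ((Nat.modEq_zero_iff_dvd).mpr h2)
    rw [add_zero, ← hcard] at h3
    have h4 : Nat.card T₀ = Nat.card {H : Subgroup (P : Subgroup G) // Nat.card H = p ^ a} :=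
      (Kul.card_le_equiv (P : Subgroup G) (p ^ a)).symm
    rw [← h4]
    exact h.trans h3
  · rintro H (hH | hH)
    · exact hH.1
    · exact hH.1
  · intro g _ H hH
    show Nat.card (cj g H) = p ^ a
    rw [card_cj]; exact hH
  · rintro g hg H (hH | hH)
    · left
      exact ⟨by rw [card_cj]; exact hH.1, (cj_le_sylow_iff P hg H).mpr hH.2⟩
    · right
      refine ⟨by rw [card_cj]; exact hH.1, fun hc => hH.2.1 ((cj_le_sylow_iff P hg H).mp hc), ?_⟩
      have e : Subgroup.normalizer ((cj g H : Subgroup G) : Set G) ⊓ P =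
          cj g (Subgroup.normalizer (H : Set G) ⊓ P) := by
        rw [normalizer_cj, cj_inf, cj_eq_self_of_mem hg]
      rw [e, card_cj]
      exact hH.2.2
  · intro H hH hHT
    have hHc : Nat.card H = p ^ a := hH
    have h1 : (Subgroup.normalizer (H : Set G)).relIndex P ∣ p ^ k :=
      hk ▸ Subgroup.relIndex_dvd_card _ _
    obtain ⟨j, -, hj⟩ := (Nat.dvd_prime_pow hp.out).mp h1
    have hnle : ¬ H ≤ P := fun hle => hHT (Or.inl ⟨hHc, hle⟩)
    have hj0 : j ≠ 0 := by
      rintro rfl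
      rw [pow_zero, Subgroup.relIndex_eq_one] at hj
      exact hnle (le_sylow_of_normalizes P H (IsPGroup.of_card hHc) hj)
    have hj1 : j ≠ 1 := by
      rintro rfl
      rw [pow_one] at hj
      have h2 := card_inf_mul_relIndex (Subgroup.normalizer (H : Set G)) (P : Subgroup G)
      rw [hj] at h2
      exact hHT (Or.inr ⟨hHc, hnle, h2⟩)
    rw [hj]
    exact pow_dvd_pow p (by omega)

end Cfsg.Agent.Lib.Helper2.SubRed
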