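import Cfsg.Agent.Lib.Helper61.T2Stmt

set_option autoImplicit false

namespace Cfsg.Agent.Lib.Helper2.T2SYLFIX

universe u v

open MulAction

theorem orderOf_conj' {G : Type u} [Group G] (g x : G) : orderOf (g * x * g⁻¹) = orderOf x := by
  have := MulEquiv.orderOf_eq (MulAut.conj g) x
  simpa [MulAut.conj_apply] using this

/-- `g x g⁻¹ ∈ ⟨x⟩` implies `g⁻¹ x g ∈ ⟨x⟩` (finite group). -/
theorem inv_norm {G : Type u} [Group G] [Finite G] {g x : G}
    (h : g * x * g⁻¹ ∈ Subgroup.zpowers x) : g⁻¹ * x * g ∈ Subgroup.zpowers x := by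
  have hle : Subgroup.zpowers (g * x * g⁻¹) ≤ Subgroup.zpowers x := by
    rw [Subgroup.zpowers_le]; exact h
  have heq : Subgroup.zpowers (g * x * g⁻¹) = Subgroup.zpowers x := by
    apply Subgroup.eq_of_le_of_card_ge hle
    rw [Nat.card_zpowers, Nat.card_zpowers, orderOf_conj']
  have hx : x ∈ Subgroup.zpowers (g * x * g⁻¹) := by
    rw [heq]; exact Subgroup.mem_zpowers x
  obtain ⟨m, hm⟩ := Subgroup.mem_zpowers_iff.mp hx
  rw [conj_zpow] at hm
  rw [Subgroup.mem_zpowers_iff]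
  refine ⟨m, ?_⟩
  calc x ^ m = g⁻¹ * (g * x ^ m * g⁻¹) * g := by group
    _ = g⁻¹ * x * g := by rw [hm]

/-- if `g` normalises `⟨x⟩` and `x` fixes `ω`, then `x` fixes `g • ω`. -/
theorem fix_smul {G : Type u} [Group G] [Finite G] {Ω : Type v} [MulAction G Ω] {x g : G} {ω : Ω}
    (hω : x • ω = ω) (hg : g * x * g⁻¹ ∈ Subgroup.zpowers x) : x • (g • ω) = g • ω := by
  have hx : x ∈ stabilizer G ω := hω
  have hz : Subgroup.zpowers x ≤ stabilizer G ω := by
    rw [Subgroup.zpowers_le]; exact hx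
  have h1 : (g⁻¹ * x * g) • ω = ω := hz (inv_norm hg)
  rw [mul_smul, mul_smul] at h1
  have h2 := congrArg (fun ω' => g • ω') h1
  simpa using h2

/-- the normaliser of `⟨x⟩`, as a subgroup. -/
def NS {G : Type u} [Group G] [Finite G] (x : G) : Subgroup G where
  carrier := {g | g * x * g⁻¹ ∈ Subgroup.zpowers x}
  one_mem' := by simp
  mul_mem' := by
    intro g h hg hh
    simp only [Set.mem_ofPred_eq] at hg hh ⊢
    obtain ⟨m, hm⟩ := Subgroup.mem_zpowers_iff.mp hh
    have e : g * h * x * (g * h)⁻¹ = (g * x * g⁻¹) ^ m := by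
      rw [conj_zpow, hm]; group
    rw [e]
    exact Subgroup.zpow_mem _ hg m
  inv_mem' := by
    intro g hg
    simp only [Set.mem_ofPred_eq] at hg ⊢
    have := inv_norm hg
    rwa [inv_inv]

theorem main : Cfsg.Agent.Lib.Helper61.T2Stmt.SylFix.{u, v} := by
  intro G _ _ Ω _ _ htr x hx h13
  have hprime : Fact (Nat.Prime 13) := ⟨by norm_num⟩
  have part1 : ∀ α β : Ω, x • α = α → x • β = β →
      ∃ g : G, g * x * g⁻¹ ∈ Subgroup.zpowers x ∧ g • α = β := by
    intro α β hα hβ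
    obtain ⟨h, hh⟩ := htr α β
    have hy : (h⁻¹ * x * h) • α = α := by
      rw [mul_smul, mul_smul, hh, hβ, ← hh, inv_smul_smul]
    let x' : stabilizer G α := ⟨x, hα⟩
    let y' : stabilizer G α := ⟨h⁻¹ * x * h, hy⟩
    have hox' : orderOf x' = 13 := by
      rw [← hx]; exact Subgroup.orderOf_mk _ _
    have hoy' : orderOf y' = 13 := by
      have e : orderOf y' = orderOf (h⁻¹ * x * h) := Subgroup.orderOf_mk _ _
      rw [e]
      have e2 := orderOf_conj' h⁻¹ x
      rw [inv_inv] at e2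
      rw [e2, hx]
    have hp1 : IsPGroup 13 (Subgroup.zpowers x') :=
      IsPGroup.of_card (n := 1) (by rw [Nat.card_zpowers, hox']; norm_num)
    have hp2 : IsPGroup 13 (Subgroup.zpowers y') :=
      IsPGroup.of_card (n := 1) (by rw [Nat.card_zpowers, hoy']; norm_num)
    obtain ⟨Q1, hQ1⟩ := hp1.exists_le_sylow
    obtain ⟨Q2, hQ2⟩ := hp2.exists_le_sylow
    obtain ⟨k, hk⟩ := MulAction.exists_smul_eq (stabilizer G α) Q1 Q2
    have hcardQ2 : Nat.card Q2 ≤ 13 := by
      obtain ⟨m, hm⟩ := IsPGroup.iff_card.mp Q2.isPGroup'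
      have hdvd : Nat.card Q2 ∣ Nat.card G :=
        (Subgroup.card_subgroup_dvd_card _).trans (Subgroup.card_subgroup_dvd_card (stabilizer G α))
      rw [hm] at hdvd ⊢
      have hm1 : m ≤ 1 := by
        by_contra hcon
        push Not at hcon
        exact h13 ((pow_dvd_pow 13 hcon).trans hdvd)
      calc 13 ^ m ≤ 13 ^ 1 := Nat.pow_le_pow_right (by norm_num) hm1
        _ = 13 := by norm_num
    have hQ2eq : Subgroup.zpowers y' = (Q2 : Subgroup (stabilizer G α)) := by
      apply Subgroup.eq_of_le_of_card_ge hQ2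
      rw [Nat.card_zpowers, hoy']; exact hcardQ2
    have hmem : k * x' * k⁻¹ ∈ (Q2 : Subgroup (stabilizer G α)) := by
      rw [← hk]
      have hx1 : x' ∈ (Q1 : Subgroup (stabilizer G α)) := hQ1 (Subgroup.mem_zpowers x')
      rw [Sylow.coe_subgroup_smul]
      exact Subgroup.smul_mem_pointwise_smul x' (MulAut.conj k) (Q1 : Subgroup (stabilizer G α)) hx1
    rw [← hQ2eq] at hmem
    obtain ⟨n, hn⟩ := Subgroup.mem_zpowers_iff.mp hmem
    have hn' : (h⁻¹ * x * h) ^ n = (k : G) * x * (k : G)⁻¹ := by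
      have := congrArg (Subtype.val) hn
      simpa [x', y'] using this
    have e1 : (h⁻¹ * x * h) ^ n = h⁻¹ * x ^ n * h := by
      have := conj_zpow (a := h⁻¹) (b := x) (i := n)
      simpa using this
    rw [e1] at hn'
    refine ⟨h * k, ?_, ?_⟩
    · rw [Subgroup.mem_zpowers_iff]
      refine ⟨n, ?_⟩
      calc x ^ n = h * (h⁻¹ * x ^ n * h) * h⁻¹ := by group
        _ = h * ((k : G) * x * (k : G)⁻¹) * h⁻¹ := by rw [hn']
        _ = h * (k : G) * x * (h * (k : G))⁻¹ := by group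
    · have hkα : (k : G) • α = α := k.2
      rw [mul_smul, hkα, hh]
  refine ⟨part1, ?_⟩
  rintro ⟨α, hα⟩
  -- the orbit of α under NS x is the fixed point set of x
  have horb : orbit (NS x) α = {ω : Ω | x • ω = ω} := by
    ext ω
    constructor
    · rintro ⟨g, rfl⟩
      exact fix_smul hα g.2
    · intro hω
      obtain ⟨g, hg1, hg2⟩ := part1 α ω hα hω
      exact ⟨⟨g, hg1⟩, hg2⟩
  have h1 : (stabilizer (NS x) α).index = (orbit (NS x) α).ncard := index_stabilizer (NS x) α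
  have h2 : (orbit (NS x) α).ncard = Nat.card {ω : Ω // x • ω = ω} := by
    rw [horb]
    exact (Nat.card_coe_set_eq {ω : Ω | x • ω = ω}).symm
  rw [← h2, ← h1]
  exact (Subgroup.index_dvd_card _).trans (Subgroup.card_subgroup_dvd_card (NS x))

end Cfsg.Agent.Lib.Helper2.T2SYLFIX
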