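import Cfsg.Agent.Lib.Helper11.WNormal
import Mathlib

/-! Thompson factorization `G = N_G(J(S)) C_G(⟨Z^G⟩)` for a subgroup `Z` contained in every
elementary abelian subgroup of `S` of largest order, when `⟨Z^G⟩` is elementary abelian and `G`
acts `p`-stably on it (generalising `Helper11.WNormal.normalizer_sup_centralizer`). -/

open Cfsg

set_option autoImplicit false
set_option linter.unusedSectionVars false
set_option linter.unusedVariables false

namespace Cfsg.Agent.Lib.Helper2.TFact

open Cfsg.Agent.Lib.Helper11.Thompson Cfsg.Agent.Lib.Helper11.ZJ Cfsg.Agent.Lib.Helper11.StableW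
  Cfsg.Agent.Lib.Helper11.ZJFam Cfsg.Agent.Lib.Helper11.Replace Cfsg.Agent.Lib.Helper11.WNormal
open Cfsg.Agent.Lib.Helper76.PSolv

variable {G : Type*} [Group G] [Finite G] {p : ℕ} [Fact p.Prime]

theorem isPGroup_of_isElementaryAbelian (V : Subgroup G) (hV : IsElementaryAbelian p V) :
    IsPGroup p V := by
  intro g
  refine ⟨1, ?_⟩
  apply Subtype.ext
  simpa using hV.2 g g.2

/-- Every elementary abelian subgroup of `S` of largest order centralizes `⟨Z^G⟩`. -/
theorem maxEA_le_centralizer_gen (S : Sylow p G) (Z : Subgroup G)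
    (hZ : Z ≤ sInf (famE p (S : Subgroup G)))
    (hVea : IsElementaryAbelian p (Subgroup.normalClosure (Z : Set G)))
    (hst : IsPStableOn p (Subgroup.normalClosure (Z : Set G)))
    (A : Subgroup ↥(S : Subgroup G))
    (hA : A ∈ Cfsg.maxElementaryAbelianSubgroups p ↥(S : Subgroup G)) :
    A.map (S : Subgroup G).subtype ≤ Subgroup.centralizer
      ((Subgroup.normalClosure (Z : Set G) : Subgroup G) : Set G) := by
  set V := Subgroup.normalClosure (Z : Set G) with hV
  have hVn : V.Normal := Subgroup.normalClosure_normal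
  have hZV : Z ≤ V := Subgroup.le_normalClosure
  have hVS : V ≤ (S : Subgroup G) :=
    (isPGroup_of_isElementaryAbelian V hVea).le_sylow_of_normal S
  set V' := V.subgroupOf (S : Subgroup G) with hV'
  have hV'n : V'.Normal := inferInstance
  have hV'ea : IsElementaryAbelian p V' := isElementaryAbelian_subgroupOf (S : Subgroup G) V hVea
  have hV'map : V'.map (S : Subgroup G).subtype = V := Subgroup.map_subgroupOf_eq_of_le hVS
  obtain ⟨hA₀, hquad, hnt⟩ := Cfsg.Agent.S0607.result V' hV'ea A hA
  set A₀ := ⁅V', A⁆ ⊔ (A ⊓ Subgroup.centralizer ((⁅V', A⁆ : Subgroup ↥(S : Subgroup G)) : Set ↥(S : Subgroup G))) with hA₀def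
  by_contra hcon
  have hne : ⁅V', A⁆ ≠ ⊥ := by
    intro h0
    apply hcon
    rw [Subgroup.commutator_eq_bot_iff_le_centralizer] at h0
    rintro _ ⟨a, ha, rfl⟩
    rw [Subgroup.mem_centralizer_iff]
    intro v hv
    have hv' : (⟨v, hVS hv⟩ : ↥(S : Subgroup G)) ∈ V' := Subgroup.mem_subgroupOf.mpr hv
    have := Subgroup.mem_centralizer_iff.mp (h0 hv') a ha
    exact (congrArg Subtype.val this).symm
  have hnt' := hnt hne
  set B := A₀.map (S : Subgroup G).subtype with hB
  have hBfam : B ∈ famE p (S : Subgroup G) := ⟨A₀, hA₀, rfl⟩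
  have hBS : B ≤ (S : Subgroup G) := Subgroup.map_subtype_le _
  have hquadG : ⁅⁅V, B⁆, B⁆ = ⊥ := by
    rw [← hV'map, hB, ← Subgroup.map_commutator, ← Subgroup.map_commutator, hquad,
      Subgroup.map_bot]
  set C := Subgroup.centralizer (V : Set G) with hC
  set L := (Cfsg.pCore p (G ⧸ C)).comap (QuotientGroup.mk' C) with hL
  have hLn : L.Normal := (pCore_normal' p _).comap _
  have hCL : C ≤ L := by
    intro c hc'
    show (QuotientGroup.mk' C c) ∈ Cfsg.pCore p (G ⧸ C)
    have : (QuotientGroup.mk' C c) = 1 := (QuotientGroup.eq_one_iff c).mpr hc'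
    rw [this]; exact Subgroup.one_mem _
  have hBL : B ≤ L := by
    intro a ha
    have h2 : ⁅⁅V, Subgroup.zpowers a⁆, Subgroup.zpowers a⁆ = ⊥ := by
      rw [eq_bot_iff, ← hquadG]
      exact Subgroup.commutator_mono
        (Subgroup.commutator_mono le_rfl (Subgroup.zpowers_le.mpr ha))
        (Subgroup.zpowers_le.mpr ha)
    exact hst a h2
  set T := (S : Subgroup G) ⊓ L with hT
  have hBT : B ≤ T := le_inf hBS hBL
  have hTS : T ≤ (S : Subgroup G) := inf_le_left
  have hBT' : B ∈ famE p T := famE_restrict T (S : Subgroup G) B hTS hBfam hBT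
  have hsub : famE p T ⊆ famE p (S : Subgroup G) := famE_subset T (S : Subgroup G) B hTS hBfam hBT
  set X := sInf (famE p T) with hX
  have hWX : Z ≤ X := hZ.trans (sInf_le_sInf hsub)
  have hfrat : Subgroup.normalizer (T : Set G) ⊔ C = ⊤ :=
    frattini_core S C L hCL (fun x hx => mem_preimage_pow C x hx)
  have hXVn : (X ⊓ V).Normal := by
    rw [← Subgroup.normalizer_eq_top_iff, eq_top_iff, ← hfrat]
    apply sup_le
    · intro g hg
      have hgX := famE_normalizer_le (p := p) T hg
      apply Cfsg.Agent.S0650.mem_normalizer_of_conj_mem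
      intro x hx
      exact ⟨(Subgroup.mem_normalizer_iff.mp hgX x).mp hx.1, hVn.conj_mem x hx.2 g⟩
    · intro c hc'
      apply Cfsg.Agent.S0650.mem_normalizer_of_conj_mem
      intro x hx
      have h1 : x * c = c * x := Subgroup.mem_centralizer_iff.mp hc' x hx.2
      have : c * x * c⁻¹ = x := by
        rw [← h1]; simp
      rw [this]; exact hx
  have hVX : V ≤ X ⊓ V := Subgroup.normalClosure_le_normal (le_inf hWX hZV)
  have hVB : V ≤ B := (hVX.trans inf_le_left).trans (sInf_le hBT')
  apply hnt'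
  have hV'A₀ : V' ≤ A₀ := by
    rw [← Subgroup.map_le_map_iff_of_injective (S : Subgroup G).subtype_injective, hV'map]
    exact hVB
  have hA₀c : ⁅A₀, A₀⁆ = ⊥ := Subgroup.commutator_self_eq_bot_iff.mpr hA₀.1.1
  rw [eq_bot_iff, ← hA₀c]
  exact Subgroup.commutator_mono hV'A₀ le_rfl

/-- `G = N_G(J(S)) C_G(⟨Z^G⟩)`. -/
theorem normalizer_sup_centralizer_gen (S : Sylow p G) (Z : Subgroup G)
    (hZ : Z ≤ sInf (famE p (S : Subgroup G)))
    (hVea : IsElementaryAbelian p (Subgroup.normalClosure (Z : Set G)))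
    (hst : IsPStableOn p (Subgroup.normalClosure (Z : Set G))) :
    Subgroup.normalizer (Cfsg.thompsonSubgroupOf p (S : Subgroup G) : Set G) ⊔
      Subgroup.centralizer ((Subgroup.normalClosure (Z : Set G) : Subgroup G) : Set G) = ⊤ := by
  set V := Subgroup.normalClosure (Z : Set G) with hV
  have hVn : V.Normal := Subgroup.normalClosure_normal
  set C := Subgroup.centralizer (V : Set G) with hC
  have hCn : C.Normal := Subgroup.normal_centralizer
  have hfrat := frattini_core S C C le_rfl (fun x hx => ⟨0, by simpa using hx⟩)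
  rw [eq_top_iff, ← hfrat]
  apply sup_le _ le_sup_right
  refine le_trans ?_ le_sup_left
  intro n hn
  apply Cfsg.Agent.S0650.mem_normalizer_of_conj_mem
  have key : (Cfsg.thompsonSubgroupOf p (S : Subgroup G)).map (MulAut.conj n).toMonoidHom ≤
      Cfsg.thompsonSubgroupOf p (S : Subgroup G) := by
    unfold Cfsg.thompsonSubgroupOf Cfsg.thompsonSubgroup
    rw [Subgroup.map_map, Subgroup.map_le_iff_le_comap]
    apply sSup_le
    intro A hA
    rw [← Subgroup.map_le_iff_le_comap, ← Subgroup.map_map]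
    have hBfam : A.map (S : Subgroup G).subtype ∈ famE p (S : Subgroup G) := ⟨A, hA, rfl⟩
    have hBT : A.map (S : Subgroup G).subtype ≤ (S : Subgroup G) ⊓ C :=
      le_inf (Subgroup.map_subtype_le _) (maxEA_le_centralizer_gen S Z hZ hVea hst A hA)
    have hBn : (A.map (S : Subgroup G).subtype).map (MulAut.conj n).toMonoidHom ≤ (S : Subgroup G) ⊓ C := by
      have := Subgroup.map_mono (f := (MulAut.conj n).toMonoidHom) hBT
      rwa [map_conj_eq_of_mem_normalizer _ n hn] at this
    have hBn' : (A.map (S : Subgroup G).subtype).map (MulAut.conj n).toMonoidHom ∈ famE p (S : Subgroup G) := by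
      rw [mem_famE_iff] at hBfam ⊢
      refine ⟨hBn.trans inf_le_left, isElementaryAbelian_map_equiv _ _ hBfam.2.1, ?_⟩
      intro Y hY hYc
      rw [card_map_equiv]; exact hBfam.2.2 Y hY hYc
    obtain ⟨A₂, hA₂, hA₂e⟩ := hBn'
    have hA₂e' : A₂.map (S : Subgroup G).subtype = (A.map (S : Subgroup G).subtype).map (MulAut.conj n).toMonoidHom := hA₂e
    rw [← hA₂e']
    exact Subgroup.map_mono (le_sSup hA₂)
  intro x hx
  exact key ⟨x, hx, rfl⟩

/-- Elementwise form: every `g` is `a * c` with `a ∈ N_G(J(S))`, `c ∈ C_G(⟨Z^G⟩)`. -/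
theorem exists_mul_gen (S : Sylow p G) (Z : Subgroup G)
    (hZ : Z ≤ sInf (famE p (S : Subgroup G)))
    (hVea : IsElementaryAbelian p (Subgroup.normalClosure (Z : Set G)))
    (hst : IsPStableOn p (Subgroup.normalClosure (Z : Set G))) (g : G) :
    ∃ a ∈ Subgroup.normalizer (Cfsg.thompsonSubgroupOf p (S : Subgroup G) : Set G),
      ∃ c ∈ Subgroup.centralizer ((Subgroup.normalClosure (Z : Set G) : Subgroup G) : Set G),
        g = a * c := by
  have h := normalizer_sup_centralizer_gen S Z hZ hVea hst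
  have hCn : (Subgroup.centralizer ((Subgroup.normalClosure (Z : Set G) : Subgroup G) : Set G)).Normal :=
    Subgroup.normal_centralizer
  have hg : g ∈ Subgroup.normalizer (Cfsg.thompsonSubgroupOf p (S : Subgroup G) : Set G) ⊔
      Subgroup.centralizer ((Subgroup.normalClosure (Z : Set G) : Subgroup G) : Set G) := by
    rw [h]; exact Subgroup.mem_top g
  rw [← SetLike.mem_coe, Subgroup.mul_normal] at hg
  obtain ⟨a, ha, c, hc, rfl⟩ := hg
  exact ⟨a, ha, c, hc, rfl⟩

end Cfsg.Agent.Lib.Helper2.TFact
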